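import Cfsg.Agent.Lib.Block.FourLink
import Cfsg.Prelude.Def_Solvable

/-!
# A normaliser of shape `3^3 : S₄` with trivial cores: the standing hypotheses

`G` has a subgroup `J` whose normaliser is the model `Four` of order 648 (the normaliser in `A₉` of
three disjoint three-cycles), and the centralisers of its elements of order three have no nontrivial
normal subgroup of order prime to three (only needed on `J`).
-/

set_option autoImplicit false

namespace CfsgLib.Recog.AltNine

open CfsgLib.Block

universe u

/-- The standing hypotheses. -/
structure Cfg (G : Type u) [Group G] where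
  /-- the normaliser -/
  H : Subgroup G
  /-- the subgroup of order 27 -/
  J : Subgroup G
  hH : H = Subgroup.normalizer (J : Set G)
  /-- the identification of the normaliser -/
  e : FourCube.Four ≃* H
  mem_J : ∀ a : FourCube.Four, ((e a : H) : G) ∈ J ↔ FourCube.InJ (a : FourCube.Big)
  cores : ∀ x ∈ J, orderOf x = 3 →
    Cfsg.pPrimeCore 3 (Subgroup.centralizer ({x} : Set G)) = ⊥

variable {G : Type u} [Group G]

/-- the centralisers of the nontrivial elements of `J` normalise `J` -/
def Cfg.Local (D : Cfg G) : Prop :=
  ∀ j ∈ D.J, j ≠ 1 → Subgroup.centralizer ({j} : Set G) ≤ D.H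

end CfsgLib.Recog.AltNine
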