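import Cfsg.Agent.Lib.Recog.AltNine.Frame

/-!
# The normaliser of the middle element inside the centraliser of the reflection
-/

set_option autoImplicit false
set_option maxRecDepth 100000

namespace CfsgLib.Recog.AltNine

open CfsgLib.Block CfsgLib.Block.FourCube Equiv
open CfsgLib.Recog.SymNine (V Mon act comp monOne x0 e0 e1 e2 Acts Norms scal weight act_comp
  act_one act_add Cube)

/-- an involution permuting the blocks, first kind -/
def kA : A6 := ⟨swap 0 1 * swap 2 3, by simp [Equiv.Perm.mem_alternatingGroup]⟩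
/-- an involution permuting the blocks, second kind -/
def dA : A6 := ⟨swap 0 4 * swap 1 5, by simp [Equiv.Perm.mem_alternatingGroup]⟩

theorem kd_facts : kA * kA = 1 ∧ dA * dA = 1 ∧ eA * kA = kA * eA ∧ eA * dA = dA * eA ∧
    kA * dA * kA = dA * eA ∧ dA * kA * dA = kA * eA ∧ tauA kA = kA ∧ tauA dA = dA * eA ∧
    eA ≠ 1 ∧ kA * dA * (kA * dA) = eA := by decide +kernel

theorem cent_e_conj : ∀ x : S6, x * (eA : S6) = (eA : S6) * x →
    (x * (kA : S6) = (kA : S6) * x ∨ x * (kA : S6) = (kA : S6) * (eA : S6) * x) ∧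
    (x * (dA : S6) = (dA : S6) * x ∨ x * (dA : S6) = (dA : S6) * (eA : S6) * x) := by
  decide +kernel

theorem cent_ek : ∀ x : S6, x * (eA : S6) = (eA : S6) * x → x * (kA : S6) = (kA : S6) * x →
    x ∈ [1, (eA : S6), (kA : S6), (eA * kA : A6)] ∨
      x ∈ [swap 0 1, swap 2 3, swap 4 5, swap 0 1 * swap 2 3 * swap 4 5] := by decide +kernel

theorem cent_ed : ∀ x : S6, x * (eA : S6) = (eA : S6) * x → x * (dA : S6) = (dA : S6) * x →
    x ∈ [1, (eA : S6), (dA : S6), (eA * dA : A6)] ∨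
      x ∈ [(swap 2 3 : S6), swap 2 3 * (eA : S6), swap 2 3 * (dA : S6),
        swap 2 3 * ((eA * dA : A6) : S6)] := by
  decide +kernel

theorem cent_ek' (x : A6) (he : x * eA = eA * x) (hk : x * kA = kA * x) :
    x = 1 ∨ x = eA ∨ x = kA ∨ x = eA * kA := by
  rcases cent_ek x (congrArg Subtype.val he) (congrArg Subtype.val hk) with h | h
  · simp only [List.mem_cons, List.not_mem_nil, or_false] at h
    rcases h with h | h | h | h
    exacts [Or.inl (Subtype.ext h), Or.inr (Or.inl (Subtype.ext h)),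
      Or.inr (Or.inr (Or.inl (Subtype.ext h))), Or.inr (Or.inr (Or.inr (Subtype.ext h)))]
  · exfalso
    have hx := Equiv.Perm.mem_alternatingGroup.1 x.2
    simp only [List.mem_cons, List.not_mem_nil, or_false] at h
    rcases h with h | h | h | h <;> rw [h] at hx <;> simp at hx

theorem cent_ed' (x : A6) (he : x * eA = eA * x) (hd : x * dA = dA * x) :
    x = 1 ∨ x = eA ∨ x = dA ∨ x = eA * dA := by
  rcases cent_ed x (congrArg Subtype.val he) (congrArg Subtype.val hd) with h | h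
  · simp only [List.mem_cons, List.not_mem_nil, or_false] at h
    rcases h with h | h | h | h
    exacts [Or.inl (Subtype.ext h), Or.inr (Or.inl (Subtype.ext h)),
      Or.inr (Or.inr (Or.inl (Subtype.ext h))), Or.inr (Or.inr (Or.inr (Subtype.ext h)))]
  · exfalso
    have hx := Equiv.Perm.mem_alternatingGroup.1 x.2
    simp only [List.mem_cons, List.not_mem_nil, or_false] at h
    rcases h with h | h | h | h <;> rw [h] at hx <;>
      simp [eA, dA] at hx

theorem scal_one_two : ∀ w : V, scal 1 w = w ∧ scal 2 w = -w := by decide +kernel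

universe u

variable {G : Type u} [Group G] {D : Cfg G} (F : Frame D)

/-- the middle element of weight one -/
noncomputable abbrev Frame.u (_F : Frame D) : G := D.pt e1
/-- the reflection fixing the middle coordinate -/
noncomputable abbrev Frame.e : G := F.C.φ eA
/-- the involution permuting the blocks, first kind -/
noncomputable abbrev Frame.k : G := F.C.φ kA
/-- the involution permuting the blocks, second kind -/
noncomputable abbrev Frame.d : G := F.C.φ dA

theorem Frame.s_inv : F.s⁻¹ = F.s := inv_eq_of_mul_eq_one_right F.s_sq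

theorem Frame.s_e : F.s * F.e * F.s⁻¹ = F.e := by rw [Frame.e, F.s_C, tau_facts.2.2.1]

theorem Frame.s_k : F.s * F.k * F.s⁻¹ = F.k := by rw [Frame.k, F.s_C, kd_facts.2.2.2.2.2.2.1]

theorem Frame.s_d : F.s * F.d * F.s⁻¹ = F.d * F.e := by
  rw [Frame.d, F.s_C, kd_facts.2.2.2.2.2.2.2.1, map_mul]

theorem Frame.s_u : F.s * F.u * F.s⁻¹ = F.u⁻¹ := by
  rw [Frame.u, F.s_acts e1, mon_facts.2.2.2.2.2.1, D.pt_neg]

theorem Frame.u_cube : F.u ^ 3 = 1 := D.J_cube (D.pt_mem_J e1)

theorem Frame.u_ne : F.u ≠ 1 := fun h => by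
  have := D.orderOf_pt (v := e1) (by decide)
  rw [show D.pt e1 = 1 from h, orderOf_one] at this
  omega

theorem Frame.commute_u (x : A6) : Commute (F.C.φ x) F.u := F.C.comm x

/-- in the centraliser of the reflection, normalising the middle element -/
def Frame.InN (g : G) : Prop :=
  Commute g F.e ∧ (g * F.u * g⁻¹ = F.u ∨ g * F.u * g⁻¹ = F.u⁻¹)

theorem Frame.InN.mul {F : Frame D} {g h : G} (hg : F.InN g) (hh : F.InN h) : F.InN (g * h) := by
  refine ⟨hg.1.mul_left hh.1, ?_⟩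
  have e : g * h * F.u * (g * h)⁻¹ = g * (h * F.u * h⁻¹) * g⁻¹ := by group
  rw [e]
  rcases hh.2 with h1 | h1 <;> rw [h1]
  · exact hg.2
  · rw [show g * F.u⁻¹ * g⁻¹ = (g * F.u * g⁻¹)⁻¹ by group]
    rcases hg.2 with h2 | h2 <;> rw [h2]
    · exact Or.inr rfl
    · exact Or.inl (inv_inv _)

theorem Frame.inN_of_commute {g : G} (he : Commute g F.e) (hu : Commute g F.u) : F.InN g :=
  ⟨he, Or.inl (by rw [hu.eq, mul_inv_cancel_right])⟩

theorem Frame.inN_s : F.InN F.s := ⟨mul_inv_eq_iff_eq_mul.1 F.s_e, Or.inr F.s_u⟩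

theorem Frame.inN_phi {x : A6} (hx : x * eA = eA * x) : F.InN (F.C.φ x) :=
  F.inN_of_commute ((show Commute x eA from hx).map F.C.φ) (F.commute_u x)

theorem Frame.InN.inv {F : Frame D} {g : G} (hg : F.InN g) : F.InN g⁻¹ := by
  refine ⟨hg.1.inv_left, ?_⟩
  rcases hg.2 with h | h
  · refine Or.inl ?_
    conv_lhs => rw [← h]
    group
  · refine Or.inr ?_
    have h' : g * F.u⁻¹ * g⁻¹ = F.u := by
      rw [show g * F.u⁻¹ * g⁻¹ = (g * F.u * g⁻¹)⁻¹ by group, h, inv_inv]
    conv_lhs => rw [← h']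
    group

/-- the shape of the elements normalising the middle element -/
theorem Frame.InN.shape {F : Frame D} {g : G} (hg : F.InN g) : ∃ (i : ZMod 3) (x : A6),
    x * eA = eA * x ∧ (g = D.pt (scal i e1) * F.C.φ x ∨ g = D.pt (scal i e1) * F.C.φ x * F.s) := by
  have main : ∀ h : G, Commute h F.e → Commute h F.u → ∃ (i : ZMod 3) (x : A6),
      x * eA = eA * x ∧ h = D.pt (scal i e1) * F.C.φ x := by
    intro h he hu
    obtain ⟨i, x, rfl⟩ := F.C.decomp h hu
    refine ⟨i, x, F.C.injective ?_, rfl⟩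
    have hz : Commute (D.pt (scal i e1)) F.e := (D.commute_scal (F.C.comm eA) i).symm
    have h2 := (hz.inv_left.mul_left he).eq
    rw [inv_mul_cancel_left] at h2
    rw [map_mul, map_mul]
    exact h2
  rcases hg.2 with h | h
  · obtain ⟨i, x, hx, rfl⟩ := main g hg.1 (mul_inv_eq_iff_eq_mul.1 h)
    exact ⟨i, x, hx, Or.inl rfl⟩
  · have hgs := hg.mul F.inN_s
    have hu : Commute (g * F.s) F.u := by
      refine mul_inv_eq_iff_eq_mul.1 ?_
      rw [show g * F.s * F.u * (g * F.s)⁻¹ = g * (F.s * F.u * F.s⁻¹) * g⁻¹ by group, F.s_u,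
        show g * F.u⁻¹ * g⁻¹ = (g * F.u * g⁻¹)⁻¹ by group, h, inv_inv]
    obtain ⟨i, x, hx, hgx⟩ := main _ hgs.1 hu
    exact ⟨i, x, hx, Or.inr (by rw [← hgx, mul_assoc, F.s_sq, mul_one])⟩

theorem Frame.u_k (i : ZMod 3) (x : A6) :
    D.pt (scal i e1) * F.C.φ x * (D.pt (scal i e1))⁻¹ = F.C.φ x := by
  rw [(D.commute_scal (F.C.comm x) i).eq.symm, mul_inv_cancel_right]

/-- elements normalising the middle element move the block involutions inside their pairs -/
theorem Frame.InN.conj_k {F : Frame D} {g : G} (hg : F.InN g) :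
    g * F.k * g⁻¹ = F.k ∨ g * F.k * g⁻¹ = F.k * F.e := by
  obtain ⟨i, x, hx, hgx⟩ := hg.shape
  have key : x * kA * x⁻¹ = kA ∨ x * kA * x⁻¹ = kA * eA := by
    rcases (cent_e_conj x (congrArg Subtype.val hx)).1 with h | h
    · exact Or.inl (mul_inv_eq_iff_eq_mul.2 (Subtype.ext h))
    · exact Or.inr (mul_inv_eq_iff_eq_mul.2 (Subtype.ext h))
  have e : g * F.k * g⁻¹ = F.C.φ (x * kA * x⁻¹) := by
    rcases hgx with rfl | rfl
    · rw [show D.pt (scal i e1) * F.C.φ x * F.k * (D.pt (scal i e1) * F.C.φ x)⁻¹ =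
        D.pt (scal i e1) * (F.C.φ x * F.C.φ kA * (F.C.φ x)⁻¹) * (D.pt (scal i e1))⁻¹ by
          rw [Frame.k]; group,
        ← map_inv, ← map_mul, ← map_mul, F.u_k]
    · rw [show D.pt (scal i e1) * F.C.φ x * F.s * F.k * (D.pt (scal i e1) * F.C.φ x * F.s)⁻¹ =
        D.pt (scal i e1) * (F.C.φ x * (F.s * F.k * F.s⁻¹) * (F.C.φ x)⁻¹) * (D.pt (scal i e1))⁻¹ by
          group,
        F.s_k, ← map_inv, ← map_mul, ← map_mul, F.u_k]
  rw [e]
  rcases key with h | h <;> rw [h]
  · exact Or.inl rfl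
  · exact Or.inr (map_mul _ _ _)

/-- elements normalising the middle element move the second involution inside its pair -/
theorem Frame.InN.conj_d {F : Frame D} {g : G} (hg : F.InN g) :
    g * F.d * g⁻¹ = F.d ∨ g * F.d * g⁻¹ = F.d * F.e := by
  obtain ⟨i, x, hx, hgx⟩ := hg.shape
  have key : x * dA * x⁻¹ = dA ∨ x * dA * x⁻¹ = dA * eA := by
    rcases (cent_e_conj x (congrArg Subtype.val hx)).2 with h | h
    · exact Or.inl (mul_inv_eq_iff_eq_mul.2 (Subtype.ext h))
    · exact Or.inr (mul_inv_eq_iff_eq_mul.2 (Subtype.ext h))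
  have hxe : x * eA * x⁻¹ = eA := mul_inv_eq_iff_eq_mul.2 hx
  have hee : ∀ z : A6, z * eA * eA = z := fun z => by
    rw [mul_assoc, tau_facts.2.2.2.2.1, mul_one]
  have key' : x * (dA * eA) * x⁻¹ = dA ∨ x * (dA * eA) * x⁻¹ = dA * eA := by
    rw [show x * (dA * eA) * x⁻¹ = x * dA * x⁻¹ * (x * eA * x⁻¹) by group, hxe]
    rcases key with h | h <;> rw [h]
    · exact Or.inr rfl
    · exact Or.inl (hee dA)
  rcases hgx with rfl | rfl
  · rw [show D.pt (scal i e1) * F.C.φ x * F.d * (D.pt (scal i e1) * F.C.φ x)⁻¹ =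
        D.pt (scal i e1) * (F.C.φ x * F.C.φ dA * (F.C.φ x)⁻¹) * (D.pt (scal i e1))⁻¹ by
          rw [Frame.d]; group,
      ← map_inv, ← map_mul, ← map_mul, F.u_k]
    rcases key with h | h <;> rw [h]
    · exact Or.inl rfl
    · exact Or.inr (map_mul _ _ _)
  · rw [show D.pt (scal i e1) * F.C.φ x * F.s * F.d * (D.pt (scal i e1) * F.C.φ x * F.s)⁻¹ =
        D.pt (scal i e1) * (F.C.φ x * (F.s * F.d * F.s⁻¹) * (F.C.φ x)⁻¹) * (D.pt (scal i e1))⁻¹ by
          group,
      F.s_d, ← map_mul, ← map_inv, ← map_mul, ← map_mul, F.u_k]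
    rcases key' with h | h <;> rw [h]
    · exact Or.inl rfl
    · exact Or.inr rfl

end CfsgLib.Recog.AltNine
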