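import Cfsg.Agent.Lib.Recog.AltNine.NineFacts

/-!
# The centraliser of an involution moving eight points in the alternating group of degree nine
-/

set_option autoImplicit false
set_option maxRecDepth 100000

namespace CfsgLib.Recog.AltNine

open CfsgLib.Block CfsgLib.Block.FourCube Equiv
open CfsgLib.Recog.SymNine (V Mon act comp monOne x0 e0 e1 e2 Acts Norms scal weight act_comp
  act_one act_add Cube)

/-- the four pairs and the fixed point -/
def e8 : (Fin 4 × Fin 2) ⊕ Fin 1 ≃ Fin 9 where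
  toFun := Sum.elim (fun p => (![![0, 3], ![1, 4], ![2, 5], ![6, 7]] : Fin 4 → Fin 2 → Fin 9) p.1 p.2)
    (fun _ => 8)
  invFun := ![.inl (0, 0), .inl (1, 0), .inl (2, 0), .inl (0, 1), .inl (1, 1), .inl (2, 1),
    .inl (3, 0), .inl (3, 1), .inr 0]
  left_inv := by rintro (⟨i, j⟩ | i) <;> fin_cases i <;> first | rfl | (fin_cases j <;> rfl)
  right_inv := by intro i; fin_cases i <;> rfl

/-- a permutation of the pairs -/
def liftPair (σ : Perm (Fin 4)) : Perm (Fin 9) :=
  e8.permCongr (Equiv.sumCongr (Equiv.prodCongrLeft fun _ : Fin 2 => σ) 1)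

/-- exchanging the points of an even number of pairs -/
def flipPair : Fin 4 → Perm (Fin 9) :=
  ![1, swap 0 3 * swap 1 4, swap 0 3 * swap 2 5, swap 0 3 * swap 6 7]

/-- ninety-six elements of the centraliser -/
def elemFour (x : Perm (Fin 4) × Fin 4) : A9 :=
  ⟨liftPair x.1 * flipPair x.2, Equiv.Perm.mem_alternatingGroup.2 (by
    have h : ∀ a, Perm.sign (flipPair a) = 1 := fun a => by fin_cases a <;> simp [flipPair]
    rw [map_mul, h, mul_one, liftPair, Perm.sign_permCongr, Perm.sign_sumCongr,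
      Perm.sign_prodCongrLeft, Fin.prod_univ_two, Perm.sign_one, mul_one, Int.units_mul_self])⟩

theorem elem_comm : ∀ (σ : Perm (Fin 4)) (a : Fin 4),
    elemFour (σ, a) * fourN = fourN * elemFour (σ, a) := by decide +kernel

/-- the pair of a point -/
def pairIdx : Fin 9 → Fin 4 := ![0, 1, 2, 0, 1, 2, 3, 3, 0]

theorem elem_pair : ∀ (σ : Perm (Fin 4)) (a : Fin 4) (i : Fin 4),
    pairIdx ((elemFour (σ, a) : Perm (Fin 9)) (e8 (.inl (i, 0)))) = σ i ∧
    pairIdx (((elemFour (σ, a) * fourN : A9) : Perm (Fin 9)) (e8 (.inl (i, 0)))) = σ i := by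
  decide +kernel

theorem flip_sep : ∀ a b : Fin 4, flipPair a = flipPair b ∨
    flipPair a = flipPair b * (fourN : Perm (Fin 9)) → a = b := by decide +kernel

theorem elem_sep {x y : Perm (Fin 4) × Fin 4}
    (h : elemFour x = elemFour y ∨ elemFour x = elemFour y * fourN) : x = y := by
  obtain ⟨σ, a⟩ := x
  obtain ⟨τ, b⟩ := y
  obtain rfl : σ = τ := by
    refine Equiv.ext fun i => ?_
    rw [← (elem_pair σ a i).1]
    rcases h with h | h <;> rw [h]
    exacts [(elem_pair τ b i).1, (elem_pair τ b i).2]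
  refine Prod.ext rfl (flip_sep a b ?_)
  rcases h with h | h
  · exact Or.inl (mul_left_cancel (congrArg Subtype.val h :
      liftPair σ * flipPair a = liftPair σ * flipPair b))
  · refine Or.inr (mul_left_cancel (a := liftPair σ) ?_)
    rw [← mul_assoc]
    exact congrArg Subtype.val h

/-- an element of order four -/
def yFour : A9 := ⟨swap 0 1 * swap 1 3 * (swap 3 4 * swap 2 5), by
  simp [Equiv.Perm.mem_alternatingGroup]⟩

theorem yFour_facts : yFour * fourN = fourN * yFour ∧ yFour ^ 4 = 1 ∧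
    yFour ^ 2 * yFour ^ 2 = 1 ∧ yFour ^ 2 ≠ 1 ∧ movedN ((yFour ^ 2 : A9) : Perm (Fin 9)) = 4 ∧
    fourN * fourN = 1 ∧ fourN ≠ 1 ∧ movedN (fourN : Perm (Fin 9)) = 8 := by decide +kernel

theorem plane_four : ∀ m ∈ [monOne, τm], ∀ v : V,
    toNine (bigV (-v)) * toNine (liftM m) * (fourN : Perm (Fin 9)) =
      (fourN : Perm (Fin 9)) * (toNine (bigV (-v)) * toNine (liftM m)) →
    ∃ k : ZMod 3, toNine (bigV (-v)) * toNine (liftM m) = toNine (bigV (-scal k vv)) ∨
      toNine (bigV (-v)) * toNine (liftM m) = toNine (bigV (-scal k vv)) * (fourN : Perm (Fin 9)) := by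
  decide +kernel

theorem three_sq : ∀ x : Perm (Fin 3), x ^ 4 = 1 → x ^ 2 = 1 := by decide +kernel

theorem five_sq : ∀ x : alternatingGroup (Fin 5), x ^ 4 = 1 → x ^ 2 = 1 := by decide +kernel

end CfsgLib.Recog.AltNine
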