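import Cfsg.Agent.Lib.Recog.AltNine.CentRefl
import Cfsg.Agent.Lib.Recog.AltNine.FourPerm
import Cfsg.Agent.Lib.Recog.AltEight.Local

/-!
# The centraliser of the other involutions, and the embedded group is everything
-/

set_option autoImplicit false
set_option maxRecDepth 100000

namespace CfsgLib.Recog.AltNine

open CfsgLib.Block CfsgLib.Block.FourCube Equiv
open CfsgLib.Recog.SymNine (V Mon act comp monOne x0 e0 e1 e2 Acts Norms scal weight act_comp
  act_one act_add Cube)

universe u

variable {G : Type u} [Group G] {D : Cfg G} {F : Frame D} (E : Emb F)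

/-- the involution moving eight points, in the group -/
noncomputable abbrev Emb.W : G := E.φ fourN

theorem Emb.W_sq : E.W * E.W = 1 := by rw [← map_mul, yFour_facts.2.2.2.2.2.1, map_one]

theorem Emb.W_vv : Commute (D.pt vv) E.W := by
  rw [← E.map_pt]
  exact (show Commute (nu vv) fourN from four_weight).map E.φ

/-- the elements commuting with a weight two element and with `W` -/
theorem Emb.cent_W_vv [Finite G] {g : G} (hW : Commute g E.W) (hv : Commute g (D.pt vv)) :
    ∃ k : ZMod 3, g = D.pt (scal k vv) ∨ g = D.pt (scal k vv) * E.W := by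
  obtain ⟨m, hm, ha⟩ := D.exists_acts (D.middle (by decide : 2 ≤ weight (vv : V)) hv)
  have hfix : act m vv = vv := D.pt_inj (by rw [← ha vv, hv.eq, mul_inv_cancel_right])
  obtain ⟨v, hgv⟩ := D.cube.eq_pt_mul_of_acts ha (E.acts_pi m hm)
  have hgy : g = E.φ (nu v * piN m hm) := by rw [map_mul, E.map_pt]; exact hgv.symm
  have hy : nu v * piN m hm * fourN = fourN * (nu v * piN m hm) :=
    E.inj (by rw [map_mul E.φ _ fourN, map_mul E.φ fourN, ← hgy]; exact hW.eq)
  have hmem : m ∈ [monOne, τm] := by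
    rcases stab_vv m hm hfix with h | h <;> simp [h]
  obtain ⟨k, h | h⟩ := plane_four m hmem v (congrArg Subtype.val hy)
  · exact ⟨k, Or.inl (by
      rw [hgy, show nu v * piN m hm = nu (scal k vv) from Subtype.ext h, E.map_pt])⟩
  · exact ⟨k, Or.inr (by
      rw [hgy, show nu v * piN m hm = nu (scal k vv) * fourN from Subtype.ext h, map_mul,
        E.map_pt])⟩

/-- the centraliser of `W` lies in the embedded group -/
theorem Emb.cent_W_le [Finite G] {g : G} (hg : Commute g E.W) : g ∈ E.φ.range := by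
  classical
  set M := Subgroup.centralizer ({E.W} : Set G) with hM
  have memM : ∀ {x}, x ∈ M ↔ Commute x E.W := fun {x} => Subgroup.mem_centralizer_singleton_iff
  let Z : Subgroup M :=
    { carrier := {x | (x : G) = 1 ∨ (x : G) = E.W}
      one_mem' := Or.inl rfl
      mul_mem' := by
        rintro a b (ha | ha) (hb | hb)
        · exact Or.inl (by rw [Subgroup.coe_mul, ha, hb, one_mul])
        · exact Or.inr (by rw [Subgroup.coe_mul, ha, hb, one_mul])
        · exact Or.inr (by rw [Subgroup.coe_mul, ha, hb, mul_one])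
        · exact Or.inl (by rw [Subgroup.coe_mul, ha, hb]; exact E.W_sq)
      inv_mem' := by
        rintro a (ha | ha)
        · exact Or.inl (by rw [Subgroup.coe_inv, ha, inv_one])
        · exact Or.inr (by rw [Subgroup.coe_inv, ha]; exact inv_eq_of_mul_eq_one_right E.W_sq) }
  have hZc : Z ≤ Subgroup.center M := fun z hz => Subgroup.mem_center_iff.2 fun m => Subtype.ext (by
    show (m : G) * z = z * m
    rcases hz with h | h <;> rw [h]
    · rw [one_mul, mul_one]
    · exact (memM.1 m.2).eq)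
  have : Z.Normal := ⟨fun z hz m => by
    rw [Subgroup.mem_center_iff.1 (hZc hz) m, mul_inv_cancel_right]; exact hz⟩
  let q := QuotientGroup.mk' Z
  have qeq : ∀ {a b : M}, q a = q b → (b : G) = a ∨ (b : G) = (a : G) * E.W := by
    intro a b h
    rcases (QuotientGroup.eq.1 h : a⁻¹ * b ∈ Z) with h1 | h1 <;>
      simp only [Subgroup.coe_mul, Subgroup.coe_inv] at h1
    · exact Or.inl (inv_mul_eq_one.1 h1).symm
    · exact Or.inr (inv_mul_eq_iff_eq_mul.1 h1)
  have hWr : E.W ∈ E.φ.range := ⟨_, rfl⟩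
  let M0 : Subgroup (M ⧸ Z) := (E.φ.range.subgroupOf M).map q
  have memM0 : ∀ {x : M}, q x ∈ M0 → (x : G) ∈ E.φ.range := by
    rintro x ⟨y, hy, hyx⟩
    rcases qeq hyx with h | h <;> rw [h]
    exacts [Subgroup.mem_subgroupOf.1 hy, mul_mem (Subgroup.mem_subgroupOf.1 hy) hWr]
  -- the self-centralising subgroup of order three
  have hpM : D.pt vv ∈ M := memM.2 E.W_vv
  set P : M := ⟨D.pt vv, hpM⟩ with hP
  have hP3 : P ^ 3 = 1 := Subtype.ext (D.J_cube (D.pt_mem_J vv))
  set X := Subgroup.zpowers (q P) with hX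
  have hvv1 : D.pt vv ≠ 1 := fun h => by
    have := D.orderOf_pt (v := vv) (by decide)
    rw [h, orderOf_one] at this; omega
  have hXcard : Nat.card X = 3 := by
    have : Fact (Nat.Prime 3) := ⟨Nat.prime_three⟩
    rw [hX, Nat.card_zpowers]
    refine orderOf_eq_prime (by rw [← map_pow, hP3, map_one]) fun h => ?_
    rcases (QuotientGroup.eq_one_iff P).1 h with h1 | h1
    · exact hvv1 h1
    · have h2 : D.pt vv ^ 2 = 1 := by
        rw [show D.pt vv = E.W from h1, pow_two]; exact E.W_sq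
      have h3 := pow_gcd_eq_one.2 ⟨D.J_cube (D.pt_mem_J vv), h2⟩
      rw [show Nat.gcd 3 2 = 1 from rfl, pow_one] at h3
      exact hvv1 h3
  have hXC : Subgroup.centralizer (X : Set (M ⧸ Z)) = X := by
    refine le_antisymm (fun y hy => ?_) fun y hy => Subgroup.mem_centralizer_iff.2 fun z hz => ?_
    · obtain ⟨x, rfl⟩ := QuotientGroup.mk'_surjective Z y
      have h1 : q (x * P * x⁻¹) = q P := by
        rw [map_mul, map_mul, map_inv,
          ← Subgroup.mem_centralizer_iff.1 hy _ (Subgroup.mem_zpowers (q P)), mul_inv_cancel_right]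
      have h2 : Commute (x : G) (D.pt vv) := by
        rcases qeq h1.symm with h | h
        · exact mul_inv_eq_iff_eq_mul.1 h
        · exfalso
          have hWM : E.W ∈ M := memM.2 (Commute.refl _)
          have h3 := congrArg (· ^ 3) h
          simp only [Subgroup.coe_mul, Subgroup.coe_inv, hP, conj_pow, D.J_cube (D.pt_mem_J _),
            mul_one, mul_inv_cancel, E.W_vv.mul_pow, one_mul] at h3
          rw [pow_succ, pow_two, E.W_sq, one_mul] at h3
          exact yFour_facts.2.2.2.2.2.2.1 (E.inj (by rw [map_one]; exact h3.symm))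
      obtain ⟨k, hk⟩ := E.cent_W_vv (memM.1 x.2) h2
      have hqx : q x = q P ^ k.val := by
        rw [← map_pow]
        refine QuotientGroup.eq.2 ?_
        show (x : G)⁻¹ * D.pt vv ^ k.val = 1 ∨ (x : G)⁻¹ * D.pt vv ^ k.val = E.W
        rw [← D.pt_nsmul, ← scal_pow]
        rcases hk with h | h <;> rw [h]
        · exact Or.inl (inv_mul_cancel _)
        · refine Or.inr ?_
          rw [mul_inv_rev, inv_mul_cancel_right, inv_eq_of_mul_eq_one_right E.W_sq]
      show q x ∈ X
      rw [hqx]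
      exact Subgroup.pow_mem _ (Subgroup.mem_zpowers _) _
    · obtain ⟨n, rfl⟩ := Subgroup.mem_zpowers_iff.1 hy
      obtain ⟨l, rfl⟩ := Subgroup.mem_zpowers_iff.1 hz
      exact (Commute.zpow_zpow_self _ l n).eq
  -- the element of order two with the class of the reflection
  obtain ⟨yc, y4, y22, y21, ym, -⟩ := yFour_facts
  have hyM : E.φ yFour ∈ M := memM.2 ((show Commute yFour fourN from yc).map E.φ)
  obtain ⟨c, hc⟩ := conj_eps (x := yFour ^ 2) y22 ym
  set t : M := ⟨E.φ yFour, hyM⟩ ^ 2 with ht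
  have htG : (t : G) = E.φ c * F.e * (E.φ c)⁻¹ := by
    show E.φ yFour ^ 2 = _
    rw [← map_pow, ← hc, map_mul, map_mul, map_inv, E.map_eps]
  have control : ∀ x : M, q x * q t * (q x)⁻¹ ∈ M0 → q x ∈ M0 := by
    intro x hx
    rw [← map_inv, ← map_mul, ← map_mul] at hx
    have h1 : (x : G) * E.φ c * F.e * ((x : G) * E.φ c)⁻¹ ∈ E.φ.range := by
      have := memM0 hx
      simp only [Subgroup.coe_mul, Subgroup.coe_inv, htG] at this
      rwa [show (x : G) * E.φ c * F.e * ((x : G) * E.φ c)⁻¹ =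
        (x : G) * (E.φ c * F.e * (E.φ c)⁻¹) * (x : G)⁻¹ by group]
    have h2 := mul_mem (E.mem_of_conj_e h1) (inv_mem (MonoidHom.mem_range.2 ⟨c, rfl⟩))
    rw [mul_inv_cancel_right] at h2
    exact ⟨x, Subgroup.mem_subgroupOf.2 h2, rfl⟩
  suffices htop : M0 = ⊤ from memM0 (htop.ge (Subgroup.mem_top (q ⟨g, memM.2 hg⟩)))
  have htM0 : q t ∈ M0 := ⟨t, Subgroup.mem_subgroupOf.2 ⟨yFour ^ 2, by
    show E.φ (yFour ^ 2) = E.φ yFour ^ 2
    rw [map_pow]⟩, rfl⟩
  have done : ∀ (N : Subgroup (M ⧸ Z)) (_ : N.Normal), Group.IsNilpotent N →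
      q t ∈ N → M0 = ⊤ := by
    intro N hN hnil htN
    have hle : N ≤ M0 := by
      by_contra hne
      have hlt : M0.subgroupOf N < ⊤ := lt_top_iff_ne_top.2 fun h =>
        hne (Subgroup.subgroupOf_eq_top.1 h)
      obtain ⟨a, haN, ha⟩ := SetLike.exists_of_lt (Group.normalizerCondition_of_isNilpotent _ hlt)
      refine ha (Subgroup.mem_subgroupOf.2 ?_)
      obtain ⟨x, hx⟩ := QuotientGroup.mk'_surjective Z (a : M ⧸ Z)
      rw [← hx]
      refine control x ?_
      have h1 := (Subgroup.mem_normalizer_iff.1 haN ⟨q t, htN⟩).1 (Subgroup.mem_subgroupOf.2 htM0)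
      rw [show q x = (a : M ⧸ Z) from hx]
      exact Subgroup.mem_subgroupOf.1 h1
    refine top_le_iff.1 fun y _ => ?_
    obtain ⟨x, rfl⟩ := QuotientGroup.mk'_surjective Z y
    exact control x (hle (hN.conj_mem _ htN _))
  have hsq : ∀ (N : Subgroup (M ⧸ Z)) [N.Normal],
      (∀ x : (M ⧸ Z) ⧸ N, x ^ 4 = 1 → x ^ 2 = 1) → q t ∈ N := by
    intro N _ h
    rw [← QuotientGroup.eq_one_iff, ht, map_pow, QuotientGroup.mk_pow]
    refine h _ ?_
    rw [← QuotientGroup.mk_pow, ← map_pow, show (⟨E.φ yFour, hyM⟩ : M) ^ 4 = 1 from Subtype.ext (by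
      show E.φ yFour ^ 4 = 1
      rw [← map_pow, y4, map_one]), map_one]
    rfl
  rcases Cfsg.Agent.S3331.result X hXcard hXC with
    ⟨N, hN, hnil, -, hq⟩ | ⟨N, hN, hab, -, hq⟩ | hq
  · refine done N hN hnil (hsq N ?_)
    intro x hx
    rcases hq with hq | ⟨⟨e⟩⟩
    · have h3 : x ^ 3 = 1 := hq ▸ pow_card_eq_one'
      have h1 := pow_gcd_eq_one.2 ⟨h3, hx⟩
      rw [show Nat.gcd 3 4 = 1 from rfl, pow_one] at h1
      rw [h1, one_pow]
    · exact e.injective (by rw [map_pow, map_one]; exact three_sq _ (by rw [← map_pow, hx, map_one]))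
  · obtain ⟨e⟩ := hq
    letI : CommGroup N := { (inferInstance : Group N) with mul_comm := hab.is_comm.comm }
    have hnil : Group.IsNilpotent N := CommGroup.isNilpotent
    refine done N hN hnil (hsq N fun x hx => ?_)
    exact e.injective (by rw [map_pow, map_one]; exact five_sq _ (by rw [← map_pow, hx, map_one]))
  · obtain ⟨e⟩ := hq
    have h168 : Nat.card (M ⧸ Z) = 168 := (Nat.card_congr e.toEquiv).trans SymNine.card_psl_seven
    let j : Perm (Fin 4) × Fin 4 → M0 := fun x =>
      ⟨q ⟨E.φ (elemFour x), memM.2 ((show Commute (elemFour x) fourN from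
        elem_comm x.1 x.2).map E.φ)⟩, ⟨_, Subgroup.mem_subgroupOf.2 ⟨_, rfl⟩, rfl⟩⟩
    have hj : Function.Injective j := fun x y h => by
      refine (elem_sep (x := y) (y := x) ?_).symm
      rcases qeq (congrArg Subtype.val h) with h1 | h1
      · exact Or.inl (E.inj h1)
      · exact Or.inr (E.inj (by rw [map_mul]; exact h1))
    have h96 := Nat.card_le_card_of_injective j hj
    rw [Nat.card_prod, Nat.card_perm, Nat.card_fin] at h96
    have hd : Nat.card M0 ∣ 168 := h168 ▸ M0.card_subgroup_dvd_card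
    have hf : (4 : ℕ).factorial = 24 := rfl
    rw [hf] at h96
    refine Subgroup.eq_top_of_card_eq _ ?_
    rw [h168]
    obtain ⟨r, hr⟩ := hd
    rcases r with _ | _ | r
    · omega
    · omega
    · exfalso; nlinarith

/-- the embedded group is the whole group -/
theorem Emb.eq_top [Finite G] : E.φ.range = ⊤ := by
  by_contra hne
  obtain ⟨g, -, hg⟩ := SetLike.exists_of_lt (lt_top_iff_ne_top.2 hne)
  have : Fact (Nat.Prime 2) := ⟨Nat.prime_two⟩
  set r := g * F.e * g⁻¹ with hr
  have he1 : F.e ≠ 1 := fun h => kd_facts.2.2.2.2.2.2.2.2.1 (F.C.injective (by rw [map_one]; exact h))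
  have hr2 : orderOf r = 2 := by
    refine orderOf_eq_prime ?_ fun h => he1 (conj_eq_one_iff.1 h)
    rw [hr, conj_pow, pow_two, show F.e * F.e = 1 from F.C.e_sq, mul_one, mul_inv_cancel]
  obtain ⟨-, -, -, -, -, f2, f1, f8⟩ := yFour_facts
  have hW2 : orderOf E.W = 2 := orderOf_eq_prime (by rw [pow_two]; exact E.W_sq)
    (fun h => f1 (E.inj (by rw [map_one]; exact h)))
  have hnc : ¬ IsConj r E.W := fun h => by
    obtain ⟨a, ha⟩ := isConj_iff.1 h
    exact E.not_four f2 f8 (a * g) (by rw [← show a * r * a⁻¹ = E.φ fourN from ha, hr]; group)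
  obtain ⟨j, hj, hjr, hjW, -⟩ := CfsgLib.Recog.AltEight.exists_commuting_involution hr2 hW2 hnc
  obtain ⟨x, hx⟩ := E.cent_W_le hjW
  have hj2 : j * j = 1 := by rw [← pow_two, ← hj, pow_orderOf_eq_one]
  have hx2 : x * x = 1 := E.inj (by rw [map_mul, hx, map_one, hj2])
  have hx1 : x ≠ 1 := fun h => by
    rw [← hx, h, map_one, orderOf_one] at hj; omega
  have hmem : r ∈ E.φ.range := by
    have key : ∀ (y c : A9), c * y * c⁻¹ = x → (∀ {z}, Commute z (E.φ y) → z ∈ E.φ.range) →
        r ∈ E.φ.range := by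
      intro y c hc hy
      have h1 : Commute ((E.φ c)⁻¹ * r * E.φ c) (E.φ y) := by
        have := hjr.symm.map (MulAut.conj (E.φ c)⁻¹).toMonoidHom
        simp only [MulEquiv.coe_toMonoidHom, MulAut.conj_apply, inv_inv] at this
        rwa [← hx, ← hc, map_mul, map_mul, map_inv,
          show (E.φ c)⁻¹ * (E.φ c * E.φ y * (E.φ c)⁻¹) * E.φ c = E.φ y by group] at this
      have h2 := mul_mem (mul_mem (MonoidHom.mem_range.2 ⟨c, rfl⟩) (hy h1))
        (inv_mem (MonoidHom.mem_range.2 ⟨c, rfl⟩))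
      rwa [show E.φ c * ((E.φ c)⁻¹ * r * E.φ c) * (E.φ c)⁻¹ = r by group] at h2
    rcases moved_cases hx2 hx1 with h | h
    · obtain ⟨c, hc⟩ := conj_eps hx2 h
      exact key epsN c hc fun {z} hz => E.cent_e_le (E.map_eps ▸ hz)
    · obtain ⟨c, hc⟩ := conj_four hx2 h
      exact key fourN c hc fun {z} hz => E.cent_W_le hz
  exact hg (E.mem_of_conj_e hmem)

end CfsgLib.Recog.AltNine
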