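import Cfsg.Agent.Lib.Recog.AltNine.NineFacts
import Cfsg.Agent.Lib.Invol.BrauerSuzuki
import Mathlib.GroupTheory.FixedPointFree

/-!
# The centraliser of the reflection lies in the embedded alternating group
-/

set_option autoImplicit false
set_option maxRecDepth 100000

namespace CfsgLib.Recog.AltNine

open CfsgLib.Block CfsgLib.Block.FourCube Equiv
open CfsgLib.Recog.SymNine (V Mon act comp monOne x0 e0 e1 e2 Acts Norms scal weight act_comp
  act_one act_add Cube)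

universe u

variable {G : Type u} [Group G] {D : Cfg G} {F : Frame D}

/-- normalising the pair of the second involution, in the centraliser of the reflection -/
def Frame.InP (F : Frame D) (g : G) : Prop :=
  Commute g F.e ∧ (g * F.d * g⁻¹ = F.d ∨ g * F.d * g⁻¹ = F.d * F.e)

theorem Frame.de_comm : Commute F.d F.e := F.phi_e dA kd_facts.2.2.2.1.symm

theorem Frame.de_e : F.d * F.e * F.e = F.d := by
  rw [mul_assoc, show F.e * F.e = 1 from F.C.e_sq, mul_one]

theorem Frame.d_sq : F.d * F.d = 1 := by rw [Frame.d, ← map_mul, kd_facts.2.1, map_one]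

theorem Frame.d_ne_one : F.d ≠ 1 := fun h =>
  (by decide +kernel : dA ≠ 1) (F.C.injective (by rw [map_one]; exact h))

theorem Frame.d_ne_e : F.d ≠ F.e := fun h => (by decide +kernel : dA ≠ eA) (F.C.injective h)

theorem Frame.InP.mul {g h : G} (hg : F.InP g) (hh : F.InP h) : F.InP (g * h) := by
  refine ⟨hg.1.mul_left hh.1, ?_⟩
  have e : g * h * F.d * (g * h)⁻¹ = g * (h * F.d * h⁻¹) * g⁻¹ := by group
  have ge : g * F.e * g⁻¹ = F.e := mul_inv_eq_iff_eq_mul.2 hg.1.eq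
  rw [e]
  rcases hh.2 with h1 | h1 <;> rw [h1]
  · exact hg.2
  · rw [show g * (F.d * F.e) * g⁻¹ = g * F.d * g⁻¹ * (g * F.e * g⁻¹) by group, ge]
    rcases hg.2 with h2 | h2 <;> rw [h2]
    · exact Or.inr rfl
    · exact Or.inl F.de_e

theorem Frame.InP.inv {g : G} (hg : F.InP g) : F.InP g⁻¹ := by
  refine ⟨hg.1.inv_left, ?_⟩
  have ge : g⁻¹ * F.e * g = F.e := by
    rw [mul_assoc]; exact inv_mul_eq_iff_eq_mul.2 hg.1.eq.symm
  rcases hg.2 with h | h
  · refine Or.inl ?_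
    conv_lhs => rw [← h]
    group
  · refine Or.inr ?_
    have e : g⁻¹ * (F.d * F.e) * g⁻¹⁻¹ = F.d := by rw [← h]; group
    rw [show g⁻¹ * F.d * g⁻¹⁻¹ = g⁻¹ * (F.d * F.e) * g⁻¹⁻¹ * (g⁻¹ * F.e * g)⁻¹ by group, e, ge,
      inv_eq_of_mul_eq_one_right (show F.e * F.e = 1 from F.C.e_sq)]

theorem Frame.inP_of_Y {g : G} (hg : g ∈ F.K2.Y) : F.InP g :=
  ⟨(F.K2.mem_Y.1 hg).1, Or.inl (mul_inv_eq_iff_eq_mul.2 (F.K2.mem_Y.1 hg).2.eq)⟩

theorem Frame.k_d : F.k * F.d * F.k⁻¹ = F.d * F.e := by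
  rw [Frame.k, Frame.d, Frame.e, ← map_inv, ← map_mul, ← map_mul, ← map_mul,
    inv_eq_of_mul_eq_one_right kd_facts.1, kd_facts.2.2.2.2.1]

theorem Frame.inP_k : F.InP F.k := ⟨F.phi_e kA kd_facts.2.2.1.symm, Or.inr F.k_d⟩

theorem Frame.e_conj_d : (∃ g : G, g * F.e * g⁻¹ = F.d) ∧ ∃ g : G, g * F.e * g⁻¹ = F.d * F.e := by
  obtain ⟨-, -, -, be, bd⟩ := β_facts
  refine ⟨⟨(F.C.φ βA)⁻¹, ?_⟩, ⟨F.C.φ βA, ?_⟩⟩
  · rw [Frame.e, ← map_inv, ← map_inv, ← map_mul, ← map_mul]
    refine congrArg F.C.φ ?_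
    conv_lhs => rw [← bd]
    group
  · rw [Frame.e, Frame.d, ← map_inv, ← map_mul, ← map_mul, ← map_mul, be, kd_facts.2.2.2.1]

variable (E : Emb F)

/-- involutions moving eight points are not conjugate to the reflection -/
theorem Emb.not_four [Finite G] {x : A9} (hx : x * x = 1) (h8 : movedN x = 8) (g : G) :
    g * F.e * g⁻¹ ≠ E.φ x := by
  intro h
  obtain ⟨c, hc⟩ := conj_four hx h8
  refine F.not_conj_e (w := (1, 1, 0)) (by decide) (x := E.φ fourN) ?_ ((E.φ c)⁻¹ * g) ?_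
  · rw [← E.map_pt]
    exact (show Commute (nu ((1, 1, 0) : V)) fourN from four_weight).map E.φ
  · rw [show (E.φ c)⁻¹ * g * F.e * ((E.φ c)⁻¹ * g)⁻¹ = (E.φ c)⁻¹ * (g * F.e * g⁻¹) * E.φ c by
      group, h, ← hc, map_mul, map_mul, map_inv]
    group

theorem Emb.map_del [Finite G] : (E.φ delN = F.d ∧ E.φ (delN * epsN) = F.d * F.e) ∨
    (E.φ (delN * epsN) = F.d ∧ E.φ delN = F.d * F.e) := by
  obtain ⟨x, hx⟩ := E.C_le dA
  change E.φ x = F.d at hx
  obtain ⟨m, hb, -⟩ := E.map_b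
  have key : ∀ t, Commute F.d (E.φ t) → x * t = t * x := fun t h =>
    E.inj (by rw [map_mul, map_mul, hx]; exact h.eq)
  have hud : Commute F.d F.u := F.commute_u dA
  have h2 : x * x = 1 := E.inj (by rw [map_mul, hx, map_one, F.d_sq])
  have hx1 : x ≠ 1 := fun e => F.d_ne_one (by rw [← hx, e, map_one])
  have h3 : x * t9 3 = t9 3 * x := key _ (by rw [← nu_basis.2.1, E.map_pt]; exact hud)
  have h4 : x * t9 4 = t9 4 * x := key _ (by
    rw [hb]
    exact ((hud.pow_right _).mul_right ((F.K2.mem_Y.1 F.a7_mem).2.symm)).mul_right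
      (hud.pow_right _).inv_right)
  have h0 : x * t9 0 = t9 0 * x := key _ (by rw [E.map_a]; exact (F.K2.mem_Y.1 F.a3_mem).2.symm)
  have hee : epsN * epsN = 1 := by decide +kernel
  rcases centre h2 (key _ (by rw [E.map_eps]; exact F.de_comm)) (moved_cases h2 hx1) h0 h3 h4 with
    rfl | rfl | rfl
  · exact absurd (E.map_eps.symm.trans hx).symm F.d_ne_e
  · exact Or.inl ⟨hx, by rw [map_mul, hx, E.map_eps]⟩
  · refine Or.inr ⟨hx, ?_⟩
    rw [← hx, ← E.map_eps, ← map_mul, mul_assoc, hee, mul_one]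

theorem Emb.inP_le [Finite G] {g : G} (hg : F.InP g) : g ∈ E.φ.range := by
  rcases hg.2 with h | h
  · exact E.Y_le (F.K2.mem_Y.2 ⟨hg.1, mul_inv_eq_iff_eq_mul.1 h⟩)
  · have hk := F.inP_k.mul hg
    have hd : F.k * g * F.d * (F.k * g)⁻¹ = F.d := by
      rw [show F.k * g * F.d * (F.k * g)⁻¹ = F.k * (g * F.d * g⁻¹) * F.k⁻¹ by group, h,
        show F.k * (F.d * F.e) * F.k⁻¹ = F.k * F.d * F.k⁻¹ * (F.k * F.e * F.k⁻¹) by group, F.k_d,
        mul_inv_eq_iff_eq_mul.2 F.inP_k.1.eq, F.de_e]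
    have h1 : F.k * g ∈ E.φ.range :=
      E.Y_le (F.K2.mem_Y.2 ⟨hk.1, mul_inv_eq_iff_eq_mul.1 hd⟩)
    have h2 := mul_mem (inv_mem (E.C_le kA)) h1
    rwa [inv_mul_cancel_left] at h2

theorem Emb.inP_of_range [Finite G] {x : A9} (hx : x * epsN = epsN * x) : F.InP (E.φ x) := by
  refine ⟨by rw [← E.map_eps]; exact (show Commute x epsN from hx).map E.φ, ?_⟩
  have hxe : x * epsN * x⁻¹ = epsN := mul_inv_eq_iff_eq_mul.2 hx
  have hee : epsN * epsN = 1 := by decide +kernel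
  have both : x * (delN * epsN) * x⁻¹ = delN ∨ x * (delN * epsN) * x⁻¹ = delN * epsN := by
    rw [show x * (delN * epsN) * x⁻¹ = x * delN * x⁻¹ * (x * epsN * x⁻¹) by group, hxe]
    rcases cent_del hx with h | h <;> rw [h]
    · exact Or.inr rfl
    · exact Or.inl (by rw [mul_assoc, hee, mul_one])
  rcases E.map_del with ⟨h1, h2⟩ | ⟨h1, h2⟩
  · rw [← h2, ← h1, ← map_inv, ← map_mul, ← map_mul]
    rcases cent_del hx with h | h <;> rw [h]
    exacts [Or.inl rfl, Or.inr rfl]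
  · rw [← h2, ← h1, ← map_inv, ← map_mul, ← map_mul]
    rcases both with h | h <;> rw [h]
    exacts [Or.inr rfl, Or.inl rfl]

/-- elements fixing the pair of a conjugate of the block involution normalise the pair of `d` -/
theorem Frame.inP_of_fuse [Finite G] {g₀ : G} (hg₀ : g₀ ∈ F.K2.Y) {h : G} (he : Commute h F.e)
    (hs : h * (g₀ * F.k * g₀⁻¹) * h⁻¹ = g₀ * F.k * g₀⁻¹ ∨
      h * (g₀ * F.k * g₀⁻¹) * h⁻¹ = g₀ * F.k * g₀⁻¹ * F.e) : F.InP h := by
  have hP := F.inP_of_Y hg₀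
  have hge : g₀⁻¹ * F.e * g₀ = F.e := by
    rw [mul_assoc]; exact inv_mul_eq_iff_eq_mul.2 hP.1.eq.symm
  set w := g₀⁻¹ * h * g₀ with hw
  have hwe : Commute w F.e := (hP.1.inv_left.mul_left he).mul_left hP.1
  have hwk : w * F.k * w⁻¹ = F.k ∨ w * F.k * w⁻¹ = F.k * F.e := by
    have e : w * F.k * w⁻¹ = g₀⁻¹ * (h * (g₀ * F.k * g₀⁻¹) * h⁻¹) * g₀ := by rw [hw]; group
    rcases hs with h1 | h1 <;> rw [h1] at e
    · exact Or.inl (by rw [e]; group)
    · exact Or.inr (by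
        rw [e, show g₀⁻¹ * (g₀ * F.k * g₀⁻¹ * F.e) * g₀ = F.k * (g₀⁻¹ * F.e * g₀) by group, hge])
  have hwP : F.InP w := ⟨hwe, (F.cent_k hwe hwk).conj_d⟩
  have := (hP.mul hwP).mul hP.inv
  rwa [hw, show g₀ * (g₀⁻¹ * h * g₀) * g₀⁻¹ = h by group] at this

/-- the elements of order three normalising the middle element and centralising the reflection -/
theorem Frame.InN.of_cube {g : G} (hg : F.InN g) (h3 : g ^ 3 = 1) :
    ∃ i : ZMod 3, g = D.pt (scal i e1) := by
  have hu : Commute g F.u := by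
    rcases hg.2 with h | h
    · exact mul_inv_eq_iff_eq_mul.1 h
    · exfalso
      have h' : g * F.u⁻¹ * g⁻¹ = F.u := by
        rw [show g * F.u⁻¹ * g⁻¹ = (g * F.u * g⁻¹)⁻¹ by group, h, inv_inv]
      have e : g ^ 3 * F.u * (g ^ 3)⁻¹ = F.u⁻¹ := by
        rw [pow_succ, pow_two, show g * g * g * F.u * (g * g * g)⁻¹ =
          g * (g * (g * F.u * g⁻¹) * g⁻¹) * g⁻¹ by group, h, h', h]
      rw [h3, one_mul, inv_one, mul_one] at e
      refine F.u_ne ?_
      have h1 := pow_gcd_eq_one.2 ⟨F.u_cube, show F.u ^ 2 = 1 by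
        rw [pow_two]; exact mul_eq_one_iff_eq_inv.2 e⟩
      rwa [show Nat.gcd 3 2 = 1 from rfl, pow_one] at h1
  obtain ⟨i, x, hgx⟩ := F.C.decomp g hu
  have hz : Commute (D.pt (scal i e1)) (F.C.φ x) := (D.commute_scal (F.C.comm x) i).symm
  have hxe : x * eA = eA * x := F.C.injective (by
    have h := (((D.commute_scal (F.C.comm eA) i).symm).inv_left.mul_left (hgx ▸ hg.1)).eq
    rw [inv_mul_cancel_left] at h
    rw [map_mul, map_mul]; exact h)
  have hx3 : x ^ 3 = 1 := F.C.injective (by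
    rw [hgx, hz.mul_pow, D.J_cube (D.pt_mem_J _), one_mul] at h3
    rw [map_pow, map_one]; exact h3)
  have hx4 : x ^ 4 = 1 := by
    rw [show (4 : ℕ) = 2 * 2 from rfl, pow_mul, pow_two x]
    rcases (D8_facts x (mem_D8 hxe)).2.1 with h | h <;> rw [h]
    · rw [one_pow]
    · rw [pow_two]; exact tau_facts.2.2.2.2.1
  have h1 := pow_gcd_eq_one.2 ⟨hx3, hx4⟩
  rw [show Nat.gcd 3 4 = 1 from rfl, pow_one] at h1
  exact ⟨i, by rw [hgx, h1, map_one, mul_one]⟩

include E in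
/-- the second involution is isolated modulo the reflection -/
theorem Emb.isolated [Finite G] {g : G} (hg : Commute g F.e)
    (hP : F.InP (g * F.d * g⁻¹)) : F.InP g := by
  obtain ⟨x, hx⟩ := E.inP_le hP
  have hc : x * epsN = epsN * x := E.inj (by rw [map_mul, map_mul, hx, E.map_eps]; exact hP.1.eq)
  have h2 : x * x = 1 := E.inj (by
    rw [map_mul, hx, map_one, show g * F.d * g⁻¹ * (g * F.d * g⁻¹) = g * (F.d * F.d) * g⁻¹ by
      group, F.d_sq, mul_one, mul_inv_cancel])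
  have hx1 : x ≠ 1 := fun e => F.d_ne_one (conj_eq_one_iff.1 (by rw [← hx, e, map_one]))
  obtain ⟨⟨c1, hc1⟩, ⟨c2, hc2⟩⟩ := F.e_conj_d
  have ge : g * F.e * g⁻¹ = F.e := mul_inv_eq_iff_eq_mul.2 hg.eq
  have h4 : movedN x = 4 := (moved_cases h2 hx1).resolve_right fun h8 =>
    E.not_four h2 h8 (g * c1) (by
      rw [show g * c1 * F.e * (g * c1)⁻¹ = g * (c1 * F.e * c1⁻¹) * g⁻¹ by group, hc1, hx])
  have h8 : movedN ((x * epsN : A9) : Perm (Fin 9)) ≠ 8 := fun h8 =>
    E.not_four (by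
      rw [show x * epsN * (x * epsN) = x * (epsN * x) * epsN by group, ← hc, ← mul_assoc, h2,
        one_mul]
      decide +kernel) h8 (g * c2) (by
      rw [show g * c2 * F.e * (g * c2)⁻¹ = g * (c2 * F.e * c2⁻¹) * g⁻¹ by group, hc2,
        show g * (F.d * F.e) * g⁻¹ = g * F.d * g⁻¹ * (g * F.e * g⁻¹) by group, ge, map_mul, hx,
        E.map_eps])
  rcases classes h2 hc h4 h8 with (rfl | rfl | rfl) | ⟨c, hce, hcs⟩
  · exfalso
    rw [E.map_eps] at hx
    exact F.d_ne_e (mul_left_cancel (mul_right_cancel (hx.symm.trans ge.symm)))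
  · refine ⟨hg, ?_⟩
    rcases E.map_del with ⟨h1, -⟩ | ⟨-, h1⟩ <;> rw [h1] at hx
    exacts [Or.inl hx.symm, Or.inr hx.symm]
  · refine ⟨hg, ?_⟩
    rcases E.map_del with ⟨-, h1⟩ | ⟨h1, -⟩ <;> rw [h1] at hx
    exacts [Or.inr hx.symm, Or.inl hx.symm]
  · exfalso
    obtain ⟨g₀, hg₀, hgk⟩ := F.exists_fuse
    have hge₀ : Commute g₀ F.e := (F.K2.mem_Y.1 hg₀).1
    set a := E.φ c with ha
    have hae : Commute a F.e := by
      rw [ha, ← E.map_eps]; exact (show Commute c epsN from hce).map E.φ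
    set h := g₀⁻¹ * a⁻¹ * g with hh
    have hhe : Commute h F.e := (hge₀.inv_left.mul_left hae.inv_left).mul_left hg
    have hs : a⁻¹ * (g * F.d * g⁻¹) * a = F.s := by
      rw [← hx, ← hcs, map_mul, map_mul, map_inv, ← ha, E.map_sig]; group
    have hkd : h * F.d * h⁻¹ = F.k ∨ h * F.d * h⁻¹ = F.k * F.e := by
      have e : h * F.d * h⁻¹ = g₀⁻¹ * (a⁻¹ * (g * F.d * g⁻¹) * a) * g₀ := by rw [hh]; group
      rw [hs] at e
      have g₀e : g₀⁻¹ * F.e * g₀ = F.e := by
        rw [mul_assoc]; exact inv_mul_eq_iff_eq_mul.2 hge₀.eq.symm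
      rcases hgk with h1 | h1
      · exact Or.inl (by rw [e, ← h1]; group)
      · refine Or.inr ?_
        have h2 : F.s = g₀ * F.k * g₀⁻¹ * F.e := by
          rw [h1, mul_assoc, show F.e * F.e = 1 from F.C.e_sq, mul_one]
        rw [e, h2, show g₀⁻¹ * (g₀ * F.k * g₀⁻¹ * F.e) * g₀ = F.k * (g₀⁻¹ * F.e * g₀) by group,
          g₀e]
    have key : ∀ z ∈ F.K2.Y, F.InN (h * z * h⁻¹) := by
      intro z hz
      obtain ⟨hze, hzd⟩ := F.K2.mem_Y.1 hz
      have hwe : Commute (h * z * h⁻¹) F.e := (hhe.mul_left hze).mul_left hhe.inv_left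
      refine F.inN_of_ek hwe ?_
      have h1 : Commute (h * z * h⁻¹) (h * F.d * h⁻¹) := hzd.map (MulAut.conj h).toMonoidHom
      rcases hkd with e | e <;> rw [e] at h1
      · exact h1
      · have h3 := h1.mul_right hwe
        rwa [mul_assoc F.k, show F.e * F.e = 1 from F.C.e_sq, mul_one] at h3
    obtain ⟨-, -, -, -, c3, -, -, cq⟩ := z0_facts
    obtain ⟨i, hi⟩ := (key _ F.K2.u_mem).of_cube (by rw [conj_pow, F.u_cube]; group)
    obtain ⟨j, hj⟩ := (key _ F.a3_mem).of_cube (by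
      rw [conj_pow, Frame.a3, ← map_pow, pow_succ, pow_two, c3, map_one]; group)
    have hcomm : Commute (h * F.a3 * h⁻¹) (h * F.u * h⁻¹) := by
      rw [hi, hj]; exact D.commute_pt _ _
    have h5 := hcomm.map (MulAut.conj h⁻¹).toMonoidHom
    simp only [MulEquiv.coe_toMonoidHom, MulAut.conj_apply, inv_inv] at h5
    rw [show h⁻¹ * (h * F.a3 * h⁻¹) * h = F.a3 by group,
      show h⁻¹ * (h * F.u * h⁻¹) * h = F.u by group] at h5
    exact cq (F.C'.injective (by rw [map_mul, map_mul, ← F.u_eq]; exact h5.eq))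

/-- the centraliser of the reflection lies in the embedded group -/
theorem Emb.cent_e_le [Finite G] {g : G} (hg : Commute g F.e) : g ∈ E.φ.range := by
  classical
  refine E.inP_le ?_
  set C := Subgroup.centralizer ({F.e} : Set G) with hC
  have memC : ∀ {x}, x ∈ C ↔ Commute x F.e := fun {x} => Subgroup.mem_centralizer_singleton_iff
  have heC : F.e ∈ C := memC.2 (Commute.refl _)
  let Z : Subgroup C :=
    { carrier := {x | (x : G) = 1 ∨ (x : G) = F.e}
      one_mem' := Or.inl rfl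
      mul_mem' := by
        rintro a b (ha | ha) (hb | hb)
        · exact Or.inl (by rw [Subgroup.coe_mul, ha, hb, one_mul])
        · exact Or.inr (by rw [Subgroup.coe_mul, ha, hb, one_mul])
        · exact Or.inr (by rw [Subgroup.coe_mul, ha, hb, mul_one])
        · exact Or.inl (by rw [Subgroup.coe_mul, ha, hb]; exact F.C.e_sq)
      inv_mem' := by
        rintro a (ha | ha)
        · exact Or.inl (by rw [Subgroup.coe_inv, ha, inv_one])
        · exact Or.inr (by rw [Subgroup.coe_inv, ha]; exact inv_eq_of_mul_eq_one_right F.C.e_sq) }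
  have hZc : Z ≤ Subgroup.center C := fun z hz => Subgroup.mem_center_iff.2 fun m => Subtype.ext (by
    show (m : G) * z = z * m
    rcases hz with h | h <;> rw [h]
    · rw [one_mul, mul_one]
    · exact (memC.1 m.2).eq)
  have : Z.Normal := ⟨fun z hz m => by
    rw [Subgroup.mem_center_iff.1 (hZc hz) m, mul_inv_cancel_right]; exact hz⟩
  let q := QuotientGroup.mk' Z
  have qeq : ∀ {a b : C}, q a = q b → (b : G) = a ∨ (b : G) = (a : G) * F.e := by
    intro a b h
    rcases (QuotientGroup.eq.1 h : a⁻¹ * b ∈ Z) with h1 | h1 <;>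
      simp only [Subgroup.coe_mul, Subgroup.coe_inv] at h1
    · exact Or.inl (inv_mul_eq_one.1 h1).symm
    · exact Or.inr (inv_mul_eq_iff_eq_mul.1 h1)
  have qpair : ∀ {x y : G} (hx : x ∈ C) (hy : y ∈ C), q ⟨x, hx⟩ * q ⟨y, hy⟩ * (q ⟨x, hx⟩)⁻¹ = q ⟨y, hy⟩ →
      x * y * x⁻¹ = y ∨ x * y * x⁻¹ = y * F.e := by
    intro x y hx hy h
    rw [← map_inv, ← map_mul, ← map_mul] at h
    exact qeq h.symm
  have hdC : F.d ∈ C := memC.2 F.de_comm
  set z := q ⟨F.d, hdC⟩ with hz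
  have hz2 : z * z = 1 := by
    rw [hz, ← map_mul, ← map_one q]; exact congrArg q (Subtype.ext F.d_sq)
  have hz1 : z ≠ 1 := fun h => by
    rcases qeq (show q 1 = q ⟨F.d, hdC⟩ by rw [map_one]; exact h.symm) with h | h
    · exact F.d_ne_one h
    · exact F.d_ne_e (by simpa using h)
  have hiso : Cfsg.IsIsolatedInvolution z := by
    have : Fact (Nat.Prime 2) := ⟨Nat.prime_two⟩
    refine ⟨orderOf_eq_prime (by rw [pow_two]; exact hz2) hz1, fun k hk => ?_⟩
    obtain ⟨⟨x, hx⟩, rfl⟩ := QuotientGroup.mk'_surjective Z k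
    have hxe : Commute x F.e := memC.1 hx
    have hwC : x * F.d * x⁻¹ ∈ C := memC.2 ((hxe.mul_left F.de_comm).mul_left hxe.inv_left)
    have hw : F.InP (x * F.d * x⁻¹) := ⟨memC.1 hwC, qpair hwC hdC (by
      have h1 : q ⟨x * F.d * x⁻¹, hwC⟩ = q ⟨x, hx⟩ * z * (q ⟨x, hx⟩)⁻¹ := by
        rw [hz, ← map_inv, ← map_mul, ← map_mul]; rfl
      rw [h1, ← hk.eq, mul_inv_cancel_right])⟩
    rcases (E.isolated hxe hw).2 with h | h
    · rw [hz, ← map_inv, ← map_mul, ← map_mul]; exact congrArg q (Subtype.ext h)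
    · rw [hz, ← map_inv, ← map_mul, ← map_mul]
      refine QuotientGroup.eq.2 (Or.inr ?_)
      show (x * F.d * x⁻¹)⁻¹ * F.d = F.e
      rw [h, mul_inv_rev, inv_eq_of_mul_eq_one_right F.d_sq,
        inv_eq_of_mul_eq_one_right (show F.e * F.e = 1 from F.C.e_sq), mul_assoc, F.d_sq, mul_one]
  have hcore : Cfsg.oddCore (C ⧸ Z) = ⊥ := by
    set N := Cfsg.oddCore (C ⧸ Z) with hN
    have hNn : N.Normal := CfsgLib.Solvable.pPrimeCore_normal 2 _
    have hNodd : Odd (Nat.card N) := CfsgLib.Invol.odd_card_oddCore _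
    have two_one : ∀ a ∈ N, a * a = 1 → a = 1 := by
      intro a ha h
      have h1 : orderOf a ∣ Nat.card N := by
        rw [← Subgroup.orderOf_mk a ha]; exact orderOf_dvd_natCard _
      have h2 : orderOf a ∣ 2 := orderOf_dvd_of_pow_eq_one (by rw [pow_two]; exact h)
      exact orderOf_eq_one_iff.1
        (Nat.eq_one_of_dvd_coprimes (Nat.coprime_two_right.2 hNodd) h1 h2)
    obtain ⟨f, hf, hker, -⟩ := F.exists_coord
    have hYC : F.K2.Y ≤ C := fun y hy => memC.2 (F.K2.mem_Y.1 hy).1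
    let ι : F.K2.Y →* C ⧸ Z := q.comp (Subgroup.inclusion hYC)
    have hYN : ∀ y : F.K2.Y, ι y ∈ N → (y : G) ∈ F.K2.Vg := by
      intro y hy
      have hn : (N.comap ι).Normal := hNn.comap ι
      have : IsSimpleGroup A5 := alternatingGroup.isSimpleGroup (by simp)
      rcases (hn.map f hf).eq_bot_or_eq_top with h | h
      · have h1 : f y ∈ (N.comap ι).map f := ⟨y, hy, rfl⟩
        rw [h, Subgroup.mem_bot] at h1
        exact Subgroup.mem_subgroupOf.1 (show y ∈ F.K2.Z by rw [← hker]; exact MonoidHom.mem_ker.2 h1)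
      · exfalso
        have h1 : Nat.card ((N.comap ι).map f) ∣ Nat.card (N.comap ι) :=
          Subgroup.card_dvd_of_surjective (f.subgroupMap _) (f.subgroupMap_surjective _)
        rw [h, Subgroup.card_top] at h1
        have h60 : Nat.card A5 = 60 := by rw [Nat.card_eq_fintype_card]; decide +kernel
        rw [h60] at h1
        let g' : N.comap ι →* N := (ι.comp (N.comap ι).subtype).codRestrict N fun a => a.2
        have hk : Nat.card g'.ker ∣ 2 := by
          have h2 : ∀ a : g'.ker, ((a.1.1 : F.K2.Y) : G) = 1 ∨ ((a.1.1 : F.K2.Y) : G) = F.e := by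
            intro a
            have h3 : ι a.1.1 = 1 := congrArg Subtype.val (MonoidHom.mem_ker.1 a.2)
            exact (QuotientGroup.eq_one_iff _).1 h3
          have hle : Nat.card g'.ker ≤ 2 := by
            refine (Nat.card_le_card_of_injective
              (fun a => decide (((a.1.1 : F.K2.Y) : G) = 1)) fun a b hab => ?_).trans
                (by rw [Nat.card_eq_fintype_card, Fintype.card_bool])
            refine Subtype.ext (Subtype.ext (Subtype.ext ?_))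
            simp only [decide_eq_decide] at hab
            rcases h2 a with ha | ha <;> rcases h2 b with hb | hb
            · rw [ha, hb]
            · rw [ha, hab.1 ha]
            · rw [hb, hab.2 hb]
            · rw [ha, hb]
          have hpos : 0 < Nat.card g'.ker := Nat.card_pos
          interval_cases Nat.card g'.ker <;> simp
        have h4 : Nat.card (N.comap ι) ∣ 2 * Nat.card N := by
          rw [Subgroup.card_eq_card_quotient_mul_card_subgroup g'.ker, mul_comm,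
            Nat.card_congr (QuotientGroup.quotientKerEquivRange g').toEquiv]
          exact Nat.mul_dvd_mul hk (Subgroup.card_subgroup_dvd_card _)
        obtain ⟨r, hr⟩ := hNodd
        have := h1.trans h4
        omega
    have hP1 : ∀ x : C, q x ∈ N → F.InP x → q x = 1 := by
      intro x hx hxP
      have hYmem : ∀ y : C, q y ∈ N → (y : G) ∈ F.K2.Y → q y = 1 := by
        intro y hy hyY
        obtain ⟨v, hv, hyv⟩ := F.mem_Vg (hYN ⟨y, hyY⟩ hy)
        refine two_one _ hy ?_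
        rw [← map_mul, ← map_one q]
        refine congrArg q (Subtype.ext ?_)
        show (y : G) * y = 1
        rw [← pow_two]
        exact F.K2.Vg_sq (hYN ⟨y, hyY⟩ hy)
      refine two_one _ hx ?_
      rw [← map_mul]
      refine hYmem _ (by rw [map_mul]; exact N.mul_mem hx hx) ?_
      refine F.K2.mem_Y.2 ⟨hxP.1.mul_left hxP.1, mul_inv_eq_iff_eq_mul.1 ?_⟩
      show (x : G) * x * F.d * ((x : G) * x)⁻¹ = F.d
      have xe : (x : G) * F.e * (x : G)⁻¹ = F.e := mul_inv_eq_iff_eq_mul.2 hxP.1.eq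
      rw [show (x : G) * x * F.d * ((x : G) * x)⁻¹ = (x : G) * ((x : G) * F.d * (x : G)⁻¹) * (x : G)⁻¹
        by group]
      rcases hxP.2 with h | h
      · rw [h, h]
      · rw [h, show (x : G) * (F.d * F.e) * (x : G)⁻¹ =
          (x : G) * F.d * (x : G)⁻¹ * ((x : G) * F.e * (x : G)⁻¹) by group, h, xe, F.de_e]
    have inv_of : ∀ (t : C), q t * q t = 1 →
        (∀ x : C, q x ∈ N → q t * q x * (q t)⁻¹ = q x → F.InP x) →
        ∀ n ∈ N, q t * n * (q t)⁻¹ = n⁻¹ := by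
      intro t ht hfix n hn
      let σ : N →* N := (((MulAut.conj (q t)).toMonoidHom.comp N.subtype)).codRestrict N
        fun a => hNn.conj_mem _ a.2 _
      have hff : MonoidHom.FixedPointFree σ := by
        intro a ha
        obtain ⟨x, hx⟩ := QuotientGroup.mk'_surjective Z (a : C ⧸ Z)
        have hx' : q x = a := hx
        refine Subtype.ext ?_
        show (a : C ⧸ Z) = 1
        rw [← hx']
        exact hP1 x (hx' ▸ a.2) (hfix x (hx' ▸ a.2) (by rw [hx']; exact congrArg Subtype.val ha))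
      have hinv : Function.Involutive σ := fun a => Subtype.ext (by
        show q t * (q t * (a : C ⧸ Z) * (q t)⁻¹) * (q t)⁻¹ = a
        rw [show q t * (q t * (a : C ⧸ Z) * (q t)⁻¹) * (q t)⁻¹ =
          q t * q t * a * (q t * q t)⁻¹ by group, ht]
        group)
      exact congrArg Subtype.val (congrFun (hff.coe_eq_inv_of_involutive hinv) ⟨n, hn⟩)
    have hsC : F.s ∈ C := memC.2 F.inN_s.1
    have hkC : F.k ∈ C := memC.2 F.inP_k.1
    obtain ⟨g₀, hg₀, hgk⟩ := F.exists_fuse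
    have hk_inv := inv_of ⟨F.k, hkC⟩
      (by rw [← map_mul, ← map_one q]; exact congrArg q (Subtype.ext F.k_sq))
      (fun x _ hx => by
        have h1 : q x * q ⟨F.k, hkC⟩ * (q x)⁻¹ = q ⟨F.k, hkC⟩ :=
          mul_inv_eq_iff_eq_mul.2 (mul_inv_eq_iff_eq_mul.1 hx).symm
        exact ⟨memC.1 x.2, (F.cent_k (memC.1 x.2) (qpair x.2 hkC h1)).conj_d⟩)
    have hs_inv := inv_of ⟨F.s, hsC⟩
      (by rw [← map_mul, ← map_one q]; exact congrArg q (Subtype.ext F.s_sq))
      (fun x _ hx => by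
        have h1 : q x * q ⟨F.s, hsC⟩ * (q x)⁻¹ = q ⟨F.s, hsC⟩ :=
          mul_inv_eq_iff_eq_mul.2 (mul_inv_eq_iff_eq_mul.1 hx).symm
        refine F.inP_of_fuse hg₀ (memC.1 x.2) ?_
        have hp := qpair x.2 hsC h1
        have xe : (x : G) * F.e * (x : G)⁻¹ = F.e := mul_inv_eq_iff_eq_mul.2 (memC.1 x.2).eq
        rcases hgk with h2 | h2 <;> rw [h2]
        · exact hp
        · rw [show (x : G) * (F.s * F.e) * (x : G)⁻¹ =
            (x : G) * F.s * (x : G)⁻¹ * ((x : G) * F.e * (x : G)⁻¹) by group, xe]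
          rcases hp with h3 | h3 <;> rw [h3]
          · exact Or.inl rfl
          · exact Or.inr rfl)
    have hskC : F.s * F.k ∈ C := memC.2 (F.inN_s.1.mul_left F.inP_k.1)
    have hsk : ∀ n ∈ N, Commute (q ⟨F.s * F.k, hskC⟩) n := fun n hn => by
      refine mul_inv_eq_iff_eq_mul.1 ?_
      rw [show (⟨F.s * F.k, hskC⟩ : C) = ⟨F.s, hsC⟩ * ⟨F.k, hkC⟩ from rfl, map_mul,
        show q ⟨F.s, hsC⟩ * q ⟨F.k, hkC⟩ * n * (q ⟨F.s, hsC⟩ * q ⟨F.k, hkC⟩)⁻¹ =
          q ⟨F.s, hsC⟩ * (q ⟨F.k, hkC⟩ * n * (q ⟨F.k, hkC⟩)⁻¹) * (q ⟨F.s, hsC⟩)⁻¹ by group,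
        hk_inv n hn, hs_inv _ (N.inv_mem hn), inv_inv]
    have huC : F.u ∈ C := memC.2 (F.K2.mem_Y.1 F.K2.u_mem).1
    have hu : ∀ n ∈ N, Commute (q ⟨F.u, huC⟩) n := fun n hn => by
      have hn' := hNn.conj_mem n hn (q ⟨F.u, huC⟩)⁻¹
      have h1 := (hsk _ hn').map (MulAut.conj (q ⟨F.u, huC⟩)).toMonoidHom
      simp only [MulEquiv.coe_toMonoidHom, MulAut.conj_apply, inv_inv] at h1
      rw [show q ⟨F.u, huC⟩ * ((q ⟨F.u, huC⟩)⁻¹ * n * q ⟨F.u, huC⟩) * (q ⟨F.u, huC⟩)⁻¹ = n by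
        group] at h1
      have h2 := (hsk n hn).mul_left h1.inv_left
      have e : q ⟨F.u, huC⟩ = q ⟨F.s * F.k, hskC⟩ *
          (q ⟨F.u, huC⟩ * q ⟨F.s * F.k, hskC⟩ * (q ⟨F.u, huC⟩)⁻¹)⁻¹ := by
        rw [← map_inv, ← map_mul, ← map_mul, ← map_inv, ← map_mul]
        refine congrArg q (Subtype.ext ?_)
        show F.u = F.s * F.k * (F.u * (F.s * F.k) * F.u⁻¹)⁻¹
        rw [show F.s * F.k * (F.u * (F.s * F.k) * F.u⁻¹)⁻¹ =
          F.s * F.k * F.u * (F.s * F.k)⁻¹ * F.u⁻¹ by group, F.sk_u]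
        refine eq_mul_inv_of_mul_eq (eq_inv_of_mul_eq_one_left ?_)
        have := F.u_cube
        rwa [pow_succ, pow_two] at this
      rw [e]; exact h2
    refine (Subgroup.eq_bot_iff_forall _).2 fun n hn => ?_
    obtain ⟨x, rfl⟩ := QuotientGroup.mk'_surjective Z n
    refine hP1 x hn ?_
    have hxN : F.InN x := by
      refine ⟨memC.1 x.2, Or.inl ?_⟩
      rcases qpair x.2 huC (mul_inv_eq_iff_eq_mul.2 ((hu _ hn).eq.symm)) with h | h
      · exact h
      · exfalso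
        have h1 := congrArg (· ^ 3) h
        simp only [conj_pow, F.u_cube, (show Commute F.u F.e from
          (F.K2.mem_Y.1 F.K2.u_mem).1).mul_pow, one_mul, mul_one, mul_inv_cancel] at h1
        rw [pow_succ, pow_two, show F.e * F.e = 1 from F.C.e_sq, one_mul] at h1
        exact kd_facts.2.2.2.2.2.2.2.2.1 (F.C.injective (by rw [map_one]; exact h1.symm))
    exact ⟨hxN.1, hxN.conj_d⟩
  have hgC : g ∈ C := memC.2 hg
  have h1 := CfsgLib.Invol.zstar (C ⧸ Z) hiso (q ⟨g, hgC⟩)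
  rw [hcore, Subgroup.mem_bot, mul_inv_eq_one, mul_inv_eq_iff_eq_mul] at h1
  exact ⟨hg, qpair hgC hdC (mul_inv_eq_iff_eq_mul.2 h1.symm)⟩

/-- the embedded group controls the class of the reflection -/
theorem Emb.mem_of_conj_e [Finite G] {g : G} (h : g * F.e * g⁻¹ ∈ E.φ.range) : g ∈ E.φ.range := by
  obtain ⟨x, hx⟩ := h
  have hee : F.e * F.e = 1 := F.C.e_sq
  have h2 : x * x = 1 := E.inj (by
    rw [map_mul, hx, map_one, show g * F.e * g⁻¹ * (g * F.e * g⁻¹) = g * (F.e * F.e) * g⁻¹ by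
      group, hee, mul_one, mul_inv_cancel])
  have hx1 : x ≠ 1 := fun e => kd_facts.2.2.2.2.2.2.2.2.1 (F.C.injective (by
    rw [map_one]
    exact conj_eq_one_iff.1 (show g * F.e * g⁻¹ = 1 by rw [← hx, e, map_one])))
  have h4 : movedN x = 4 := (moved_cases h2 hx1).resolve_right fun h8 => E.not_four h2 h8 g hx.symm
  obtain ⟨c, hc⟩ := conj_eps h2 h4
  have hg : Commute ((E.φ c)⁻¹ * g) F.e := by
    refine mul_inv_eq_iff_eq_mul.1 ?_
    rw [show (E.φ c)⁻¹ * g * F.e * ((E.φ c)⁻¹ * g)⁻¹ = (E.φ c)⁻¹ * (g * F.e * g⁻¹) * E.φ c by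
      group, ← hx, ← hc, map_mul, map_mul, map_inv, E.map_eps]
    group
  have h5 := mul_mem (MonoidHom.mem_range.2 ⟨c, rfl⟩) (E.cent_e_le hg)
  rwa [mul_inv_cancel_left] at h5

end CfsgLib.Recog.AltNine
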