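import Cfsg.Agent.Lib.Recog.AltNine.CentE

/-!
# The eight elements centralising the reflection in the cover, and the class of the reflection
-/

set_option autoImplicit false
set_option maxRecDepth 100000

namespace CfsgLib.Recog.AltNine

open CfsgLib.Block CfsgLib.Block.FourCube Equiv
open CfsgLib.Recog.SymNine (V Mon act comp monOne x0 e0 e1 e2 Acts Norms scal weight act_comp
  act_one act_add Cube)

/-- the element of order four permuting the blocks -/
def fA : A6 := kA * dA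

theorem cent_e_list : ∀ x : S6, x * (eA : S6) = (eA : S6) * x →
    x ∈ [1, (eA : S6), (kA : S6), ((eA * kA : A6) : S6), (dA : S6), ((eA * dA : A6) : S6),
      (fA : S6), ((eA * fA : A6) : S6)] ∨
    x ∈ [(swap 2 3 : S6), swap 2 3 * (eA : S6), swap 2 3 * (kA : S6),
      swap 2 3 * ((eA * kA : A6) : S6), swap 2 3 * (dA : S6), swap 2 3 * ((eA * dA : A6) : S6),
      swap 2 3 * (fA : S6), swap 2 3 * ((eA * fA : A6) : S6)] := by
  decide +kernel

/-- the eight elements -/
def D8 : List A6 := [1, eA, kA, eA * kA, dA, eA * dA, fA, eA * fA]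

theorem mem_D8 {x : A6} (hx : x * eA = eA * x) : x ∈ D8 := by
  rcases cent_e_list x (congrArg Subtype.val hx) with h | h
  · have : (x : S6) ∈ D8.map Subtype.val := h
    obtain ⟨y, hy, hyx⟩ := List.mem_map.1 this
    rwa [← Subtype.ext hyx]
  · exfalso
    have hs := Equiv.Perm.mem_alternatingGroup.1 x.2
    simp only [List.mem_cons, List.not_mem_nil, or_false] at h
    rcases h with h | h | h | h | h | h | h | h <;> rw [h] at hs <;>
      simp [eA, dA, kA, fA] at hs

set_option synthInstance.maxSize 2000 in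
theorem D8_facts : ∀ x ∈ D8, x * eA = eA * x ∧ (x * x = 1 ∨ x * x = eA) ∧
    (x * tauA x = 1 ∨ x * tauA x = eA) ∧
    (x * x = eA → x = fA ∨ x = fA * eA) ∧
    (x * tauA x = eA → x = dA ∨ x = dA * eA) ∧
    (x * x = 1 → x ≠ 1 → x = eA ∨ x = kA ∨ x = eA * kA ∨ x = dA ∨ x = eA * dA) ∧
    (x * tauA x = 1 → x = 1 ∨ x = eA ∨ x = kA ∨ x = kA * eA ∨ x = fA ∨ x = fA * eA) := by
  decide +kernel

theorem D8_mul : ∀ x ∈ D8, ∀ y ∈ D8, x * y ∈ D8 ∧ tauA x ∈ D8 ∧ x⁻¹ ∈ D8 := by decide +kernel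

theorem scal_cases' : ∀ i : ZMod 3, i ≠ 0 → scal i e1 = e1 ∨ scal i e1 = -e1 := by decide +kernel

theorem no_double : ∀ (m : Mon) (i : ZMod 3) (w : V), detX m = true → 2 ≤ weight w →
    act m (scal i e1) ≠ w := by decide +kernel

universe u

variable {G : Type u} [Group G] {D : Cfg G} (F : Frame D)

/-- every element of order three of the centraliser of the reflection is conjugate there to a
power of the middle element -/
theorem Frame.three_in_cent [Finite G] {c : G} (hc3 : c ^ 3 = 1) (hce : Commute c F.e) :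
    ∃ (g : G) (i : ZMod 3), Commute g F.e ∧ g * c * g⁻¹ = D.pt (scal i e1) := by
  have : Fact (Nat.Prime 3) := ⟨Nat.prime_three⟩
  set C := Subgroup.centralizer ({F.e} : Set G) with hC
  have memC : ∀ {g}, g ∈ C ↔ Commute g F.e := fun {g} => Subgroup.mem_centralizer_singleton_iff
  set w : C := ⟨F.u, memC.2 (F.commute_u eA).symm⟩ with hw
  have hpw : ∀ y : C, y ^ 3 = 1 → IsPGroup 3 (Subgroup.zpowers y) := fun y hy => by
    obtain ⟨k, -, hk⟩ := (Nat.dvd_prime_pow Nat.prime_three).mp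
      (orderOf_dvd_of_pow_eq_one (show y ^ (3 ^ 1) = 1 by rwa [pow_one]))
    exact IsPGroup.of_card (n := k) (by rw [Nat.card_zpowers, hk])
  obtain ⟨P, hP⟩ := (hpw w (Subtype.ext F.u_cube)).exists_le_sylow
  have hshape : ∀ y : C, (∃ n : ℕ, y ^ 3 ^ n = 1) → Commute (y : G) F.u →
      ∃ i : ZMod 3, (y : G) = D.pt (scal i e1) := by
    rintro y ⟨n, hn⟩ hyu
    obtain ⟨i, x, hx⟩ := F.C.decomp (y : G) hyu
    have hz : ∀ z, Commute (D.pt (scal i e1)) (F.C.φ z) := fun z =>
      (D.commute_scal (F.C.comm z) i).symm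
    have hxe : x * eA = eA * x := F.C.injective (by
      have h := ((hz eA).inv_left.mul_left (hx ▸ memC.1 y.2)).eq
      rw [inv_mul_cancel_left] at h
      rw [map_mul, map_mul]; exact h)
    refine ⟨i, ?_⟩
    have h4 : x ^ 4 = 1 := by
      rw [show (4 : ℕ) = 2 * 2 from rfl, pow_mul, pow_two x]
      rcases (D8_facts x (mem_D8 hxe)).2.1 with h | h <;> rw [h]
      · rw [one_pow]
      · rw [pow_two]; exact tau_facts.2.2.2.2.1
    have hn' : (D.pt (scal i e1) * F.C.φ x) ^ 3 ^ n = 1 := by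
      rw [← hx]; exact congrArg Subtype.val hn
    have h2 := congrArg (· ^ 3) hn'
    simp only [one_pow, ← pow_mul] at h2
    rw [(hz x).mul_pow, mul_comm (3 ^ n) 3, pow_mul (D.pt (scal i e1)) 3,
      D.J_cube (D.pt_mem_J _), one_pow, one_mul, ← map_pow, ← map_one F.C.φ] at h2
    have h3 : x ^ (3 * 3 ^ n).gcd 4 = 1 := pow_gcd_eq_one.2 ⟨F.C.injective h2, h4⟩
    have hgcd : Nat.gcd (3 * 3 ^ n) 4 = 1 :=
      Nat.Coprime.mul_left (by norm_num : Nat.Coprime 3 4) ((by norm_num : Nat.Coprime 3 4).pow_left n)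
    rw [hgcd, pow_one] at h3
    rw [hx, h3, map_one, mul_one]
  have hall : ∀ y ∈ (P : Subgroup C), Commute (y : G) F.u := by
    intro y hy
    have := P.isPGroup'.isNilpotent
    have hnt : Nontrivial (P : Subgroup C) :=
      ⟨⟨⟨w, hP (Subgroup.mem_zpowers _)⟩, 1, fun e => F.u_ne
        (congrArg (fun z : (P : Subgroup C) => ((z : C) : G)) e)⟩⟩
    have hcn := P.isPGroup'.center_nontrivial
    obtain ⟨⟨z, hz⟩, hz1⟩ := exists_ne (1 : Subgroup.center (P : Subgroup C))
    have hcomm : ∀ q : (P : Subgroup C), q * z = z * q := Subgroup.mem_center_iff.1 hz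
    obtain ⟨n, hn⟩ := P.isPGroup' z
    obtain ⟨i, hi⟩ := hshape z ⟨n, congrArg Subtype.val hn⟩ (congrArg
      (fun z : (P : Subgroup C) => ((z : C) : G)) (hcomm ⟨w, hP (Subgroup.mem_zpowers _)⟩)).symm
    have hi0 : i ≠ 0 := fun h => hz1 (Subtype.ext (Subtype.ext (Subtype.ext (by
      rw [h, scal_zero, D.pt_zero] at hi; exact hi))))
    have hyz : Commute (y : G) (D.pt (scal i e1)) := by
      rw [← hi]
      exact congrArg (fun z : (P : Subgroup C) => ((z : C) : G)) (hcomm ⟨y, hy⟩)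
    rcases scal_cases' i hi0 with e | e <;> rw [e] at hyz
    · exact hyz
    · rw [D.pt_neg] at hyz; exact Commute.inv_right_iff.1 hyz
  obtain ⟨P', hP'⟩ := (hpw ⟨c, memC.2 hce⟩ (Subtype.ext hc3)).exists_le_sylow
  obtain ⟨g, hg⟩ := MulAction.exists_smul_eq C P' P
  have hmem : g * ⟨c, memC.2 hce⟩ * g⁻¹ ∈ (P : Subgroup C) := by
    rw [← hg]
    exact ⟨_, hP' (Subgroup.mem_zpowers _), rfl⟩
  obtain ⟨i, hi⟩ := hshape _ ⟨1, Subtype.ext (by
    show ((g : G) * c * (g : G)⁻¹) ^ (3 ^ 1) = 1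
    rw [pow_one, conj_pow, hc3]; group)⟩ (hall _ hmem)
  exact ⟨g, i, memC.1 g.2, hi⟩

/-- the reflection is not conjugate to an element centralising a weight two element -/
theorem Frame.not_conj_e [Finite G] {w : V} (hw : 2 ≤ weight w) {x : G}
    (hx : Commute (D.pt w) x) (g : G) : g * F.e * g⁻¹ ≠ x := by
  intro hg
  obtain ⟨h, i, -, hh⟩ := F.three_in_cent (c := g⁻¹ * D.pt w * g)
    (by rw [show g⁻¹ * D.pt w * g = g⁻¹ * D.pt w * g⁻¹⁻¹ by group, conj_pow,
      D.J_cube (D.pt_mem_J w)]; group)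
    (by
      have := hx.map (MulAut.conj g⁻¹).toMonoidHom
      simp only [MulEquiv.coe_toMonoidHom, MulAut.conj_apply, inv_inv] at this
      rwa [← hg, show g⁻¹ * (g * F.e * g⁻¹) * g = F.e by group] at this)
  obtain ⟨m, hm, hm'⟩ := D.cube.fusion (g := g * h⁻¹) (v := scal i e1) (w := w) (by
    show g * h⁻¹ * D.pt _ * (g * h⁻¹)⁻¹ = D.pt w
    rw [← hh]; group)
  exact no_double m i w hm hw hm'

end CfsgLib.Recog.AltNine
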