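import Mathlib
import Cfsg.Prelude.Def_Solvable

/-!
# The `p'`-core of a quotient by a central subgroup of order `p`
-/

set_option autoImplicit false

namespace CfsgLib.Recog.AltNine

universe u

theorem pPrimeCore_quotient_central {M : Type u} [Group M] [Finite M] {p : ℕ} (hp : p.Prime)
    (Z : Subgroup M) [Z.Normal] (hZ : Z ≤ Subgroup.center M) (hZp : Nat.card Z = p)
    (h : Cfsg.pPrimeCore p M = ⊥) : Cfsg.pPrimeCore p (M ⧸ Z) = ⊥ := by
  refine le_bot_iff.1 (sSup_le ?_)
  rintro N ⟨hN, hcop⟩
  set q := QuotientGroup.mk' Z with hq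
  set T := N.comap q with hT
  have hZT : Z ≤ T := fun z hz => by
    show q z ∈ N
    rw [show q z = 1 from (QuotientGroup.eq_one_iff z).2 hz]; exact N.one_mem
  have hTn : T.Normal := hN.comap q
  set Z' := Z.subgroupOf T with hZ'
  have hZ'card : Nat.card Z' = p := by
    rw [Nat.card_congr (Subgroup.subgroupOfEquivOfLe hZT).toEquiv, hZp]
  have hidx : Z'.index = Nat.card N := by
    have h1 := Subgroup.card_mul_index Z'
    have h2 : Nat.card T = Nat.card Z * Nat.card N := by
      let f : T →* N := (q.comp T.subtype).codRestrict N fun t => t.2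
      have hs : Function.Surjective f := fun r => by
        obtain ⟨m, hm⟩ := QuotientGroup.mk'_surjective Z (r : M ⧸ Z)
        exact ⟨⟨m, show q m ∈ N from hm ▸ r.2⟩, Subtype.ext hm⟩
      have hk : f.ker = Z' := by
        ext t
        rw [MonoidHom.mem_ker, Subtype.ext_iff, hZ', Subgroup.mem_subgroupOf]
        exact QuotientGroup.eq_one_iff (t : M)
      have h3 := Subgroup.card_mul_index f.ker
      rw [Subgroup.index_ker, MonoidHom.range_eq_top.2 hs, Subgroup.card_top] at h3
      rw [hk, hZ'card] at h3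
      rw [hZp, h3]
    rw [hZ'card, h2, hZp] at h1
    exact Nat.eq_of_mul_eq_mul_left hp.pos h1
  obtain ⟨K, hK⟩ := Subgroup.exists_left_complement'_of_coprime (N := Z')
    (by rw [hZ'card, hidx]; exact hcop.symm)
  have hKcard : Nat.card K = Nat.card N := by rw [← hidx, hK.index_eq_card]
  set K' := K.map T.subtype with hK'
  have hK'card : Nat.card K' = Nat.card N := by
    rw [hK', Subgroup.card_map_of_injective T.subtype_injective, hKcard]
  have hK'n : K'.Normal := by
    refine ⟨fun x hx g => ?_⟩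
    obtain ⟨⟨k, hkT⟩, hk, rfl⟩ := hx
    set y : T := ⟨g * k * g⁻¹, hTn.conj_mem k hkT g⟩ with hy
    have hmem : y ∈ (⊤ : Subgroup T) := trivial
    rw [← hK.sup_eq_top] at hmem
    have hZn : Z'.Normal := inferInstance
    obtain ⟨a, ha, b, hb, hab⟩ := Subgroup.mem_sup_of_normal_right.1 hmem
    have hyn : y ^ Nat.card K = 1 := Subtype.ext (by
      have hkn : k ^ Nat.card K = 1 := congrArg Subtype.val (congrArg Subtype.val
        (pow_card_eq_one' (x := (⟨⟨k, hkT⟩, hk⟩ : K))))
      show (g * k * g⁻¹) ^ Nat.card K = 1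
      rw [conj_pow, hkn, mul_one, mul_inv_cancel])
    have hcomm : Commute a b := Subtype.ext
      (Subgroup.mem_center_iff.1 (hZ (Subgroup.mem_subgroupOf.1 hb)) (a : M))
    have han : a ^ Nat.card K = 1 :=
      congrArg Subtype.val (pow_card_eq_one' (x := (⟨a, ha⟩ : K)))
    have hbn : b ^ Nat.card K = 1 := by
      rw [← hyn, ← hab, hcomm.mul_pow, han, one_mul]
    have hb1 : b = 1 := by
      have hbp : b ^ p = 1 := by
        rw [← hZ'card]
        exact congrArg Subtype.val (pow_card_eq_one' (x := (⟨b, hb⟩ : Z')))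
      have := pow_gcd_eq_one.2 ⟨hbn, hbp⟩
      rwa [hKcard, hcop.gcd_eq_one, pow_one] at this
    refine ⟨y, ?_, rfl⟩
    rw [← hab, hb1, mul_one]
    exact ha
  have hK1 : K' = ⊥ := le_bot_iff.1 ((le_sSup
    (show K' ∈ {L : Subgroup M | L.Normal ∧ (Nat.card L).Coprime p} from
      ⟨hK'n, hK'card ▸ hcop⟩)).trans h.le)
  rw [hK1, Subgroup.card_bot] at hK'card
  exact (Subgroup.card_eq_one.1 hK'card.symm).le

end CfsgLib.Recog.AltNine
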