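import Cfsg.Agent.Lib.Recog.QSThree.AltPerm

/-!
# Facts on the alternating group of degree six
-/

set_option autoImplicit false
set_option maxRecDepth 100000

namespace CfsgLib.Recog.AltNine

open Equiv CfsgLib.Clifford.AltSchur

/-- the permutations of six points -/
abbrev S6 := Perm (Fin 6)
/-- the alternating group of degree six -/
abbrev A6 := alternatingGroup (Fin 6)

/-- the first cycle -/
abbrev p6 : S6 := swap 0 1 * swap 1 2
/-- the second cycle -/
abbrev q6 : S6 := swap 3 4 * swap 4 5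
/-- the linking cycle -/
abbrev c6 : S6 := swap 2 3 * swap 3 4

theorem mem_alt_of_cube {x : S6} (h : x * x * x = 1) : x ∈ alternatingGroup (Fin 6) := by
  rw [Equiv.Perm.mem_alternatingGroup]
  have := congrArg Perm.sign h
  rw [map_mul, map_mul, map_one, Int.units_mul_self, one_mul] at this
  exact this

/-- the first cycle, in `A₆` -/
def pA : A6 := ⟨p6, mem_alt_of_cube (by decide +kernel)⟩
/-- the second cycle, in `A₆` -/
def qA : A6 := ⟨q6, mem_alt_of_cube (by decide +kernel)⟩
/-- the linking cycle, in `A₆` -/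
def cA : A6 := ⟨c6, mem_alt_of_cube (by decide +kernel)⟩

/-- a three-cycle -/
def Three (x : S6) : Prop := x * x * x = 1 ∧ x ≠ 1 ∧ ∃ i, x i = i

/-- a product of two three-cycles -/
def ThreeThree (x : S6) : Prop := x * x * x = 1 ∧ ∀ i, x i ≠ i

instance (x : S6) : Decidable (Three x) := by unfold Three; infer_instance
instance (x : S6) : Decidable (ThreeThree x) := by unfold ThreeThree; infer_instance

theorem three_or : ∀ x : S6, x * x * x = 1 → x ≠ 1 → Three x ∨ ThreeThree x :=
  fun x h h1 => by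
    by_cases hx : ∃ i, x i = i
    · exact Or.inl ⟨h, h1, hx⟩
    · exact Or.inr ⟨h, not_exists.1 hx⟩

theorem not_both {x : S6} (h : Three x) (h' : ThreeThree x) : False := by
  obtain ⟨-, -, i, hi⟩ := h
  exact h'.2 i hi

theorem Three.conj {x : S6} (h : Three x) (g : S6) : Three (g * x * g⁻¹) := by
  obtain ⟨h3, h1, i, hi⟩ := h
  refine ⟨?_, fun e => h1 (conj_eq_one_iff.1 e), g i, by simp [hi]⟩
  rw [show g * x * g⁻¹ * (g * x * g⁻¹) * (g * x * g⁻¹) = g * (x * x * x) * g⁻¹ by group, h3]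
  group

theorem ThreeThree.conj {x : S6} (h : ThreeThree x) (g : S6) : ThreeThree (g * x * g⁻¹) := by
  refine ⟨?_, fun i e => h.2 (g⁻¹ i) ?_⟩
  · rw [show g * x * g⁻¹ * (g * x * g⁻¹) * (g * x * g⁻¹) = g * (x * x * x) * g⁻¹ by group, h.1]
    group
  · have := congrArg (⇑(g⁻¹)) e
    simpa using this

theorem commute_p : ∀ y : S6, Three y → y * p6 = p6 * y →
    y = p6 ∨ y = p6 * p6 ∨ y = q6 ∨ y = q6 * q6 := by decide +kernel

theorem commute_pq : ∀ y : S6, ThreeThree y → y * (p6 * q6) = p6 * q6 * y →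
    y = p6 * q6 ∨ y = p6 * q6 * (p6 * q6) ∨ y = p6 * (q6 * q6) ∨ y = p6 * p6 * q6 := by
  decide +kernel

theorem three_p : Three p6 ∧ Three q6 ∧ Three c6 ∧ ThreeThree (p6 * q6) ∧
    ThreeThree (p6 * (q6 * q6)) := by decide +kernel

theorem isThreeCycle_of_three : ∀ x : S6, Three x → (Finset.univ.filter fun i => x i ≠ i).card = 3 := by
  decide +kernel

theorem three_conj_rep {x : S6} (h : Three x) : ∃ g : S6, g * x * g⁻¹ = p6 := by
  have h1 : x.IsThreeCycle := card_support_eq_three_iff.1 (isThreeCycle_of_three x h)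
  have h2 : p6.IsThreeCycle := card_support_eq_three_iff.1 (isThreeCycle_of_three p6 three_p.1)
  exact isConj_iff.1 (Perm.isConj_iff_cycleType_eq.2 (h1.cycleType.trans h2.cycleType.symm))

theorem threeThree_conj_rep {x : S6} (h : ThreeThree x) : ∃ g : S6, g * x * g⁻¹ = p6 * q6 := by
  have key : ∀ y : S6, ThreeThree y → y.cycleType = Multiset.replicate 2 3 := by
    intro y hy
    have hy1 : y ≠ 1 := fun e => hy.2 0 (by rw [e]; rfl)
    have h3 : orderOf y = 3 := by
      have : Fact (Nat.Prime 3) := ⟨Nat.prime_three⟩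
      exact orderOf_eq_prime (by rw [pow_succ, pow_two]; exact hy.1) hy1
    obtain ⟨n, hn⟩ := Perm.cycleType_prime_order (h3.symm ▸ Nat.prime_three : (orderOf y).Prime)
    rw [h3] at hn
    have hs : y.support.card = 6 := by
      have : y.support = Finset.univ := Finset.eq_univ_iff_forall.2 fun i => Perm.mem_support.2 (hy.2 i)
      rw [this]; rfl
    have := Perm.sum_cycleType y
    rw [hn, hs, Multiset.sum_replicate, smul_eq_mul] at this
    rw [hn, show n + 1 = 2 by omega]
  exact isConj_iff.1 (Perm.isConj_iff_cycleType_eq.2 ((key x h).trans (key _ three_p.2.2.2.1).symm))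

/-- commuting independent three-cycles are a standard pair -/
theorem pair_three {x y : S6} (hx : Three x) (hy : Three y) (hc : x * y = y * x) (h1 : y ≠ x)
    (h2 : y ≠ x * x) : ∃ g : S6, g * x * g⁻¹ = p6 ∧ g * y * g⁻¹ = q6 := by
  obtain ⟨g, hg⟩ := three_conj_rep hx
  have hcy : g * y * g⁻¹ * p6 = p6 * (g * y * g⁻¹) := by
    rw [← hg]
    calc g * y * g⁻¹ * (g * x * g⁻¹) = g * (y * x) * g⁻¹ := by group
      _ = g * (x * y) * g⁻¹ := by rw [hc]
      _ = _ := by group
  rcases commute_p _ (hy.conj g) hcy with h | h | h | h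
  · exact absurd (conj_left_injective g (show g * y * g⁻¹ = g * x * g⁻¹ by rw [h, hg])) h1
  · exact absurd (conj_left_injective g (show g * y * g⁻¹ = g * (x * x) * g⁻¹ by
      rw [h, ← hg]; group)) h2
  · exact ⟨g, hg, h⟩
  · have e : swap 4 5 * p6 * (swap 4 5)⁻¹ = p6 ∧ swap 4 5 * (q6 * q6) * (swap 4 5)⁻¹ = q6 := by
      decide +kernel
    exact ⟨swap 4 5 * g, by rw [← e.1, ← hg]; group, by rw [← e.2, ← h]; group⟩
where
  conj_left_injective (g : S6) {a b : S6} (h : g * a * g⁻¹ = g * b * g⁻¹) : a = b :=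
    mul_left_cancel (mul_right_cancel h)

/-- commuting independent products of two three-cycles are a standard pair -/
theorem pair_threeThree {x y : S6} (hx : ThreeThree x) (hy : ThreeThree y) (hc : x * y = y * x)
    (h1 : y ≠ x) (h2 : y ≠ x * x) :
    ∃ g : S6, g * x * g⁻¹ = p6 * q6 ∧ g * y * g⁻¹ = p6 * (q6 * q6) := by
  obtain ⟨g, hg⟩ := threeThree_conj_rep hx
  have hcy : g * y * g⁻¹ * (p6 * q6) = p6 * q6 * (g * y * g⁻¹) := by
    rw [← hg]
    calc g * y * g⁻¹ * (g * x * g⁻¹) = g * (y * x) * g⁻¹ := by group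
      _ = g * (x * y) * g⁻¹ := by rw [hc]
      _ = _ := by group
  rcases commute_pq _ (hy.conj g) hcy with h | h | h | h
  · exact absurd (mul_left_cancel (mul_right_cancel
      (show g * y * g⁻¹ = g * x * g⁻¹ by rw [h, hg]))) h1
  · exact absurd (mul_left_cancel (mul_right_cancel (show g * y * g⁻¹ = g * (x * x) * g⁻¹ by
      rw [h, ← hg]; group))) h2
  · exact ⟨g, hg, h⟩
  · have e : swap 0 3 * swap 1 4 * swap 2 5 * (p6 * q6) * (swap 0 3 * swap 1 4 * swap 2 5)⁻¹ =
        p6 * q6 ∧ swap 0 3 * swap 1 4 * swap 2 5 * (p6 * p6 * q6) *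
          (swap 0 3 * swap 1 4 * swap 2 5)⁻¹ = p6 * (q6 * q6) := by
      decide +kernel
    exact ⟨swap 0 3 * swap 1 4 * swap 2 5 * g, by rw [← e.1, ← hg]; group,
      by rw [← e.2, ← h]; group⟩

/-- conjugation by any permutation, on `A₆` -/
def conjA (g : S6) : MulAut A6 := MulAut.conjNormal g

theorem conjA_apply (g : S6) (x : A6) : ((conjA g x : A6) : S6) = g * x * g⁻¹ :=
  MulAut.conjNormal_apply g x

theorem pA_qA_conj : ∀ x y : A6, Three (x : S6) → Three (y : S6) → x * y = y * x → y ≠ x →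
    y ≠ x * x → ∃ α : A6 →* A6, Function.Injective α ∧ α pA = x ∧ α qA = y := by
  intro x y hx hy hc h1 h2
  obtain ⟨g, hg1, hg2⟩ := pair_three hx hy (congrArg Subtype.val hc)
    (fun h => h1 (Subtype.ext h)) (fun h => h2 (Subtype.ext h))
  refine ⟨(conjA g⁻¹).toMonoidHom, (conjA g⁻¹).injective, Subtype.ext ?_, Subtype.ext ?_⟩
  · show ((conjA g⁻¹ pA : A6) : S6) = x
    rw [conjA_apply, inv_inv, show ((pA : A6) : S6) = p6 from rfl, ← hg1]; group
  · show ((conjA g⁻¹ qA : A6) : S6) = y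
    rw [conjA_apply, inv_inv, show ((qA : A6) : S6) = q6 from rfl, ← hg2]; group

/-- images of the exceptional automorphism -/
def exImg : Fin 4 → S6 :=
  ![swap 0 1 * swap 1 2 * (swap 3 4 * swap 4 5), swap 0 2 * swap 2 4 * (swap 1 3 * swap 3 5),
    swap 0 3 * swap 3 1 * (swap 2 5 * swap 5 4), swap 0 4 * swap 4 3 * (swap 1 5 * swap 5 2)]

/-- generators of `A₆` -/
def g6 (i : Fin 4) : A6 :=
  ⟨c3 0 1 (![2, 3, 4, 5] i), by fin_cases i <;> exact c3_mem (by decide) (by decide)⟩

theorem exImg_cube : ∀ i, exImg i * exImg i * exImg i = 1 := by decide +kernel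

theorem exImg_rel : ∀ i j, i ≠ j → exImg i * exImg j * (exImg i * exImg j) = 1 := by decide +kernel

theorem g6_rel : (∀ i, g6 i ^ 3 = 1) ∧ ∀ i j, i ≠ j → g6 i * g6 j * (g6 i * g6 j) = 1 := by
  refine ⟨?_, ?_⟩ <;> decide +kernel

theorem closure_g6 : Subgroup.closure (Set.range g6) = ⊤ :=
  QSThree.Alt.closure_c3_eq_top (a := 0) (b := 1) (by decide) g6 fun i h1 h2 => by
    have : ∀ i : Fin 6, i ≠ 0 → i ≠ 1 → ∃ j : Fin 4, (![2, 3, 4, 5] j : Fin 6) = i := by decide
    obtain ⟨j, hj⟩ := this i h1 h2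
    exact ⟨j, by show c3 0 1 _ = _; rw [hj]⟩

theorem hom_injective (α : A6 →* A6) (h : α pA ≠ 1) : Function.Injective α := by
  have : IsSimpleGroup A6 := alternatingGroup.isSimpleGroup (by simp)
  refine (MonoidHom.ker_eq_bot_iff α).1 ((α.normal_ker.eq_bot_or_eq_top).resolve_right fun e => h ?_)
  exact MonoidHom.mem_ker.1 (e.ge trivial)

/-- an automorphism exchanging the two classes of elements of order three -/
theorem exists_exotic : ∃ θ : A6 →* A6, Function.Injective θ ∧ ThreeThree (θ pA : S6) ∧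
    ThreeThree (θ qA : S6) := by
  obtain ⟨θ, hθ⟩ := QSThree.Alt.exists_hom_carmichael 4 g6 g6_rel.1 g6_rel.2 closure_g6
    (fun i => (⟨exImg i, mem_alt_of_cube (exImg_cube i)⟩ : A6))
    (fun i => Subtype.ext (by
      show (exImg i) ^ 3 = 1
      rw [pow_succ, pow_two]; exact exImg_cube i))
    (fun i j h => Subtype.ext (exImg_rel i j h))
  have hp : pA = g6 0 := Subtype.ext (by decide +kernel)
  have h1 : ThreeThree (θ pA : S6) := by
    rw [hp, hθ]
    exact (by decide +kernel : ThreeThree (exImg 0))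
  refine ⟨θ, hom_injective θ (fun h => ?_), h1, ?_⟩
  · rw [h] at h1; exact h1.2 0 rfl
  · obtain ⟨g, hg⟩ : ∃ g : A6, g * pA * g⁻¹ = qA := by
      refine ⟨⟨swap 0 3 * swap 1 4 * swap 2 5 * swap 3 4, ?_⟩, Subtype.ext ?_⟩
      · simp [Equiv.Perm.mem_alternatingGroup, map_mul]
      · show _ * p6 * _ = q6
        decide +kernel
    rw [← hg, map_mul, map_mul, map_inv]
    exact h1.conj (θ g : S6)

/-- any commuting independent pair of one class extends to an automorphism -/
theorem exists_auto {x y : A6} (hx3 : x * x * x = 1) (hx1 : x ≠ 1)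
    (hc : x * y = y * x) (h1 : y ≠ x) (h2 : y ≠ x * x) (hconj : ∃ f, f * x * f⁻¹ = y) :
    ∃ α : A6 →* A6, Function.Bijective α ∧ α pA = x ∧ α qA = y := by
  obtain ⟨f, hf⟩ := hconj
  have bij : ∀ α : A6 →* A6, Function.Injective α → Function.Bijective α :=
    fun α h => ⟨h, Finite.injective_iff_surjective.1 h⟩
  have hy : ∀ {P : S6 → Prop}, (∀ z g, P z → P (g * z * g⁻¹)) → P (x : S6) → P (y : S6) := by
    intro P hP hPx
    rw [← hf]
    exact hP _ _ hPx
  rcases three_or (x : S6) (congrArg Subtype.val hx3) (fun e => hx1 (Subtype.ext e)) with h | h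
  · obtain ⟨α, hα, e1, e2⟩ := pA_qA_conj x y h (hy (fun z g hz => Three.conj hz g) h) hc h1 h2
    exact ⟨α, bij α hα, e1, e2⟩
  · obtain ⟨θ, hθ, t1, t2⟩ := exists_exotic
    have hpq : θ pA * θ qA = θ qA * θ pA := by
      rw [← map_mul, ← map_mul]
      exact congrArg θ (Subtype.ext (by decide +kernel : p6 * q6 = q6 * p6))
    obtain ⟨a, a1, a2⟩ := pair_threeThree t1 t2 (congrArg Subtype.val hpq)
      (fun e => (by decide +kernel : qA ≠ pA) (hθ (Subtype.ext e)))
      (fun e => (by decide +kernel : qA ≠ pA * pA) (hθ (by rw [map_mul]; exact Subtype.ext e)))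
    obtain ⟨b, b1, b2⟩ := pair_threeThree h (hy (fun z g hz => ThreeThree.conj hz g) h)
      (congrArg Subtype.val hc) (fun e => h1 (Subtype.ext e)) (fun e => h2 (Subtype.ext e))
    refine ⟨(conjA (b⁻¹ * a)).toMonoidHom.comp θ, bij _ ((conjA (b⁻¹ * a)).injective.comp hθ),
      Subtype.ext ?_, Subtype.ext ?_⟩
    · show ((conjA (b⁻¹ * a) (θ pA) : A6) : S6) = x
      rw [conjA_apply, show b⁻¹ * a * (θ pA : S6) * (b⁻¹ * a)⁻¹ =
        b⁻¹ * (a * (θ pA : S6) * a⁻¹) * b by group, a1, ← b1]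
      group
    · show ((conjA (b⁻¹ * a) (θ qA) : A6) : S6) = y
      rw [conjA_apply, show b⁻¹ * a * (θ qA : S6) * (b⁻¹ * a)⁻¹ =
        b⁻¹ * (a * (θ qA : S6) * a⁻¹) * b by group, a2, ← b2]
      group

/-- the nine three-cycles linked to the second cycle -/
def Linked (c : S6) : Prop := Three c ∧ c * q6 * (c * q6) = 1 ∧ c * q6 ≠ 1

instance (c : S6) : Decidable (Linked c) := by unfold Linked; infer_instance

theorem linked_card : (Finset.univ.filter Linked).card = 9 := by decide +kernel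

theorem linked_conj : ∀ c : S6, Linked c → ∃ i j : Fin 3,
    q6 ^ (j : ℕ) * p6 ^ (i : ℕ) * c * (q6 ^ (j : ℕ) * p6 ^ (i : ℕ))⁻¹ = c6 := by decide +kernel

set_option synthInstance.maxSize 2000 in
theorem inverting : ∀ g : S6, g * g = 1 → g * p6 = p6⁻¹ * g → g * q6 = q6⁻¹ * g →
    g * swap 0 1 = swap 0 1 * g → ∃ j : Fin 3,
      q6 ^ (j : ℕ) * g * (q6 ^ (j : ℕ))⁻¹ = swap 0 1 * swap 3 4 := by decide +kernel

theorem closure_pqc : Subgroup.closure ({pA, qA, cA} : Set A6) = ⊤ := by
  have key : ∀ i : Fin 4, c3 (2 : Fin 6) 3 (![0, 1, 4, 5] i) =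
      ![c6 * p6 * c6 * c6 * p6 * p6, c6 * p6 * p6 * c6 * c6 * p6, c6, c6 * q6 * q6] i := by
    decide +kernel
  let t : Fin 4 → A6 :=
    ![cA * pA * cA * cA * pA * pA, cA * pA * pA * cA * cA * pA, cA, cA * qA * qA]
  refine top_le_iff.1 ((QSThree.Alt.closure_c3_eq_top (a := 2) (b := 3) (by decide) t
    fun i h1 h2 => ?_).ge.trans ((Subgroup.closure_le _).2 ?_))
  · have : ∀ i : Fin 6, i ≠ 2 → i ≠ 3 → ∃ j : Fin 4, (![0, 1, 4, 5] j : Fin 6) = i := by decide
    obtain ⟨j, rfl⟩ := this i h1 h2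
    refine ⟨j, ?_⟩
    rw [key j]
    fin_cases j <;> rfl
  · have hp : pA ∈ Subgroup.closure ({pA, qA, cA} : Set A6) := Subgroup.subset_closure (by simp)
    have hq : qA ∈ Subgroup.closure ({pA, qA, cA} : Set A6) := Subgroup.subset_closure (by simp)
    have hc : cA ∈ Subgroup.closure ({pA, qA, cA} : Set A6) := Subgroup.subset_closure (by simp)
    rintro _ ⟨i, rfl⟩
    fin_cases i
    exacts [mul_mem (mul_mem (mul_mem (mul_mem (mul_mem hc hp) hc) hc) hp) hp,
      mul_mem (mul_mem (mul_mem (mul_mem (mul_mem hc hp) hp) hc) hc) hp, hc,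
      mul_mem (mul_mem hc hq) hq]

theorem hom_ext_pqc {K : Type*} [Group K] {f g : A6 →* K} (hp : f pA = g pA) (hq : f qA = g qA)
    (hc : f cA = g cA) : f = g :=
  MonoidHom.eq_of_eqOn_dense closure_pqc fun x hx => by
    rcases hx with rfl | rfl | rfl <;> assumption

/-- an involutory automorphism inverting the first cycle and fixing the second is a transposition
in suitable coordinates -/
theorem exists_transposition (α : A6 →* A6) (h2 : ∀ x, α (α x) = x) (hp : α pA = pA⁻¹)
    (hq : α qA = qA) (hthree : ∀ x : A6, Three (x : S6) → Three (α x : S6)) :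
    ∃ π : A6, π * pA = pA * π ∧ π * qA = qA * π ∧ ∀ x : A6,
      (α (π⁻¹ * x * π) : S6) =
        ((π⁻¹ : A6) : S6) * (swap (0 : Fin 6) 1 * (x : S6) * swap 0 1) * (π : S6) := by
  let Ω := {c : A6 // Linked (c : S6)}
  have hmap : ∀ c : A6, Linked (c : S6) → Linked (α c : S6) := by
    intro c hc
    refine ⟨hthree c hc.1, ?_, ?_⟩
    · have : c * qA * (c * qA) = 1 := Subtype.ext hc.2.1
      have h := congrArg α this
      rw [map_mul, map_mul, map_one, hq] at h
      exact congrArg Subtype.val h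
    · intro e
      refine hc.2.2 ?_
      have : α (c * qA) = 1 := by rw [map_mul, hq]; exact Subtype.ext e
      have := congrArg α this
      rw [h2, map_one] at this
      exact congrArg Subtype.val this
  let ρ : Perm Ω :=
    { toFun := fun c => ⟨α c.1, hmap _ c.2⟩
      invFun := fun c => ⟨α c.1, hmap _ c.2⟩
      left_inv := fun c => Subtype.ext (h2 c.1)
      right_inv := fun c => Subtype.ext (h2 c.1) }
  have : Fact (Nat.Prime 2) := ⟨Nat.prime_two⟩
  have hΩ : Fintype.card Ω = 9 := by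
    rw [← linked_card, Fintype.card_subtype]
    refine Finset.card_bij (fun (c : A6) _ => (c : S6)) (fun c hc => ?_)
      (fun a _ b _ h => Subtype.ext h) (fun c hc => ?_)
    · simpa using hc
    · simp only [Finset.mem_filter, Finset.mem_univ, true_and] at hc
      exact ⟨⟨c, mem_alt_of_cube hc.1.1⟩, by simpa using hc, rfl⟩
  obtain ⟨⟨c, hc⟩, hfix⟩ := Equiv.Perm.exists_fixed_point_of_prime (p := 2) (n := 1) (σ := ρ)
    (by rw [hΩ]; norm_num) (Equiv.ext fun c => by
      simp only [pow_one, pow_two, Perm.mul_apply, Perm.one_apply]; exact Subtype.ext (h2 c.1))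
  have hcα : α c = c := congrArg Subtype.val hfix
  obtain ⟨i, j, hij⟩ := linked_conj _ hc
  set π : A6 := qA ^ (j : ℕ) * pA ^ (i : ℕ) with hπ
  have cpq : pA * qA = qA * pA := Subtype.ext (by decide +kernel : p6 * q6 = q6 * p6)
  have hπp : π * pA = pA * π :=
    (((show Commute qA pA from cpq.symm).pow_left _).mul_left ((Commute.refl pA).pow_left _)).eq
  have hπq : π * qA = qA * π :=
    (((Commute.refl qA).pow_left _).mul_left ((show Commute pA qA from cpq).pow_left _)).eq
  refine ⟨π, hπp, hπq, fun x => ?_⟩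
  let τ : A6 →* A6 := (conjA (swap 0 1)).toMonoidHom
  have key : α.comp (MulAut.conj π⁻¹).toMonoidHom =
      (MulAut.conj π⁻¹).toMonoidHom.comp τ := by
    have ep : π⁻¹ * pA * π = pA := by rw [mul_assoc, ← hπp]; group
    have eq' : π⁻¹ * qA * π = qA := by rw [mul_assoc, ← hπq]; group
    refine hom_ext_pqc ?_ ?_ ?_ <;>
      simp only [MonoidHom.comp_apply, MulEquiv.coe_toMonoidHom, MulAut.conj_apply, inv_inv]
    · rw [ep, hp, show τ pA = pA⁻¹ from Subtype.ext (by decide +kernel), mul_assoc,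
        show pA⁻¹ * π = π * pA⁻¹ from ((show Commute π pA from hπp).inv_right).eq.symm]
      group
    · rw [eq', hq, show τ qA = qA from Subtype.ext (by decide +kernel), eq']
    · have ec : π⁻¹ * cA * π = c := by
        have : π * c * π⁻¹ = cA := Subtype.ext (by simpa [hπ, pA, qA, cA] using hij)
        rw [← this]; group
      rw [ec, hcα, show τ cA = cA from Subtype.ext (by decide +kernel), ec]
  have h := congrArg (fun f : A6 →* A6 => (f x : S6)) key
  simp only [MonoidHom.comp_apply, MulEquiv.coe_toMonoidHom, MulAut.conj_apply, inv_inv] at h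
  rw [h]
  simp [τ, conjA_apply]

end CfsgLib.Recog.AltNine
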