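import Cfsg.Agent.Lib.Recog.AltNine.Six
import Cfsg.Agent.Lib.Recog.AltNine.SixFacts
import Cfsg.Agent.Lib.Transfer.AbelianSylow

/-!
# The centraliser `3 × A₆` with coordinates
-/

set_option autoImplicit false
set_option maxRecDepth 4000

namespace CfsgLib.Recog.AltNine

open CfsgLib.Block CfsgLib.Block.FourCube
open scoped commutatorElement
open CfsgLib.Recog.SymNine (V Mon act comp monOne x0 e0 e1 e2 Acts Norms scal weight act_comp
  act_one act_add Cube)

theorem fix_three_mid : ∀ v : V, v + act (comp φm φm) v = scal (2 * v.2.1) e1 := by decide +kernel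

theorem two_mul_zero : ∀ b : ZMod 3, scal (2 * b) e1 = 0 → b = 0 := by decide +kernel

theorem mid_shift : ∀ (a c k : ZMod 3),
    ((a, 0, c) : V) + scal k e1 = (a, k, c) ∧ (a, k, c).2.1 = k := by decide +kernel

theorem scal_eq_zero : ∀ (k : ZMod 3) (w : V), w ≠ 0 → scal k w = 0 → k = 0 := by decide +kernel

theorem scal_zero : ∀ w : V, scal 0 w = 0 := by decide +kernel

theorem not_fused : ∀ m : Mon, detX m = true → act m e0 ≠ (1, 0, 1) := by decide +kernel

theorem pq_facts : e2 ≠ e0 ∧ e2 ≠ e0 + e0 ∧ e0 + e2 = ((1, 0, 1) : V) := by decide +kernel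

theorem e0_ne : (0 : V) ≠ e0 := by decide +kernel

theorem act_scal : ∀ (m : Mon) (k : ZMod 3) (v : V), act m (scal k v) = scal k (act m v) := by
  decide +kernel

universe u

variable {G : Type u} [Group G] (D : Cfg G)

/-- an element with known images of the basis acts monomially -/
theorem Cfg.acts_of_basis {g : G} {m : Mon} (h0 : g * D.pt e0 * g⁻¹ = D.pt (act m e0))
    (h1 : g * D.pt e1 * g⁻¹ = D.pt (act m e1)) (h2 : g * D.pt e2 * g⁻¹ = D.pt (act m e2)) :
    Acts D.pt g m := by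
  have key : ∀ (k : ℕ) (w : V), g * D.pt w * g⁻¹ = D.pt (act m w) →
      g * D.pt (k • w) * g⁻¹ = D.pt (act m (k • w)) := fun k w hw => by
    induction k with
    | zero =>
      have h0 : act m 0 = 0 :=
        left_eq_add.1 (show act m 0 = act m 0 + act m 0 by rw [← act_add, add_zero])
      rw [zero_smul, h0, D.pt_zero, mul_one, mul_inv_cancel]
    | succ k ih =>
      rw [succ_nsmul, D.pt_add, act_add, D.pt_add, ← ih, ← hw]; group
  intro v
  rw [SymNine.vec_decomp v, D.pt_add, D.pt_add, act_add, act_add, D.pt_add, D.pt_add,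
    ← key _ _ h0, ← key _ _ h1, ← key _ _ h2]
  group

/-- coordinates on the centraliser `3 × A₆` of `pt w` -/
structure Cover (w a b : V) where
  /-- the alternating group in the centraliser -/
  φ : A6 →* G
  comm : ∀ x, Commute (φ x) (D.pt w)
  decomp : ∀ g, Commute g (D.pt w) → ∃ (k : ZMod 3) (x : A6), g = D.pt (scal k w) * φ x
  sep : ∀ x (k : ZMod 3), φ x = D.pt (scal k w) → x = 1
  hp : φ pA = D.pt a
  hq : φ qA = D.pt b

variable {D} {w a b : V}

theorem Cover.injective (C : Cover D w a b) : Function.Injective C.φ :=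
  (injective_iff_map_eq_one C.φ).2 fun x hx => C.sep x 0 (by
    rw [hx, scal_zero, D.pt_zero])

theorem Cover.sep' (C : Cover D w a b) (hw : w ≠ 0) {x y : A6} {k l : ZMod 3}
    (h : D.pt (scal k w) * C.φ x = D.pt (scal l w) * C.φ y) : k = l ∧ x = y := by
  have h1 : C.φ (x * y⁻¹) = D.pt (scal (-k + l) w) := by
    rw [show scal (-k + l) w = -scal k w + scal l w by
      simp [scal, neg_mul, add_mul, Prod.ext_iff], D.pt_add, D.pt_neg, map_mul, map_inv]
    calc C.φ x * (C.φ y)⁻¹ = (D.pt (scal k w))⁻¹ * (D.pt (scal k w) * C.φ x) * (C.φ y)⁻¹ := by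
          group
      _ = _ := by rw [h]; group
  have hxy : x = y := mul_inv_eq_one.1 (C.sep _ _ h1)
  subst hxy
  have h2 : D.pt (scal k w) = D.pt (scal l w) := mul_right_cancel h
  refine ⟨?_, rfl⟩
  have h3 : scal (k - l) w = 0 := by
    rw [show scal (k - l) w = scal k w - scal l w by simp [scal, sub_mul, Prod.ext_iff],
      D.pt_inj h2, sub_self]
  exact sub_eq_zero.1 (scal_eq_zero _ _ hw h3)

/-- relabelling by an element commuting with both cycles -/
noncomputable def Cover.relabel (C : Cover D w a b) (π : A6) (hp : π * pA = pA * π)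
    (hq : π * qA = qA * π) : Cover D w a b where
  φ := C.φ.comp (MulAut.conj π⁻¹).toMonoidHom
  comm x := C.comm _
  decomp g hg := by
    obtain ⟨k, x, rfl⟩ := C.decomp g hg
    exact ⟨k, MulAut.conj π x, by simp [mul_assoc]⟩
  sep x k h := by
    exact conj_eq_one_iff.1 (show π⁻¹ * x * (π⁻¹)⁻¹ = 1 from C.sep _ k h)
  hp := by
    show C.φ (π⁻¹ * pA * (π⁻¹)⁻¹) = _
    rw [inv_inv, mul_assoc, ← hp, inv_mul_cancel_left, C.hp]
  hq := by
    show C.φ (π⁻¹ * qA * (π⁻¹)⁻¹) = _
    rw [inv_inv, mul_assoc, ← hq, inv_mul_cancel_left, C.hq]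

theorem Cover.relabel_apply (C : Cover D w a b) (π : A6) (hp : π * pA = pA * π)
    (hq : π * qA = qA * π) (x : A6) : (C.relabel π hp hq).φ x = C.φ (π⁻¹ * x * π) := by
  show C.φ (π⁻¹ * x * (π⁻¹)⁻¹) = _
  rw [inv_inv]

/-- transport by an element of the normaliser -/
noncomputable def Cover.map (C : Cover D w a b) {h : G} {m : Mon} (hm : Acts D.pt h m) {w' : V}
    (hw : act m w = w') :
    Cover D w' (act m a) (act m b) where
  φ := (MulAut.conj h).toMonoidHom.comp C.φ
  comm x := by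
    subst hw
    rw [← hm w]
    exact (C.comm x).map (MulAut.conj h).toMonoidHom
  decomp g hg := by
    subst hw
    obtain ⟨k, x, hx⟩ := C.decomp (h⁻¹ * g * h) (by
      rw [← hm w] at hg
      have := hg.map (MulAut.conj h⁻¹).toMonoidHom
      simpa [mul_assoc] using this)
    refine ⟨k, x, ?_⟩
    show g = D.pt (scal k (act m w)) * (h * C.φ x * h⁻¹)
    rw [← act_scal, ← hm]
    calc g = h * (h⁻¹ * g * h) * h⁻¹ := by group
      _ = _ := by rw [hx]; group
  sep x k hx := C.sep x k (by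
    subst hw
    rw [← act_scal, ← hm] at hx
    exact mul_left_cancel (mul_right_cancel hx))
  hp := by show h * C.φ pA * h⁻¹ = _; rw [C.hp, hm]
  hq := by show h * C.φ qA * h⁻¹ = _; rw [C.hq, hm]

theorem Cover.map_apply (C : Cover D w a b) {h : G} {m : Mon} (hm : Acts D.pt h m) {w' : V}
    (hw : act m w = w') (x : A6) : (C.map hm hw).φ x = h * C.φ x * h⁻¹ := rfl

theorem commutator_A6 : commutator A6 = ⊤ := by
  have : IsSimpleGroup A6 := alternatingGroup.isSimpleGroup (by simp)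
  refine ((inferInstance : (commutator A6).Normal).eq_bot_or_eq_top).resolve_left fun h => ?_
  have hmem : ⁅pA, cA⁆ ∈ commutator A6 :=
    Subgroup.commutator_mem_commutator (Subgroup.mem_top _) (Subgroup.mem_top _)
  rw [h, Subgroup.mem_bot] at hmem
  exact (by decide +kernel : ⁅pA, cA⁆ ≠ 1) hmem

/-- an element mapping `pt w` to itself or its inverse induces an automorphism -/
theorem Cover.exists_conj (C : Cover D w a b) {g : G}
    (hg : g * D.pt w * g⁻¹ = D.pt w ∨ g * D.pt w * g⁻¹ = (D.pt w)⁻¹) :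
    ∃ α : A6 →* A6, ∀ x, g * C.φ x * g⁻¹ = C.φ (α x) := by
  have hcomm : ∀ x, Commute (g * C.φ x * g⁻¹) (D.pt w) := by
    intro x
    have h := (C.comm x).map (MulAut.conj g).toMonoidHom
    rcases hg with e | e
    · rw [← e]; exact h
    · have h' := h.inv_right
      simp only [MulEquiv.coe_toMonoidHom, MulAut.conj_apply, e, inv_inv] at h'
      exact h'
  have hrange : ∀ x, g * C.φ x * g⁻¹ ∈ C.φ.range := by
    let S : Subgroup A6 := C.φ.range.comap ((MulAut.conj g).toMonoidHom.comp C.φ)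
    have hS : commutator A6 ≤ S := by
      rw [commutator_def, Subgroup.commutator_le]
      intro x _ y _
      obtain ⟨k, x', hx⟩ := C.decomp _ (hcomm x)
      obtain ⟨l, y', hy⟩ := C.decomp _ (hcomm y)
      refine ⟨⁅x', y'⁆, ?_⟩
      show _ = g * C.φ ⁅x, y⁆ * g⁻¹
      have e1 : g * C.φ ⁅x, y⁆ * g⁻¹ = ⁅g * C.φ x * g⁻¹, g * C.φ y * g⁻¹⁆ := by
        simp only [commutatorElement_def, map_mul, map_inv]; group
      rw [e1, hx, hy, map_commutatorElement, commutatorElement_def, commutatorElement_def]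
      set z₁ := D.pt (scal k w)
      set z₂ := D.pt (scal l w)
      have c1 : ∀ t, Commute z₁ (C.φ t) := fun t => (D.commute_scal (C.comm t) k).symm
      have c2 : ∀ t, Commute z₂ (C.φ t) := fun t => (D.commute_scal (C.comm t) l).symm
      have c12 : Commute z₁ z₂ := D.commute_pt _ _
      symm
      calc z₁ * C.φ x' * (z₂ * C.φ y') * (z₁ * C.φ x')⁻¹ * (z₂ * C.φ y')⁻¹
          = z₁ * (C.φ x' * z₂) * (C.φ y' * (C.φ x')⁻¹) * z₁⁻¹ * (C.φ y')⁻¹ * z₂⁻¹ := by group
        _ = z₁ * (z₂ * C.φ x') * (C.φ y' * (C.φ x')⁻¹) * z₁⁻¹ * (C.φ y')⁻¹ * z₂⁻¹ := by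
          rw [(c2 x').eq]
        _ = z₁ * z₂ * (C.φ x' * C.φ y' * (C.φ x')⁻¹ * z₁⁻¹) * (C.φ y')⁻¹ * z₂⁻¹ := by group
        _ = z₁ * z₂ * (z₁⁻¹ * (C.φ x' * C.φ y' * (C.φ x')⁻¹)) * (C.φ y')⁻¹ * z₂⁻¹ := by
          have := (c1 (x' * y' * x'⁻¹)).inv_left.eq
          rw [map_mul, map_mul, map_inv] at this
          rw [this]
        _ = z₁ * z₂ * z₁⁻¹ * (C.φ x' * C.φ y' * (C.φ x')⁻¹ * (C.φ y')⁻¹ * z₂⁻¹) := by group
        _ = z₁ * z₂ * z₁⁻¹ * (z₂⁻¹ * (C.φ x' * C.φ y' * (C.φ x')⁻¹ * (C.φ y')⁻¹)) := by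
          have := (c2 (x' * y' * x'⁻¹ * y'⁻¹)).inv_left.eq
          rw [map_mul, map_mul, map_mul, map_inv, map_inv] at this
          rw [this]
        _ = _ := by rw [c12.eq]; group
    intro x
    exact hS (commutator_A6 ▸ Subgroup.mem_top x)
  choose f hf using hrange
  refine ⟨MonoidHom.mk' f fun x y => C.injective ?_, fun x => (hf x).symm⟩
  rw [map_mul, hf, hf, hf, map_mul]
  group

theorem Cover.fused_three (C : Cover D w a b) {x : A6} (hx : Three (x : S6)) :
    ∃ g : G, g * C.φ x * g⁻¹ = D.pt a := by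
  obtain ⟨g, hg⟩ := three_conj_rep hx
  obtain ⟨h, hh, hh'⟩ : ∃ h : S6, h ∈ alternatingGroup (Fin 6) ∧ h * x * h⁻¹ = p6 := by
    rcases Int.units_eq_one_or (Equiv.Perm.sign g) with h1 | h1
    · exact ⟨g, Equiv.Perm.mem_alternatingGroup.2 h1, hg⟩
    · refine ⟨Equiv.swap 3 4 * g, Equiv.Perm.mem_alternatingGroup.2 (by
        rw [map_mul, h1, Equiv.Perm.sign_swap (by decide)]; rfl), ?_⟩
      calc Equiv.swap 3 4 * g * (x : S6) * (Equiv.swap 3 4 * g)⁻¹
          = Equiv.swap 3 4 * (g * (x : S6) * g⁻¹) * (Equiv.swap 3 4)⁻¹ := by group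
        _ = p6 := by rw [hg]; decide +kernel
  refine ⟨C.φ ⟨h, hh⟩, ?_⟩
  rw [← C.hp, ← map_inv, ← map_mul, ← map_mul]
  exact congrArg C.φ (Subtype.ext hh')

theorem Cover.fused_threeThree (C : Cover D w a b) {x : A6} (hx : ThreeThree (x : S6)) :
    ∃ g : G, g * C.φ x * g⁻¹ = D.pt (a + b) := by
  obtain ⟨g, hg⟩ := threeThree_conj_rep hx
  obtain ⟨h, hh, hh'⟩ : ∃ h : S6, h ∈ alternatingGroup (Fin 6) ∧ h * x * h⁻¹ = p6 * q6 := by
    rcases Int.units_eq_one_or (Equiv.Perm.sign g) with h1 | h1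
    · exact ⟨g, Equiv.Perm.mem_alternatingGroup.2 h1, hg⟩
    · refine ⟨Equiv.swap 0 3 * Equiv.swap 1 4 * Equiv.swap 2 5 * g,
        Equiv.Perm.mem_alternatingGroup.2 (by
          simp [map_mul, h1]), ?_⟩
      generalize hs : Equiv.swap (0 : Fin 6) 3 * Equiv.swap 1 4 * Equiv.swap 2 5 = s
      calc s * g * (x : S6) * (s * g)⁻¹ = s * (g * (x : S6) * g⁻¹) * s⁻¹ := by group
        _ = p6 * q6 := by rw [hg, ← hs]; decide +kernel
  refine ⟨C.φ ⟨h, hh⟩, ?_⟩
  rw [D.pt_add, ← C.hp, ← C.hq, ← map_mul C.φ pA qA, ← map_inv, ← map_mul, ← map_mul]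
  exact congrArg C.φ (Subtype.ext hh')

theorem Cover.three_image [Finite G] (C : Cover D w a b) (hab : ∀ m, detX m = true → act m a ≠ a + b)
    {g : G} {α : A6 →* A6} (hα : ∀ x, g * C.φ x * g⁻¹ = C.φ (α x)) {x : A6}
    (hx : Three (x : S6)) : Three (α x : S6) := by
  have h3 : (α x : S6) * (α x : S6) * (α x : S6) = 1 := by
    have : α x * α x * α x = 1 := by
      rw [← map_mul, ← map_mul, show x * x * x = 1 from Subtype.ext hx.1, map_one]
    exact congrArg Subtype.val this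
  have h1 : (α x : S6) ≠ 1 := by
    intro e
    have hxa := hα x
    rw [show α x = 1 from Subtype.ext e, map_one, conj_eq_one_iff, ← map_one C.φ] at hxa
    exact hx.2.1 (congrArg Subtype.val (C.injective hxa))
  refine (three_or _ h3 h1).resolve_right fun h33 => ?_
  obtain ⟨g₁, hg₁⟩ := C.fused_three hx
  obtain ⟨g₂, hg₂⟩ := C.fused_threeThree h33
  obtain ⟨m, hm, hm'⟩ := D.cube.fusion (g := g₂ * g * g₁⁻¹) (v := a) (w := a + b) (by
    show g₂ * g * g₁⁻¹ * D.pt a * (g₂ * g * g₁⁻¹)⁻¹ = D.pt (a + b)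
    rw [← hg₁, ← hg₂, ← hα]; group)
  exact hab m hm hm'

variable (D) in
theorem Cfg.exists_cover [Finite G] (h : D.Six) : Nonempty (Cover D e1 e0 e2) := by
  classical
  have : Fact (Nat.Prime 3) := ⟨Nat.prime_three⟩
  unfold Cfg.Six at h
  set M := Subgroup.centralizer ({D.pt e1} : Set G) with hM
  obtain ⟨π, hsurj, hker⟩ := h
  have memM : ∀ {g}, g ∈ M ↔ Commute g (D.pt e1) := fun {g} =>
    Subgroup.mem_centralizer_singleton_iff
  have hJM : D.J ≤ M := fun j hj => memM.2 (D.commute_of_one hj e1)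
  let pM : V → M := fun v => ⟨D.pt v, hJM (D.pt_mem_J v)⟩
  have pM_add : ∀ v w, pM (v + w) = pM v * pM w := fun v w => Subtype.ext (D.pt_add v w)
  have hz : ∀ {g : M}, π g = 1 → ∃ k, g = pM (scal k e1) := by
    intro g hg
    obtain ⟨n, hn⟩ := mem_powers_iff_mem_zpowers.2 ((hker g).1 hg)
    refine ⟨(n : ZMod 3), Subtype.ext ?_⟩
    show (g : G) = D.pt _
    rw [scal_pow, D.pt_nsmul, ZMod.val_natCast, ← hn]
    exact pow_eq_pow_mod n (D.J_cube (D.pt_mem_J e1))
  have hπz : ∀ k, π (pM (scal k e1)) = 1 := fun k => (hker _).2 (by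
    show D.pt _ ∈ _
    rw [scal_pow, D.pt_nsmul]
    exact Subgroup.pow_mem _ (Subgroup.mem_zpowers _) _)
  have hMcard : Nat.card M = 1080 := by
    have h1 := Subgroup.card_mul_index π.ker
    rw [Subgroup.index_ker, MonoidHom.range_eq_top.2 hsurj, Subgroup.card_top] at h1
    have h2 : Nat.card π.ker = 3 := by
      rw [show π.ker = (Subgroup.zpowers (D.pt e1)).subgroupOf M from
          Subgroup.ext fun g => (hker g).trans Subgroup.mem_subgroupOf.symm,
        Nat.card_congr (Subgroup.subgroupOfEquivOfLe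
          (Subgroup.zpowers_le.2 (hJM (D.pt_mem_J e1)))).toEquiv,
        Nat.card_zpowers, D.orderOf_pt (by decide)]
    have h3 : Nat.card A6 = 360 := by
      have h2' := two_mul_nat_card_alternatingGroup (α := Fin 6)
      rw [Nat.card_perm, Nat.card_fin, show Nat.factorial 6 = 720 from rfl] at h2'
      show Nat.card (alternatingGroup (Fin 6)) = 360
      omega
    rw [← h1, h2, h3]
  let J' := D.J.subgroupOf M
  have : IsMulCommutative J' := ⟨⟨fun a b => Subtype.ext (Subtype.ext (D.J_comm a.2 b.2).eq)⟩⟩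
  have hJ' : Nat.card J' = 27 := by
    rw [Nat.card_congr (Subgroup.subgroupOfEquivOfLe hJM).toEquiv, D.card_J]
  have hbot : J' ⊓ commutator M ⊓ Subgroup.center M = ⊥ := by
    refine CfsgLib.Transfer.inf_commutator_inf_center_eq_bot J' ?_
    have := Subgroup.card_mul_index J'
    rw [hJ', hMcard] at this
    rw [hJ', show J'.index = 40 by omega]
    norm_num
  have hsep : ∀ k, pM (scal k e1) ∈ commutator M → scal k e1 = 0 := by
    intro k hk
    have : pM (scal k e1) = 1 := Subgroup.mem_bot.1 (hbot.le ⟨⟨Subgroup.mem_subgroupOf.2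
      (D.pt_mem_J _), hk⟩, Subgroup.mem_center_iff.2 fun g => Subtype.ext
        (D.commute_scal (memM.1 g.2) k).eq⟩)
    exact D.pt_inj ((congrArg Subtype.val this).trans D.pt_zero.symm)
  have hsurjK : ∀ x, ∃ c ∈ commutator M, π c = x := by
    have : (commutator M).map π = ⊤ := by
      rw [commutator_def, Subgroup.map_commutator, ← MonoidHom.range_eq_map,
        MonoidHom.range_eq_top.2 hsurj, ← commutator_def, commutator_A6]
    exact fun x => this.ge (Subgroup.mem_top x)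
  choose c hc hπc using hsurjK
  have huniq : ∀ {g g' : M}, g ∈ commutator M → g' ∈ commutator M → π g = π g' → g = g' := by
    intro g g' hg hg' e
    obtain ⟨k, hk⟩ := hz (g := g⁻¹ * g') (by rw [map_mul, map_inv, e, inv_mul_cancel])
    have h0 := hsep k (hk ▸ (commutator M).mul_mem ((commutator M).inv_mem hg) hg')
    rw [h0] at hk
    exact inv_mul_eq_one.1 (hk.trans (Subtype.ext D.pt_zero))
  let φ₀ : A6 →* G := M.subtype.comp (MonoidHom.mk' c fun x y =>
    huniq (hc _) ((commutator M).mul_mem (hc x) (hc y)) (by rw [map_mul, hπc, hπc, hπc]))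
  -- the middle coordinate of the cube inside the derived subgroup
  obtain ⟨t₀, ht₀⟩ := D.exists_lift φm (by decide +kernel)
  have ht₀M : t₀ ∈ M := memM.2 (mul_inv_eq_iff_eq_mul.1 (by
    rw [ht₀ e1, show act φm e1 = e1 by decide +kernel]))
  have hmid : ∀ v : V, pM v ∈ commutator M → v.2.1 = 0 := by
    intro v hv
    have hn : (commutator M).Normal := inferInstance
    have h2 : pM (v + act (comp φm φm) v) ∈ commutator M := by
      rw [pM_add]
      refine (commutator M).mul_mem hv ?_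
      have e : pM (act (comp φm φm) v) =
          ⟨t₀, ht₀M⟩ * ⟨t₀, ht₀M⟩ * pM v * (⟨t₀, ht₀M⟩ * ⟨t₀, ht₀M⟩)⁻¹ := Subtype.ext (by
        show D.pt _ = t₀ * t₀ * D.pt v * (t₀ * t₀)⁻¹
        rw [act_comp, ← ht₀, ← ht₀]; group)
      rw [e]
      exact hn.conj_mem _ hv _
    rw [fix_three_mid] at h2
    exact two_mul_zero _ (hsep _ h2)
  have hφπ : ∀ v : V, v.2.1 = 0 → φ₀ (π (pM v)) = D.pt v := by
    intro v hv
    obtain ⟨k, hk⟩ := hz (g := (pM v)⁻¹ * c (π (pM v)))
      (by rw [map_mul, map_inv, hπc, inv_mul_cancel])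
    have hck : c (π (pM v)) = pM (v + scal k e1) := by
      rw [pM_add, ← hk, mul_inv_cancel_left]
    have hk0 : k = 0 := by
      have := hmid _ (hck ▸ hc _)
      obtain ⟨v0, v1, v2⟩ := v
      simp only at hv
      subst hv
      rwa [(mid_shift v0 v2 k).1] at this
    show ((c (π (pM v)) : M) : G) = D.pt v
    rw [hck, hk0, scal_zero, add_zero]
  set xa := π (pM e0) with hxa
  set xb := π (pM e2) with hxb
  have φ₀inj : Function.Injective φ₀ := fun x y h => by
    rw [← hπc x, ← hπc y]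
    exact congrArg π (Subtype.ext h)
  have ha : φ₀ xa = D.pt e0 := hφπ e0 rfl
  have hb : φ₀ xb = D.pt e2 := hφπ e2 rfl
  obtain ⟨α, hα, hαp, hαq⟩ := exists_auto (x := xa) (y := xb)
    (φ₀inj (by
      rw [map_mul, map_mul, ha, map_one]
      have := D.J_cube (D.pt_mem_J e0)
      rwa [pow_succ, pow_two] at this))
    (fun e => by
      rw [e, map_one, ← D.pt_zero] at ha
      exact e0_ne (D.pt_inj ha))
    (φ₀inj (by rw [map_mul, map_mul, ha, hb, (D.commute_pt e0 e2).eq]))
    (fun e => pq_facts.1 (D.pt_inj (by rw [← ha, ← hb, e])))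
    (fun e => pq_facts.2.1 (D.pt_inj (by rw [D.pt_add, ← ha, ← hb, e, map_mul])))
    ⟨π ⟨t₀, ht₀M⟩, by
      rw [hxa, hxb, ← map_inv, ← map_mul, ← map_mul]
      refine congrArg π (Subtype.ext ?_)
      show t₀ * D.pt e0 * t₀⁻¹ = D.pt e2
      rw [ht₀, show act φm e0 = e2 by decide +kernel]⟩
  refine ⟨⟨φ₀.comp α, fun x => memM.1 (c (α x)).2, fun g hg => ?_, fun x k hx => ?_, ?_, ?_⟩⟩
  · obtain ⟨y, hy⟩ := hα.2 (π ⟨g, memM.2 hg⟩)
    obtain ⟨k, hk⟩ := hz (g := ⟨g, memM.2 hg⟩ * (c (π ⟨g, memM.2 hg⟩))⁻¹)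
      (by rw [map_mul, map_inv, hπc, mul_inv_cancel])
    refine ⟨k, y, ?_⟩
    rw [MonoidHom.comp_apply, hy]
    have h := congrArg Subtype.val hk
    simp only [Subgroup.coe_mul, Subgroup.coe_inv] at h
    exact mul_inv_eq_iff_eq_mul.1 h
  · refine hα.1 (?_ : α x = α 1)
    rw [map_one]
    have h : c (α x) = pM (scal k e1) := Subtype.ext hx
    rw [← hπc (α x), h, hπz]
  · show φ₀ (α pA) = _; rw [hαp, ha]
  · show φ₀ (α qA) = _; rw [hαq, hb]

end CfsgLib.Recog.AltNine
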