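import Cfsg.Agent.Lib.Recog.AltNine.Five

/-!
# The alternating group of degree nine inside the group
-/

set_option autoImplicit false
set_option maxRecDepth 100000

namespace CfsgLib.Recog.AltNine

open CfsgLib.Block CfsgLib.Block.FourCube Equiv
open CfsgLib.Clifford.AltSchur (c3 c3_mem)
open CfsgLib.Recog.SymNine (V Mon act comp monOne x0 e0 e1 e2 Acts Norms scal weight act_comp
  act_one act_add Cube)

/-- the alternating group of degree nine -/
abbrev A9 := alternatingGroup (Fin 9)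

/-- the points of the seven generators -/
def t9pt : Fin 7 → Fin 9 := ![2, 0, 1, 5, 8, 6, 7]

/-- the seven generators -/
def t9 (i : Fin 7) : A9 :=
  ⟨c3 3 4 (t9pt i), by fin_cases i <;> exact c3_mem (by decide) (by decide)⟩

theorem t9_rel : (∀ i, t9 i ^ 3 = 1) ∧ ∀ i j, i ≠ j → t9 i * t9 j * (t9 i * t9 j) = 1 := by
  refine ⟨?_, ?_⟩ <;> decide +kernel

theorem closure_t9 : Subgroup.closure (Set.range t9) = ⊤ :=
  QSThree.Alt.closure_c3_eq_top (a := 3) (b := 4) (by decide) t9 fun i h1 h2 => by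
    have : ∀ i : Fin 9, i ≠ 3 → i ≠ 4 → ∃ j : Fin 7, t9pt j = i := by decide
    obtain ⟨j, hj⟩ := this i h1 h2
    exact ⟨j, by show c3 3 4 _ = _; rw [hj]⟩

/-- the linking cycles of the six points -/
def T6 (i : Fin 3) : A6 := ![cA, pA * cA * pA⁻¹, pA * pA * cA * (pA * pA)⁻¹] i

theorem T6_rel : (∀ i, T6 i ^ 3 = 1) ∧ qA ^ 3 = 1 ∧
    (∀ i j, i ≠ j → T6 i * T6 j * (T6 i * T6 j) = 1) ∧ (∀ i, T6 i * qA * (T6 i * qA) = 1) ∧
    pA = T6 0 * (T6 2)⁻¹ * T6 1 * (T6 0)⁻¹ ∧ gA = T6 1 * (T6 2)⁻¹ * T6 1 := by decide +kernel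

theorem sign_ev {g : Big} (h : Ev g) : toNine g ∈ alternatingGroup (Fin 9) := by
  rw [Equiv.Perm.mem_alternatingGroup, Units.ext_iff, sign_toNine]
  exact h

/-- the three cycles in the alternating group of degree nine -/
def nu (v : V) : A9 := ⟨toNine (bigV (-v)), sign_ev (bigV_ev _)⟩

theorem nu_add (v w : V) : nu (v + w) = nu v * nu w := Subtype.ext (by
  show toNine (bigV (-(v + w))) = toNine (bigV (-v)) * toNine (bigV (-w))
  rw [← map_mul, ← bigV_add, neg_add])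

theorem act_neg' : ∀ (m : Mon) (v : V), act m (-v) = -act m v := by decide +kernel

/-- the block permutation of a monomial map -/
def piN (m : Mon) (h : detX m = true) : A9 := ⟨toNine (liftM m), sign_ev (liftM_spec m h).1⟩

theorem piN_nu (m : Mon) (h : detX m = true) (v : V) :
    piN m h * nu v * (piN m h)⁻¹ = nu (act m v) := Subtype.ext (by
  show toNine (liftM m) * toNine (bigV (-v)) * (toNine (liftM m))⁻¹ = toNine (bigV (-act m v))
  rw [← map_inv, ← map_mul, ← map_mul, bigV_conj, (liftM_spec m h).2, act_neg'])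

/-- the reflection -/
def epsN : A9 := ⟨swap 0 1 * swap 6 7, by simp [Equiv.Perm.mem_alternatingGroup]⟩
/-- the second reflection -/
def sigN : A9 := ⟨swap 0 1 * swap 3 4, by simp [Equiv.Perm.mem_alternatingGroup]⟩

theorem nu_basis : nu e0 = t9 0 * (t9 2)⁻¹ * t9 1 * (t9 0)⁻¹ ∧ nu e1 = t9 3 ∧
    nu e2 = t9 4 * (t9 6)⁻¹ * t9 5 * (t9 4)⁻¹ ∧ sigN = t9 1 * (t9 2)⁻¹ * t9 1 := by decide +kernel

theorem eps_facts : (∀ v, epsN * nu v * epsN⁻¹ = nu (act em v)) ∧ epsN * t9 0 = t9 0 * epsN ∧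
    epsN * t9 4 = t9 4 * epsN ∧
    ∀ v, nu v * t9 0 = t9 0 * nu v → nu v * t9 4 = t9 4 * nu v → v = 0 := by decide +kernel

theorem to_e2 : ∀ w : V, weight w = 1 → ∃ m : Mon, detX m = true ∧ act m e2 = w := by decide +kernel

theorem weight_pos : ∀ w : V, w ≠ 0 → weight w = 1 ∨ 2 ≤ weight w := by decide +kernel

theorem rel_symm {H : Type*} [Group H] {x y : H} (h : x * y * (x * y) = 1) :
    y * x * (y * x) = 1 := by
  rw [show y * x * (y * x) = x⁻¹ * (x * y * (x * y)) * x by group, h]; group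

universe u

variable {G : Type u} [Group G] {D : Cfg G}

/-- an embedded alternating group with its coordinates -/
structure Emb (F : Frame D) where
  /-- the embedding -/
  φ : A9 →* G
  inj : Function.Injective φ
  map_pt : ∀ v, φ (nu v) = D.pt v
  map_eps : φ epsN = F.e
  map_sig : φ sigN = F.s
  C'_le : ∀ x, F.C'.φ x ∈ φ.range
  map_a : φ (t9 0) = F.a3
  map_b : ∃ m : Fin 3, φ (t9 4) = F.u ^ (m : ℕ) * F.a7 * (F.u ^ (m : ℕ))⁻¹ ∧
    ∀ W : Subgroup G, F.u ∈ W → F.a3 ∈ W → F.u ^ (m : ℕ) * F.a7 * (F.u ^ (m : ℕ))⁻¹ ∈ W →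
      F.e ∈ W → F.d ∈ W → F.K2.Y ≤ W

theorem Frame.exists_emb [Finite G] (F : Frame D) : Nonempty (Emb F) := by
  obtain ⟨m, hsq, hgen⟩ := F.five
  set h := F.u ^ (m : ℕ) * F.C.φ fA with hh
  set ψ : A6 →* G := (MulAut.conj h).toMonoidHom.comp F.C'.φ with hψ
  have ψ_apply : ∀ x, ψ x = h * F.C'.φ x * h⁻¹ := fun x => rfl
  obtain ⟨f0, f1, -⟩ := f_act
  have hum : ∀ v, Commute (F.u ^ (m : ℕ)) (D.pt v) := fun v => (D.commute_pt _ v).pow_left _
  have ψp : ψ pA = D.pt e2 := by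
    rw [ψ_apply, F.C'.hp, hh, show F.u ^ (m : ℕ) * F.C.φ fA * D.pt e0 *
      (F.u ^ (m : ℕ) * F.C.φ fA)⁻¹ = F.u ^ (m : ℕ) * (F.C.φ fA * D.pt e0 * (F.C.φ fA)⁻¹) *
        (F.u ^ (m : ℕ))⁻¹ by group, F.f_acts e0, f0, (hum e2).eq, mul_inv_cancel_right]
  have ψq : ψ qA = F.C'.φ qA := by
    rw [ψ_apply, ← F.u_eq, hh, show F.u ^ (m : ℕ) * F.C.φ fA * F.u *
      (F.u ^ (m : ℕ) * F.C.φ fA)⁻¹ = F.u ^ (m : ℕ) * (F.C.φ fA * F.u * (F.C.φ fA)⁻¹) *
        (F.u ^ (m : ℕ))⁻¹ by group, (F.commute_u fA).eq, mul_inv_cancel_right,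
      (hum e1).eq, mul_inv_cancel_right]
  have ψc : ψ cA = F.u ^ (m : ℕ) * F.a7 * (F.u ^ (m : ℕ))⁻¹ := by
    rw [ψ_apply, hh, Frame.a7]; group
  rw [← ψc] at hsq hgen
  have hb0 : Commute (ψ cA) (D.pt e0) := by
    rw [ψc]; exact ((hum e0).mul_left F.a7_e0).mul_left (hum e0).inv_left
  set B : Fin 3 → G := fun j => ψ (T6 j) with hB
  set A : Fin 3 → G := fun i => F.C'.φ (T6 i) with hA
  obtain ⟨r3, q3, rT, rq, wp, wg⟩ := T6_rel
  have hAf : ∀ i, ∃ c : G, A i = c * F.a3 * c⁻¹ ∧ Commute c (D.pt e2) ∧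
      Commute c (ψ cA) := by
    intro i
    fin_cases i
    · exact ⟨1, by simp [hA, T6], Commute.one_left _, Commute.one_left _⟩
    · refine ⟨D.pt e0, ?_, D.commute_pt _ _, hb0.symm⟩
      show F.C'.φ (pA * cA * pA⁻¹) = _
      rw [map_mul, map_mul, map_inv, F.C'.hp]
    · refine ⟨D.pt e0 * D.pt e0, ?_, (D.commute_pt _ _).mul_left (D.commute_pt _ _),
        hb0.symm.mul_left hb0.symm⟩
      show F.C'.φ (pA * pA * cA * (pA * pA)⁻¹) = _
      rw [map_mul, map_mul, map_inv, map_mul, F.C'.hp]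
  have hBf : ∀ j, ∃ c : G, B j = c * ψ cA * c⁻¹ ∧ Commute c F.a3 ∧
      ∀ c', Commute c' (D.pt e2) → Commute c' c := by
    intro j
    have ha2 : Commute (D.pt e2) F.a3 := (F.C'.comm cA).symm
    fin_cases j
    · exact ⟨1, by simp [hB, T6], Commute.one_left _, fun _ _ => Commute.one_right _⟩
    · refine ⟨D.pt e2, ?_, ha2, fun _ h => h⟩
      show ψ (pA * cA * pA⁻¹) = _
      rw [map_mul, map_mul, map_inv, ψp]
    · refine ⟨D.pt e2 * D.pt e2, ?_, ha2.mul_left ha2, fun _ h => h.mul_right h⟩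
      show ψ (pA * pA * cA * (pA * pA)⁻¹) = _
      rw [map_mul, map_mul, map_inv, map_mul, ψp]
  have cross : ∀ i j, A i * B j * (A i * B j) = 1 := by
    intro i j
    obtain ⟨c, hc, hc2, hcb⟩ := hAf i
    obtain ⟨c', hc', hca, hcc⟩ := hBf j
    have hcc' : Commute c c' := hcc c hc2
    have e1' : A i = c * c' * F.a3 * (c * c')⁻¹ := by
      rw [hc, show c * c' * F.a3 * (c * c')⁻¹ = c * (c' * F.a3 * c'⁻¹) * c⁻¹ by group, hca.eq,
        mul_inv_cancel_right]
    have e2' : B j = c * c' * ψ cA * (c * c')⁻¹ := by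
      rw [hc', hcc'.eq, show c' * c * ψ cA * (c' * c)⁻¹ = c' * (c * ψ cA * c⁻¹) * c'⁻¹ by group,
        hcb.eq, mul_inv_cancel_right]
    rw [e1', e2', show c * c' * F.a3 * (c * c')⁻¹ * (c * c' * ψ cA * (c * c')⁻¹) *
      (c * c' * F.a3 * (c * c')⁻¹ * (c * c' * ψ cA * (c * c')⁻¹)) =
      c * c' * (F.a3 * ψ cA * (F.a3 * ψ cA)) * (c * c')⁻¹ by group, hsq]
    group
  have inA : ∀ i j, i ≠ j → A i * A j * (A i * A j) = 1 := fun i j h => by
    show F.C'.φ _ * F.C'.φ _ * (F.C'.φ _ * F.C'.φ _) = 1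
    rw [← map_mul, ← map_mul, rT i j h, map_one]
  have inB : ∀ i j, i ≠ j → B i * B j * (B i * B j) = 1 := fun i j h => by
    show ψ _ * ψ _ * (ψ _ * ψ _) = 1
    rw [← map_mul, ← map_mul, rT i j h, map_one]
  have Au : ∀ i, A i * F.C'.φ qA * (A i * F.C'.φ qA) = 1 := fun i => by
    show F.C'.φ _ * F.C'.φ _ * (F.C'.φ _ * F.C'.φ _) = 1
    rw [← map_mul, ← map_mul, rq i, map_one]
  have Bu : ∀ i, B i * F.C'.φ qA * (B i * F.C'.φ qA) = 1 := fun i => by
    rw [← ψq]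
    show ψ _ * ψ _ * (ψ _ * ψ _) = 1
    rw [← map_mul, ← map_mul, rq i, map_one]
  set U := F.C'.φ qA with hU
  obtain ⟨φ, hφ⟩ := QSThree.Alt.exists_hom_carmichael 7 t9 t9_rel.1 t9_rel.2 closure_t9
    ![A 0, A 1, A 2, U, B 0, B 1, B 2]
    (fun k => by
      fin_cases k
      · exact (map_pow F.C'.φ _ 3).symm.trans (by rw [r3, map_one])
      · exact (map_pow F.C'.φ _ 3).symm.trans (by rw [r3, map_one])
      · exact (map_pow F.C'.φ _ 3).symm.trans (by rw [r3, map_one])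
      · exact (map_pow F.C'.φ _ 3).symm.trans (by rw [q3, map_one])
      · exact (map_pow ψ _ 3).symm.trans (by rw [r3, map_one])
      · exact (map_pow ψ _ 3).symm.trans (by rw [r3, map_one])
      · exact (map_pow ψ _ 3).symm.trans (by rw [r3, map_one]))
    (fun i j hij => by
      fin_cases i <;> fin_cases j <;> first
        | exact absurd rfl hij
        | exact inA _ _ (by decide)
        | exact inB _ _ (by decide)
        | exact cross _ _
        | exact rel_symm (cross _ _)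
        | exact Au _
        | exact rel_symm (Au _)
        | exact Bu _
        | exact rel_symm (Bu _))
  have h0 : φ (t9 0) = A 0 := hφ 0
  have h1 : φ (t9 1) = A 1 := hφ 1
  have h2 : φ (t9 2) = A 2 := hφ 2
  have h3 : φ (t9 3) = U := hφ 3
  have h4 : φ (t9 4) = B 0 := hφ 4
  have h5 : φ (t9 5) = B 1 := hφ 5
  have h6 : φ (t9 6) = B 2 := hφ 6
  obtain ⟨n0, n1, n2, ns⟩ := nu_basis
  have p0 : φ (nu e0) = D.pt e0 := by
    rw [n0, ← F.C'.hp, wp]
    simp only [map_mul, map_inv, h0, h1, h2, hA]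
  have p1 : φ (nu e1) = D.pt e1 := by rw [n1, h3, hU, F.C'.hq]
  have p2 : φ (nu e2) = D.pt e2 := by
    rw [n2, ← ψp, wp]
    simp only [map_mul, map_inv, h4, h5, h6, hB]
  have hnu0 : nu 0 = 1 := left_eq_mul.1 (show nu 0 = nu 0 * nu 0 by rw [← nu_add, add_zero])
  have hsm : ∀ (k : ℕ) (v : V), φ (nu v) = D.pt v → φ (nu (k • v)) = D.pt (k • v) := fun k v hv => by
    induction k with
    | zero => rw [zero_smul, hnu0, map_one, D.pt_zero]
    | succ k ih => rw [succ_nsmul, nu_add, map_mul, ih, hv, D.pt_add]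
  have hpt : ∀ v, φ (nu v) = D.pt v := fun v => by
    rw [SymNine.vec_decomp v, nu_add, nu_add, map_mul, map_mul, hsm _ _ p0, hsm _ _ p1, hsm _ _ p2,
      D.pt_add, D.pt_add]
  have hinj : Function.Injective φ := by
    have : IsSimpleGroup A9 := alternatingGroup.isSimpleGroup (by simp)
    refine (MonoidHom.ker_eq_bot_iff φ).1 (φ.normal_ker.eq_bot_or_eq_top.resolve_right fun e => ?_)
    exact F.u_ne (by rw [F.u_eq, ← hU, ← h3]; exact MonoidHom.mem_ker.1 (e.ge trivial))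
  have ha : φ (t9 0) = F.a3 := by rw [h0]; simp [hA, T6]
  have hb : φ (t9 4) = ψ cA := by rw [h4]; simp [hB, T6]
  refine ⟨⟨φ, hinj, hpt, ?_, ?_, fun x => ?_, ha, m, hb.trans ψc, ?_⟩⟩
  · -- the reflection
    obtain ⟨eJ, ea, eb, hker⟩ := eps_facts
    have hact : Acts D.pt (φ epsN) em := fun v => by
      rw [← hpt, ← hpt, ← map_inv, ← map_mul, ← map_mul, eJ]
    obtain ⟨w, hw⟩ := D.cube.eq_pt_mul_of_acts F.C.e_acts hact
    replace hw : F.e = D.pt w * φ epsN := hw.symm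
    have hea : Commute F.e F.a3 := by
      have h := F.e_C' cA
      rw [tau_facts.2.2.2.1] at h
      exact mul_inv_eq_iff_eq_mul.1 h
    have heb : Commute F.e (ψ cA) := by
      have hu : Commute F.e (F.u ^ (m : ℕ)) := (F.commute_u eA).pow_right _
      have hf : Commute F.e (F.C.φ fA) := F.fA_inN.1.symm
      rw [ψc, Frame.a7]
      exact (hu.mul_right ((hf.mul_right hea).mul_right hf.inv_right)).mul_right hu.inv_right
    have key : ∀ t, Commute F.e (φ t) → epsN * t = t * epsN → nu w * t = t * nu w := fun t hc he => by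
      refine hinj ?_
      have h1 : Commute (φ epsN) (φ t) := (show Commute epsN t from he).map φ
      have h2 := (hc.mul_left h1.inv_left).eq
      rw [hw, mul_inv_cancel_right] at h2
      rw [map_mul, map_mul, hpt]; exact h2
    have hw0 := hker w (key _ (ha ▸ hea) ea) (key _ (hb ▸ heb) eb)
    rw [hw, hw0, D.pt_zero, one_mul]
  · rw [F.s_C', wg, ns]
    simp only [map_mul, map_inv, h1, h2, hA]
  · have htop : φ.range.comap F.C'.φ = ⊤ := top_le_iff.1 (closure_pqc ▸ (Subgroup.closure_le _).2 (by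
      rintro x (rfl | rfl | rfl)
      · exact ⟨nu e0, p0.trans F.C'.hp.symm⟩
      · exact ⟨t9 3, h3⟩
      · exact ⟨t9 0, ha⟩))
    exact htop.ge (Subgroup.mem_top x)
  · rw [← ψc]; exact hgen

variable {F : Frame D} (E : Emb F)

theorem Emb.acts_pi (m : Mon) (hm : detX m = true) : Acts D.pt (E.φ (piN m hm)) m := fun v => by
  rw [← E.map_pt, ← E.map_pt, ← map_inv, ← map_mul, ← map_mul, piN_nu]

theorem Emb.H_le [Finite G] : D.H ≤ E.φ.range := by
  intro h hh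
  obtain ⟨m, hm, ha⟩ := D.exists_acts ((D.norms_iff h).2 hh)
  obtain ⟨w, hw⟩ := D.cube.eq_pt_mul_of_acts ha (E.acts_pi m hm)
  exact ⟨nu w * piN m hm, by rw [map_mul, E.map_pt]; exact hw⟩

/-- the centralisers of the elements of the cube lie in the embedded group -/
theorem Emb.cent_pt_le [Finite G] {w : V} (hw : w ≠ 0) {g : G} (hg : Commute g (D.pt w)) :
    g ∈ E.φ.range := by
  rcases weight_pos w hw with h | h
  · obtain ⟨m, hm, hmw⟩ := to_e2 w h
    obtain ⟨x, hx⟩ := D.exists_lift m hm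
    have hxr : x ∈ E.φ.range := E.H_le ((D.norms_iff x).1 fun v => ⟨_, hx v⟩)
    have hc : Commute (x⁻¹ * g * x) (D.pt e2) := by
      have := hg.map (MulAut.conj x⁻¹).toMonoidHom
      simp only [MulEquiv.coe_toMonoidHom, MulAut.conj_apply, inv_inv] at this
      rwa [← hmw, ← hx e2, show x⁻¹ * (x * D.pt e2 * x⁻¹) * x = D.pt e2 by group] at this
    obtain ⟨k, y, hy⟩ := F.C'.decomp _ hc
    have : x⁻¹ * g * x ∈ E.φ.range := hy ▸ mul_mem ⟨nu _, E.map_pt _⟩ (E.C'_le y)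
    simpa [mul_assoc] using mul_mem (mul_mem hxr this) (inv_mem hxr)
  · exact E.H_le ((D.norms_iff g).1 (D.middle h hg))

theorem Emb.C_le [Finite G] (x : A6) : F.C.φ x ∈ E.φ.range :=
  E.cent_pt_le (by decide : (e1 : V) ≠ 0) (F.C.comm x)

theorem Emb.Y_le [Finite G] : F.K2.Y ≤ E.φ.range := by
  obtain ⟨m, hb, hgen⟩ := E.map_b
  exact hgen _ ⟨nu e1, E.map_pt e1⟩ ⟨t9 0, E.map_a⟩ ⟨t9 4, hb⟩ (E.C_le eA) (E.C_le dA)

end CfsgLib.Recog.AltNine
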