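import Cfsg.Agent.Lib.Recog.AltNine.FarSylow.Chars
import Cfsg.Agent.Lib.Recog.AltNine.FarSylow.Local
import Cfsg.Agent.Lib.Char.Diag
import Cfsg.Prelude.Def_Solvable

/-!
# A Sylow 3-subgroup of order nine with one exceptional axis

`sylow_normal`: if the normaliser of `T` (order 9) has order 18 and inverts `T`, the centralisers
of the elements of `T` outside one subgroup `⟨a⟩` of order three lie in `T`, and `O_{3'}(L) = 1`,
then `T` is normal.
-/

set_option autoImplicit false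

namespace CfsgLib.Recog.AltNine.FarSylow

open CfsgLib.TISylow (pairCount pairCount_eq_sum)
open scoped ComplexConjugate

universe u

variable {G : Type u} [Group G] [Fintype G] [Finite G] (D : Data G)

/-- the multiplicities -/
theorem Data.exists_coef : ∃ c : Fin 3 → Cfsg.IrrCharacter G → ℤ,
    (∀ k (χ : Cfsg.IrrCharacter G), Cfsg.classInner (D.U k) (χ : G → ℂ) = c k χ) ∧
    (∀ χ : Cfsg.IrrCharacter G,
      (χ : G → ℂ) (D.el (qv 0)) = ((c 0 χ + 2 * c 1 χ + c 2 χ : ℤ) : ℂ) ∧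
      (χ : G → ℂ) (D.el (qv 1)) = ((c 0 χ - c 1 χ + c 2 χ : ℤ) : ℂ) ∧
      (χ : G → ℂ) (D.el (qv 2)) = ((c 0 χ - c 1 χ - 2 * c 2 χ : ℤ) : ℂ)) := by
  have hint : ∀ k (χ : Cfsg.IrrCharacter G),
      ∃ z : ℤ, Cfsg.classInner (D.U k) (χ : G → ℂ) = z := fun k χ =>
    CfsgLib.Char.classInner_isGeneralized_int (D.U_gen k)
      (CfsgLib.Char.isGeneralized_of_isCharacter (CfsgLib.Char.irr_isCharacter χ.2))
  choose c hc using hint
  refine ⟨c, hc, fun χ => ?_⟩
  have htab : ∀ k p, hv k (qv p) = ![![3, 3, 3], ![3, -3, 0], ![0, 3, -3]] k p := by decide +kernel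
  have e : ∀ k, (c k χ : ℂ) = (9 : ℂ)⁻¹ *
      ∑ p : Fin 3, (hv k (qv p) : ℂ) * conj ((χ : G → ℂ) (D.el (qv p))) := fun k => by
    rw [← hc k χ, D.inner_values k (CfsgLib.Char.irr_isClassFunction χ.2)]
  have e0 := e 0
  have e1 := e 1
  have e2 := e 2
  simp only [Fin.sum_univ_three, htab, Matrix.cons_val_zero, Matrix.cons_val_one,
    Matrix.cons_val_two, Matrix.head_cons, Matrix.tail_cons] at e0 e1 e2
  push_cast at e0 e1 e2
  refine ⟨?_, ?_, ?_⟩
  · rw [← Complex.conj_conj ((χ : G → ℂ) (D.el (qv 0))),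
      show conj ((χ : G → ℂ) (D.el (qv 0))) = ((c 0 χ + 2 * c 1 χ + c 2 χ : ℤ) : ℂ) by
        push_cast; linear_combination -e0 - 2 * e1 - e2, map_intCast]
  · rw [← Complex.conj_conj ((χ : G → ℂ) (D.el (qv 1))),
      show conj ((χ : G → ℂ) (D.el (qv 1))) = ((c 0 χ - c 1 χ + c 2 χ : ℤ) : ℂ) by
        push_cast; linear_combination -e0 + e1 - e2, map_intCast]
  · rw [← Complex.conj_conj ((χ : G → ℂ) (D.el (qv 2))),
      show conj ((χ : G → ℂ) (D.el (qv 2))) = ((c 0 χ - c 1 χ - 2 * c 2 χ : ℤ) : ℂ) by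
        push_cast; linear_combination -e0 + e1 + 2 * e2, map_intCast]

theorem sum_sq_two {ι : Type*} [Fintype ι] [DecidableEq ι] (f : ι → ℤ)
    (h : ∑ x, f x * f x = 2) :
    ∃ a b, a ≠ b ∧ (f a = 1 ∨ f a = -1) ∧ (f b = 1 ∨ f b = -1) ∧
      ∀ x, x ≠ a → x ≠ b → f x = 0 := by
  set s := (Finset.univ : Finset ι).filter fun x => f x ≠ 0 with hs
  have hsum : ∑ x ∈ s, f x * f x = 2 := by
    rw [← h]
    exact Finset.sum_filter_of_ne fun x _ hx h0 => hx (by rw [h0, zero_mul])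
  have hone : ∀ x ∈ s, 1 ≤ f x * f x := fun x hx => by
    have := mul_self_pos.mpr (Finset.mem_filter.mp hx).2
    omega
  have hcard : (s.card : ℤ) ≤ 2 := by
    have h' := Finset.sum_le_sum hone
    rw [Finset.sum_const, hsum] at h'
    simpa using h'
  have h0 : s.card ≠ 0 := fun e => by rw [Finset.card_eq_zero.1 e] at hsum; simp at hsum
  have h1 : s.card ≠ 1 := fun e => by
    obtain ⟨a, ha⟩ := Finset.card_eq_one.1 e
    rw [ha, Finset.sum_singleton] at hsum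
    have hb : -2 < f a ∧ f a < 2 := by constructor <;> nlinarith
    obtain h' | h' | h' : f a = -1 ∨ f a = 0 ∨ f a = 1 := by omega
    all_goals rw [h'] at hsum; norm_num at hsum
  obtain ⟨a, b, hab, hsab⟩ := Finset.card_eq_two.1 (show s.card = 2 by omega)
  rw [hsab, Finset.sum_pair hab] at hsum
  have ha := hone a (by simp [hsab])
  have hb := hone b (by simp [hsab])
  refine ⟨a, b, hab, Int.eq_one_or_neg_one_of_mul_eq_one (v := f a) (show f a * f a = 1 by omega),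
    Int.eq_one_or_neg_one_of_mul_eq_one (v := f b) (show f b * f b = 1 by omega), fun x hxa hxb => ?_⟩
  by_contra hx
  have : x ∈ s := Finset.mem_filter.2 ⟨Finset.mem_univ _, hx⟩
  rw [hsab] at this
  simp [hxa, hxb] at this

/-- The columns: six irreducible characters. -/
theorem Data.exists_six [Fintype (Cfsg.IrrCharacter G)] :
    ∃ (c : Fin 3 → Cfsg.IrrCharacter G → ℤ) (o A B X₁ X₂ X₃ : Cfsg.IrrCharacter G) (ea eb e : ℤ),
      (∀ χ : Cfsg.IrrCharacter G,
        (χ : G → ℂ) (D.el (qv 0)) = ((c 0 χ + 2 * c 1 χ + c 2 χ : ℤ) : ℂ) ∧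
        (χ : G → ℂ) (D.el (qv 1)) = ((c 0 χ - c 1 χ + c 2 χ : ℤ) : ℂ) ∧
        (χ : G → ℂ) (D.el (qv 2)) = ((c 0 χ - c 1 χ - 2 * c 2 χ : ℤ) : ℂ)) ∧
      (ea = 1 ∨ ea = -1) ∧ (eb = 1 ∨ eb = -1) ∧ (e = 1 ∨ e = -1) ∧
      [o, A, B, X₁, X₂, X₃].Nodup ∧
      (o : G → ℂ) 1 = 1 ∧
      (1 + (ea : ℂ) * (A : G → ℂ) 1 + (eb : ℂ) * (B : G → ℂ) 1 = 0) ∧
      ((X₁ : G → ℂ) 1 = (X₂ : G → ℂ) 1 ∧ (X₂ : G → ℂ) 1 = (X₃ : G → ℂ) 1) ∧
      (c 0 o = 1 ∧ c 1 o = 0 ∧ c 2 o = 0) ∧ (c 0 A = ea ∧ c 1 A = 0 ∧ c 2 A = 0) ∧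
      (c 0 B = eb ∧ c 1 B = 0 ∧ c 2 B = 0) ∧ (c 0 X₁ = 0 ∧ c 1 X₁ = e ∧ c 2 X₁ = 0) ∧
      (c 0 X₂ = 0 ∧ c 1 X₂ = -e ∧ c 2 X₂ = e) ∧ (c 0 X₃ = 0 ∧ c 1 X₃ = 0 ∧ c 2 X₃ = -e) ∧
      ∀ χ, χ ≠ o → χ ≠ A → χ ≠ B → χ ≠ X₁ → χ ≠ X₂ → χ ≠ X₃ →
        c 0 χ = 0 ∧ c 1 χ = 0 ∧ c 2 χ = 0 := by
  classical
  obtain ⟨c, hc, hy⟩ := D.exists_coef
  have hgram : ∀ j k, ∑ χ, c j χ * c k χ = gram j k := fun j k => by
    have h1 := CfsgLib.Char.classInner_eq_sum_mul
      (CfsgLib.Char.isGeneralized_isClassFunction (D.U_gen j)) (D.U k)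
    simp only [hc, map_intCast, D.U_gram] at h1
    exact_mod_cast h1.symm
  have hdeg : ∀ k, ∑ χ : Cfsg.IrrCharacter G, (c k χ : ℂ) * (χ : G → ℂ) 1 = 0 := fun k => by
    have h1 := CfsgLib.Char.classFunction_apply_eq_sum
      (CfsgLib.Char.isGeneralized_isClassFunction (D.U_gen k)) (1 : G)
    rw [D.U_one] at h1
    simp only [hc] at h1
    exact h1.symm
  set o : Cfsg.IrrCharacter G := ⟨fun _ => 1, CfsgLib.Char.isIrrCharacter_one⟩
  have ho : ∀ k, c k o = ![1, 0, 0] k := fun k => by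
    have h1 := hc k o
    rw [D.U_inner_one] at h1
    exact_mod_cast h1.symm
  -- the coherent triple
  have hnl : ∀ φ ψ : G → ℂ, Cfsg.classInner (-φ) ψ = -Cfsg.classInner φ ψ := fun φ ψ => by
    simp [CfsgLib.Char.classInner_def, Finset.sum_neg_distrib]
  have hnr : ∀ φ ψ : G → ℂ, Cfsg.classInner φ (-ψ) = -Cfsg.classInner φ ψ := fun φ ψ => by
    simp [CfsgLib.Char.classInner_def, Finset.sum_neg_distrib]
  let τ : Fin 3 → (G → ℂ) := ![0, D.U 1, -D.U 2]
  obtain ⟨ε, hε, μ, hμirr, hμinj, hμ⟩ := CfsgLib.Char.coherent_family 3 0 τ rfl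
    (fun i => by
      fin_cases i
      · exact CfsgLib.Char.isGeneralized_of_isCharacter CfsgLib.Char.isCharacter_zero
      · exact D.U_gen 1
      · exact CfsgLib.Char.isGeneralized_neg (D.U_gen 2))
    (fun i => by fin_cases i <;> simp [τ, D.U_one])
    (fun i j hi hj => by
      fin_cases i <;> fin_cases j <;> first
        | exact absurd rfl hi
        | exact absurd rfl hj
        | simp [τ, D.U_gram, gram, hnl, hnr])
  obtain ⟨e, he, heps⟩ : ∃ e : ℤ, (e = 1 ∨ e = -1) ∧ ε = (e : ℂ) := by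
    rcases hε with h | h
    · exact ⟨1, Or.inl rfl, by simpa using h⟩
    · exact ⟨-1, Or.inr rfl, by simpa using h⟩
  subst heps
  set X₁ : Cfsg.IrrCharacter G := ⟨μ 1, hμirr 1⟩
  set X₂ : Cfsg.IrrCharacter G := ⟨μ 0, hμirr 0⟩
  set X₃ : Cfsg.IrrCharacter G := ⟨μ 2, hμirr 2⟩
  have h12 : X₁ ≠ X₂ := fun h => absurd (hμinj (congrArg Subtype.val h)) (by decide)
  have h13 : X₁ ≠ X₃ := fun h => absurd (hμinj (congrArg Subtype.val h)) (by decide)
  have h23 : X₂ ≠ X₃ := fun h => absurd (hμinj (congrArg Subtype.val h)) (by decide)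
  have hin : ∀ (i : Fin 3) (χ : Cfsg.IrrCharacter G), Cfsg.classInner (μ i) (χ : G → ℂ) =
      if χ = (⟨μ i, hμirr i⟩ : Cfsg.IrrCharacter G) then 1 else 0 := fun i χ => by
    rw [CfsgLib.Char.irr_classInner (hμirr i) χ.2]
    exact if_congr ⟨fun h => Subtype.ext h.symm, fun h => by rw [h]⟩ rfl rfl
  have hc1 : ∀ χ, c 1 χ = e * ((if χ = X₁ then 1 else 0) - (if χ = X₂ then 1 else 0)) := by
    intro χ
    have h1 := hc 1 χ
    rw [show D.U 1 = τ 1 from rfl, hμ 1, CfsgLib.Char.classInner_smul_left,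
      CfsgLib.Char.classInner_sub_left, hin, hin] at h1
    have : ((c 1 χ : ℤ) : ℂ) =
        ((e * ((if χ = X₁ then 1 else 0) - (if χ = X₂ then 1 else 0)) : ℤ) : ℂ) := by
      rw [← h1]; push_cast; rfl
    exact_mod_cast this
  have hc2 : ∀ χ, c 2 χ = e * ((if χ = X₂ then 1 else 0) - (if χ = X₃ then 1 else 0)) := by
    intro χ
    have h1 := hc 2 χ
    have hU : D.U 2 = (-(e : ℂ)) • (μ 2 - μ 0) := by
      rw [neg_smul, ← hμ 2]
      simp [τ]
    rw [hU, CfsgLib.Char.classInner_smul_left, CfsgLib.Char.classInner_sub_left, hin, hin] at h1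
    have : ((c 2 χ : ℤ) : ℂ) =
        ((e * ((if χ = X₂ then 1 else 0) - (if χ = X₃ then 1 else 0)) : ℤ) : ℂ) := by
      rw [← h1]; push_cast; ring
    exact_mod_cast this
  have he2 : e ≠ 0 := by rcases he with h | h <;> omega
  have h01 : c 0 X₁ = c 0 X₂ := by
    have h := hgram 0 1
    simp [hc1, mul_sub, Finset.sum_sub_distrib, gram] at h
    have : e * (c 0 X₁ - c 0 X₂) = 0 := by linear_combination h
    have := (mul_eq_zero.1 this).resolve_left he2
    omega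
  have h02 : c 0 X₂ = c 0 X₃ := by
    have h := hgram 0 2
    simp [hc2, mul_sub, Finset.sum_sub_distrib, gram] at h
    have : e * (c 0 X₂ - c 0 X₃) = 0 := by linear_combination h
    have := (mul_eq_zero.1 this).resolve_left he2
    omega
  have ho1 : o ≠ X₁ ∧ o ≠ X₂ ∧ o ≠ X₃ := by
    have e1 := hc1 o
    have e2 := hc2 o
    rw [ho] at e1 e2
    simp at e1 e2
    refine ⟨fun h => ?_, fun h => ?_, fun h => ?_⟩
    · rcases e1 with e1 | e1
      · exact he2 e1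
      · rw [← h] at e1; simp [h ▸ h12] at e1
    · rcases e1 with e1 | e1
      · exact he2 e1
      · rw [← h] at e1; simp [(h ▸ h12.symm : o ≠ X₁)] at e1
    · rcases e2 with e2 | e2
      · exact he2 e2
      · rw [← h] at e2; simp [(h ▸ h23.symm : o ≠ X₂)] at e2
  have hX0 : c 0 X₂ = 0 := by
    have h := hgram 0 0
    have hle : ∑ χ ∈ ({o, X₁, X₂, X₃} : Finset _), c 0 χ * c 0 χ ≤ ∑ χ, c 0 χ * c 0 χ :=
      Finset.sum_le_sum_of_subset_of_nonneg (Finset.subset_univ _) fun χ _ _ => mul_self_nonneg _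
    rw [Finset.sum_insert (by simp [ho1.1, ho1.2.1, ho1.2.2]),
      Finset.sum_insert (by simp [h12, h13]), Finset.sum_insert (by simp [h23]),
      Finset.sum_singleton, ho, h, h01, ← h02] at hle
    simp [gram] at hle
    by_contra hne
    have := mul_self_pos.2 hne
    omega
  -- the other two constituents of the first function
  let f : Cfsg.IrrCharacter G → ℤ := fun χ => if χ = o then 0 else c 0 χ
  have hf2 : ∑ χ, f χ * f χ = 2 := by
    have h := hgram 0 0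
    rw [← Finset.add_sum_erase _ _ (Finset.mem_univ o), ho] at h
    rw [← Finset.add_sum_erase _ _ (Finset.mem_univ o)]
    have e1 : ∑ χ ∈ Finset.univ.erase o, f χ * f χ = ∑ χ ∈ Finset.univ.erase o, c 0 χ * c 0 χ :=
      Finset.sum_congr rfl fun χ hχ => by simp [f, (Finset.mem_erase.1 hχ).1]
    rw [e1]
    simp [gram] at h
    simp [f]
    omega
  obtain ⟨A, B, hAB, hA, hB, hrest⟩ := sum_sq_two f hf2
  have hAo : A ≠ o := fun h => by simp [f, h] at hA
  have hBo : B ≠ o := fun h => by simp [f, h] at hB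
  simp only [f, if_neg hAo] at hA
  simp only [f, if_neg hBo] at hB
  have hA0 : c 0 A ≠ 0 := by rcases hA with h | h <;> omega
  have hB0 : c 0 B ≠ 0 := by rcases hB with h | h <;> omega
  have hrest' : ∀ χ, χ ≠ o → χ ≠ A → χ ≠ B → c 0 χ = 0 := fun χ h1 h2 h3 => by
    simpa [f, h1] using hrest χ h2 h3
  have hA1 : A ≠ X₁ ∧ A ≠ X₂ ∧ A ≠ X₃ :=
    ⟨fun h => hA0 (by rw [h, h01, hX0]), fun h => hA0 (by rw [h, hX0]),
      fun h => hA0 (by rw [h, ← h02, hX0])⟩
  have hB1 : B ≠ X₁ ∧ B ≠ X₂ ∧ B ≠ X₃ :=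
    ⟨fun h => hB0 (by rw [h, h01, hX0]), fun h => hB0 (by rw [h, hX0]),
      fun h => hB0 (by rw [h, ← h02, hX0])⟩
  refine ⟨c, o, A, B, X₁, X₂, X₃, c 0 A, c 0 B, e, hy, hA, hB, he, ?_, rfl, ?_, ⟨?_, ?_⟩,
    ⟨ho 0, ho 1, ho 2⟩, ⟨rfl, ?_, ?_⟩, ⟨rfl, ?_, ?_⟩, ⟨h01.trans hX0, ?_, ?_⟩, ⟨hX0, ?_, ?_⟩,
    ⟨h02.symm.trans hX0, ?_, ?_⟩, fun χ a1 a2 a3 a4 a5 a6 => ⟨hrest' χ a1 a2 a3, ?_, ?_⟩⟩
  · simp [hAo.symm, hBo.symm, ho1.1, ho1.2.1, ho1.2.2, hAB, hA1.1, hA1.2.1, hA1.2.2, hB1.1,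
      hB1.2.1, hB1.2.2, h12, h13, h23]
  · have h := hdeg 0
    rw [← Finset.sum_subset (Finset.subset_univ ({o, A, B} : Finset _)) (fun χ _ hχ => by
      simp only [Finset.mem_insert, Finset.mem_singleton, not_or] at hχ
      rw [hrest' χ hχ.1 hχ.2.1 hχ.2.2, Int.cast_zero, zero_mul]),
      Finset.sum_insert (by simp [hAo.symm, hBo.symm]), Finset.sum_insert (by simp [hAB]),
      Finset.sum_singleton, ho] at h
    simp [o] at h
    linear_combination h
  · have h := hdeg 1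
    simp [hc1, mul_sub, sub_mul, Finset.sum_sub_distrib] at h
    have : (e : ℂ) * ((X₁ : G → ℂ) 1 - (X₂ : G → ℂ) 1) = 0 := by linear_combination h
    exact sub_eq_zero.1 ((mul_eq_zero.1 this).resolve_left (by exact_mod_cast he2))
  · have h := hdeg 2
    simp [hc2, mul_sub, sub_mul, Finset.sum_sub_distrib] at h
    have : (e : ℂ) * ((X₂ : G → ℂ) 1 - (X₃ : G → ℂ) 1) = 0 := by linear_combination h
    exact sub_eq_zero.1 ((mul_eq_zero.1 this).resolve_left (by exact_mod_cast he2))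
  all_goals first
    | (rw [hc1]; simp [hA1.1, hA1.2.1, hB1.1, hB1.2.1, h12, h12.symm, h13.symm, h23.symm, a4, a5])
    | (rw [hc1]; simp [hA1.1, hA1.2.1, hB1.1, hB1.2.1, h12, h12.symm, h13.symm, h23.symm])
    | (rw [hc2]; simp [hA1.2.1, hA1.2.2, hB1.2.1, hB1.2.2, h12, h13, h23, h23.symm, a5, a6])
    | (rw [hc2]; simp [hA1.2.1, hA1.2.2, hB1.2.1, hB1.2.2, h12, h13, h23, h23.symm])

theorem arith {ea eb e : ℤ} {da db x N n C : ℕ} (hda : 0 < da) (hdb : 0 < db) (hx : 2 ≤ x ∨ e = -1)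
    (hea : ea = 1 ∨ ea = -1) (heb : eb = 1 ∨ eb = -1) (he : e = 1 ∨ e = -1) (hN : 0 < N)
    (hdeg : 1 + ea * da + eb * db = 0) (hx0 : 0 < x) (hn : 0 < n) (hle : n ≤ 9 * C)
    (h1 : (1 : ℚ) + ea / da + eb / db - 3 * e / x = 0)
    (h2 : (n : ℚ) = N * (1 + ea / da + eb / db + 6 * e / x)) : N ≤ 2 * C := by
  set S : ℚ := 1 + ea / da + eb / db with hS
  have hS1 : 1 < S := by
    rcases hea with rfl | rfl <;> rcases heb with rfl | rfl
    · omega
    · have hd : db = da + 1 := by omega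
      have hlt : (1 : ℚ) / db < 1 / da := by
        refine one_div_lt_one_div_of_lt (by exact_mod_cast hda) ?_
        exact_mod_cast (by omega : da < db)
      rw [hS]; push_cast
      rw [neg_div]
      linarith
    · have hd : da = db + 1 := by omega
      have hlt : (1 : ℚ) / da < 1 / db := by
        refine one_div_lt_one_div_of_lt (by exact_mod_cast hdb) ?_
        exact_mod_cast (by omega : db < da)
      rw [hS]; push_cast
      rw [neg_div]
      linarith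
    · omega
  have hxq : (0 : ℚ) < x := by exact_mod_cast hx0
  have hSe : S = 3 * e / x := by linarith
  have he1 : e = 1 := by
    rcases he with h | h
    · exact h
    · exfalso
      rw [h] at hSe
      have : (3 : ℚ) * ((-1 : ℤ) : ℚ) / x ≤ 0 :=
        div_nonpos_of_nonpos_of_nonneg (by norm_num) hxq.le
      linarith
  subst he1
  have hx2 : x = 2 := by
    have h3 : (x : ℚ) < 3 := by
      rw [hSe, lt_div_iff₀ hxq] at hS1
      push_cast at hS1
      linarith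
    have h3' : x < 3 := by exact_mod_cast h3
    rcases hx with hx | hx
    · omega
    · exact absurd hx (by decide)
  subst hx2
  have hle' : (n : ℚ) ≤ 9 * C := by exact_mod_cast hle
  have : (N : ℚ) ≤ 2 * C := by
    rw [h2, hSe] at hle'
    push_cast at hle'
    linarith
  exact_mod_cast this

/-- The centraliser of `a` has index at most two. -/
theorem Data.card_le (R : Retr D) :
    Nat.card G ≤ 2 * Nat.card (Subgroup.centralizer ({D.a} : Set G)) := by
  classical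
  haveI := Fintype.ofFinite (Cfsg.IrrCharacter G)
  obtain ⟨c, o, A, B, X₁, X₂, X₃, ea, eb, e, hy, hea, heb, he, hnd, hod, hdegA, ⟨hX12, hX23⟩,
    co, cA, cB, c1, c2, c3, hrest⟩ := D.exists_six
  choose d hd0 hd using fun χ : Cfsg.IrrCharacter G => CfsgLib.Char.irr_apply_one_pos χ.2
  have hneg : ∀ (χ : Cfsg.IrrCharacter G),
      (χ : G → ℂ) (D.el v2) = (χ : G → ℂ) (D.el (qv 2)) := fun χ => by
    have h := CfsgLib.Char.irr_isClassFunction χ.2 (D.el (qv 2)) D.t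
    rw [D.inv_el] at h
    rw [← h]
    congr 2
  set y0 : Cfsg.IrrCharacter G → ℤ := fun χ => c 0 χ + 2 * c 1 χ + c 2 χ
  set y1 : Cfsg.IrrCharacter G → ℤ := fun χ => c 0 χ - c 1 χ + c 2 χ
  set y2 : Cfsg.IrrCharacter G → ℤ := fun χ => c 0 χ - c 1 χ - 2 * c 2 χ
  have hsum : ∀ (w : Cfsg.IrrCharacter G → ℤ) (z : G),
      (∀ χ : Cfsg.IrrCharacter G, (χ : G → ℂ) z = (w χ : ℂ)) →
      (∀ χ, c 0 χ = 0 → c 1 χ = 0 → c 2 χ = 0 → w χ = 0) →
      (pairCount G (D.el v0) (D.el v1) z : ℚ) = (Nat.card G : ℚ) *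
        (((y0 o * y1 o * w o : ℤ) : ℚ) / d o + ((y0 A * y1 A * w A : ℤ) : ℚ) / d A +
          ((y0 B * y1 B * w B : ℤ) : ℚ) / d B + ((y0 X₁ * y1 X₁ * w X₁ : ℤ) : ℚ) / d X₁ +
          ((y0 X₂ * y1 X₂ * w X₂ : ℤ) : ℚ) / d X₂ + ((y0 X₃ * y1 X₃ * w X₃ : ℤ) : ℚ) / d X₃) := by
    intro w z hw hw0
    have h := pairCount_eq_sum (D.el v0) (D.el v1) z
    have h0 : ∀ χ : Cfsg.IrrCharacter G, (χ : G → ℂ) (D.el v0) = (y0 χ : ℂ) := fun χ => (hy χ).1
    have h1 : ∀ χ : Cfsg.IrrCharacter G, (χ : G → ℂ) (D.el v1) = (y1 χ : ℂ) := fun χ => (hy χ).2.1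
    simp only [h0, h1, hw, hd, map_div₀, map_mul, map_intCast, map_natCast] at h
    rw [← Finset.sum_subset (Finset.subset_univ ({o, A, B, X₁, X₂, X₃} : Finset _))
      (fun χ _ hχ => by
        simp only [Finset.mem_insert, Finset.mem_singleton, not_or] at hχ
        obtain ⟨a1, a2, a3, a4, a5, a6⟩ := hχ
        obtain ⟨z0, z1, z2⟩ := hrest χ a1 a2 a3 a4 a5 a6
        simp [hw0 χ z0 z1 z2])] at h
    simp only [List.nodup_cons, List.mem_cons, List.not_mem_nil, not_or, List.nodup_nil,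
      not_false_eq_true, and_true] at hnd
    obtain ⟨⟨o1, o2, o3, o4, o5⟩, ⟨A1, A2, A3, A4⟩, ⟨B1, B2, B3⟩, ⟨X12, X13⟩, X23⟩ := hnd
    rw [Finset.sum_insert (by simp [o1, o2, o3, o4, o5]),
      Finset.sum_insert (by simp [A1, A2, A3, A4]), Finset.sum_insert (by simp [B1, B2, B3]),
      Finset.sum_insert (by simp [X12, X13]), Finset.sum_insert (by simp [X23]),
      Finset.sum_singleton] at h
    apply (Rat.cast_injective (α := ℂ))
    push_cast
    rw [h]
    ring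
  have hz := hsum y0 (D.el v0) (fun χ => (hy χ).1) (fun χ a b c' => by simp [y0, a, b, c'])
  have hp := hsum y2 (D.el v2) (fun χ => (hneg χ).trans (hy χ).2.2)
    (fun χ a b c' => by simp [y2, a, b, c'])
  rw [R.pairCount_zero, Nat.cast_zero] at hz
  obtain ⟨co0, co1, co2⟩ := co
  obtain ⟨cA0, cA1, cA2⟩ := cA
  obtain ⟨cB0, cB1, cB2⟩ := cB
  obtain ⟨c10, c11, c12⟩ := c1
  obtain ⟨c20, c21, c22⟩ := c2
  obtain ⟨c30, c31, c32⟩ := c3
  have hdo : d o = 1 := by
    have := (hd o).symm.trans hod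
    exact_mod_cast this
  have hd12 : d X₁ = d X₂ := by
    have := (hd X₁).symm.trans (hX12.trans (hd X₂))
    exact_mod_cast this
  have hd23 : d X₂ = d X₃ := by
    have := (hd X₂).symm.trans (hX23.trans (hd X₃))
    exact_mod_cast this
  have cub : ∀ {s : ℤ}, s = 1 ∨ s = -1 → s * s * s = s := by rintro s (rfl | rfl) <;> rfl
  simp only [y0, y1, y2, co0, co1, co2, cA0, cA1, cA2, cB0, cB1, cB2, c10, c11, c12, c20, c21,
    c22, c30, c31, c32, hdo, ← hd23, hd12] at hz hp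
  simp only [mul_zero, add_zero, zero_add, sub_zero, cub hea, cub heb] at hz hp
  have hN : 0 < Nat.card G := Nat.card_pos
  have h3 := cub he
  have hNq : (Nat.card G : ℚ) ≠ 0 := by exact_mod_cast hN.ne'
  have h3q : (e : ℚ) * e * e = e := by exact_mod_cast h3
  refine arith (ea := ea) (eb := eb) (e := e) (hd0 A) (hd0 B) (x := d X₂) ?_ hea heb he hN ?_
    (hd0 X₂) D.pairCount_pos R.pairCount_le ?_ ?_
  · rcases he with he1 | he1
    · left
      obtain ⟨n, ρ, -, hρ⟩ := X₁.2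
      have hb := CfsgLib.Char.norm_char_le (ρ := ρ) (D.el (qv 0))
      have h1 := (hy X₁).1
      rw [c10, c11, c12, he1] at h1
      rw [hρ, h1] at hb
      have hfr : (Module.finrank ℂ (Fin n → ℂ) : ℂ) = (d X₁ : ℂ) := by
        rw [← ρ.char_one, hρ, hd]
      have hfr' : Module.finrank ℂ (Fin n → ℂ) = d X₁ := by exact_mod_cast hfr
      rw [hfr', hd12] at hb
      norm_num at hb
      exact_mod_cast hb
    · exact Or.inr he1
  · have h := hdegA
    rw [hd A, hd B] at h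
    exact_mod_cast h
  · refine (mul_eq_zero.1 ?_).resolve_left hNq
    push_cast at hz ⊢
    rw [hz]
    linear_combination ((3 : ℚ) * (Nat.card G : ℚ) / (d X₂ : ℚ)) * h3q
  · push_cast at hp ⊢
    rw [hp]
    linear_combination (6 * (Nat.card G : ℚ) / (d X₂ : ℚ)) * h3q

end CfsgLib.Recog.AltNine.FarSylow

namespace CfsgLib.Recog.AltNine

open FarSylow

universe u

/-- A Sylow 3-subgroup of order nine, inverted by its normaliser of order eighteen, whose elements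
outside one axis have centralisers inside it, in a group with trivial `3'`-core, is normal. -/
theorem sylow_normal {L : Type u} [Group L] [Finite L] (T : Sylow 3 L)
    (hcard : Nat.card (T : Subgroup L) = 9) (hcube : ∀ x ∈ (T : Subgroup L), x ^ 3 = 1)
    {a t : L} (hN : Nat.card (Subgroup.normalizer ((T : Subgroup L) : Set L)) = 18)
    (htN : t ∈ Subgroup.normalizer ((T : Subgroup L) : Set L))
    (htinv : ∀ x ∈ (T : Subgroup L), t * x * t⁻¹ = x⁻¹) (htT : t ∉ (T : Subgroup L))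
    (ha : a ∈ (T : Subgroup L)) (ha1 : a ≠ 1)
    (hcent : ∀ s ∈ (T : Subgroup L), s ∉ Subgroup.zpowers a →
      Subgroup.centralizer ({s} : Set L) ≤ T)
    (hcore : Cfsg.pPrimeCore 3 L = ⊥) : (T : Subgroup L).Normal := by
  classical
  haveI := Fintype.ofFinite L
  haveI : Fact (Nat.Prime 3) := ⟨Nat.prime_three⟩
  have hcomm : ∀ x ∈ (T : Subgroup L), ∀ y ∈ (T : Subgroup L), x * y = y * x := fun x hx y hy => by
    have h := IsPGroup.commutative_of_card_eq_prime_sq (p := 3) (G := (T : Subgroup L))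
      (by rw [hcard]; norm_num) ⟨x, hx⟩ ⟨y, hy⟩
    exact congrArg Subtype.val h
  obtain ⟨b, hb, hb'⟩ : ∃ b ∈ (T : Subgroup L), b ∉ Subgroup.zpowers a := by
    by_contra hcon
    push Not at hcon
    have h := Subgroup.card_le_of_le (show (T : Subgroup L) ≤ Subgroup.zpowers a from hcon)
    rw [hcard, Nat.card_zpowers] at h
    have := orderOf_le_of_pow_eq_one (by norm_num) (hcube a ha)
    omega
  let D : Data L := ⟨T, a, b, t, hcard, hcube, hcomm, ha, hb, hb', ha1, hN, htN, htT, htinv, hcent⟩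
  obtain ⟨R⟩ := D.exists_retr T rfl
  have hle : Nat.card L ≤ 2 * Nat.card (Subgroup.centralizer ({a} : Set L)) := D.card_le R
  set C := Subgroup.centralizer ({a} : Set L)
  have hCn : C.Normal := by
    have h := C.card_mul_index
    have h2 : C.index ≤ 2 := by
      have := Nat.card_pos (α := C)
      by_contra h3
      nlinarith
    have h0 : C.index ≠ 0 := fun e => by
      rw [e, mul_zero] at h
      exact (Nat.card_pos (α := L)).ne h
    rcases (show C.index = 1 ∨ C.index = 2 by omega) with e | e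
    · rw [Subgroup.index_eq_one.1 e]; infer_instance
    · exact Subgroup.normal_of_index_eq_two e
  set W : Subgroup L := R.ph.ker.map C.subtype
  have hWn : W.Normal := by
    refine ⟨fun w hw g => ?_⟩
    obtain ⟨⟨w, hwC⟩, hwk, rfl⟩ := Subgroup.mem_map.1 hw
    refine Subgroup.mem_map.2 ⟨⟨g * w * g⁻¹, hCn.conj_mem w hwC g⟩, ?_, rfl⟩
    have h1 : orderOf (⟨w, hwC⟩ : C) ∣ Nat.card R.ph.ker :=
      R.ph.ker.orderOf_dvd_natCard hwk
    rw [Subgroup.orderOf_mk] at h1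
    have h2 : orderOf (g * w * g⁻¹) = orderOf w := by
      simpa using (MulAut.conj g).orderOf_eq w
    rw [MonoidHom.mem_ker, ← orderOf_eq_one_iff]
    have h3 : orderOf (R.ph ⟨g * w * g⁻¹, hCn.conj_mem w hwC g⟩) ∣ 3 :=
      orderOf_dvd_of_pow_eq_one (Subtype.ext (hcube _ (R.ph _).2))
    have h4 := orderOf_map_dvd R.ph (⟨g * w * g⁻¹, hCn.conj_mem w hwC g⟩ : C)
    rw [show orderOf (⟨g * w * g⁻¹, hCn.conj_mem w hwC g⟩ : C) = orderOf w from by
      rw [Subgroup.orderOf_mk, h2]] at h4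
    exact Nat.eq_one_of_dvd_coprimes ((Nat.prime_three.coprime_iff_not_dvd).2 R.ker_coprime) h3
      (h4.trans h1)
  have hWb : W = ⊥ := by
    refine le_bot_iff.1 (hcore ▸ le_sSup ⟨hWn, ?_⟩)
    rw [Subgroup.card_map_of_injective C.subtype_injective]
    exact ((Nat.prime_three.coprime_iff_not_dvd).2 R.ker_coprime).symm
  have hk : R.ph.ker = ⊥ := (Subgroup.map_eq_bot_iff_of_injective _ C.subtype_injective).1 hWb
  have h9 := R.ker_card
  rw [hk, Subgroup.card_bot] at h9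
  have hTC : (T : Subgroup L) = C :=
    Subgroup.eq_of_le_of_card_ge D.le_cent (by rw [hcard]; exact h9.ge)
  rw [hTC]
  exact hCn

end CfsgLib.Recog.AltNine
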