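import Cfsg.Agent.Lib.Recog.AltNine.Small
import Cfsg.Agent.Lib.Recog.SuborbitThree.Small

/-!
# The case where the centraliser of the second four group acts as `A₅`
-/

set_option autoImplicit false
set_option maxRecDepth 100000

namespace CfsgLib.Recog.AltNine

open CfsgLib.Block CfsgLib.Block.FourCube Equiv
open CfsgLib.Clifford.AltSchur (c3 c3_mem)
open CfsgLib.Recog.SymNine (V Mon act comp monOne x0 e0 e1 e2 Acts Norms scal weight act_comp
  act_one act_add Cube)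

/-- the alternating group of degree five -/
abbrev A5 := alternatingGroup (Fin 5)

/-- a three cycle -/
def cU : A5 := ⟨c3 0 1 2, c3_mem (by decide) (by decide)⟩
/-- a linked three cycle -/
def a13 : A5 := ⟨c3 0 1 3, c3_mem (by decide) (by decide)⟩
/-- another linked three cycle -/
def a14 : A5 := ⟨c3 0 1 4, c3_mem (by decide) (by decide)⟩
/-- an involution inverting the three cycle -/
def bU : A5 := ⟨swap 0 1 * swap 3 4, by simp [Equiv.Perm.mem_alternatingGroup]⟩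

theorem five_norm : ∀ U b : A5, U * U * U = 1 → U ≠ 1 → b * b = 1 → b * U * b = U * U →
    ∃ g : A5, g * U * g⁻¹ = cU ∧ g * b * g⁻¹ = bU := by decide +kernel

theorem five_cent : ∀ π : Perm (Fin 5), π * (cU : Perm (Fin 5)) = (cU : Perm (Fin 5)) * π →
    π * (bU : Perm (Fin 5)) = (bU : Perm (Fin 5)) * π → π = 1 ∨ π = swap 3 4 := by decide +kernel

theorem five_swap : ∃ g : A5,
    (g : Perm (Fin 5)) * swap 3 4 * (g : Perm (Fin 5))⁻¹ * (swap 3 4)⁻¹ = (bU : Perm (Fin 5)) := by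
  decide +kernel

theorem five_invol : ∀ x : A5, x * x = 1 → x ≠ 1 → ∃ g : A5, g * x * g⁻¹ = bU := by decide +kernel

/-- the three cycles forming an alternating group of degree four with the first one -/
def links : List A5 := [a13, cU * a13 * cU⁻¹, cU⁻¹ * a13 * cU, a14, cU * a14 * cU⁻¹, cU⁻¹ * a14 * cU]

theorem five_three : ∀ A : A5, A * A * A = 1 → A ≠ 1 → cU * A ≠ 1 → cU * A * (cU * A) = 1 → A ∈ links := by
  decide +kernel

theorem five_pair : ∀ A ∈ links, ∀ B ∈ links, ∃ m : Fin 3,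
    A = cU ^ (m : ℕ) * B * (cU ^ (m : ℕ))⁻¹ ∨
    (A * (cU ^ (m : ℕ) * B * (cU ^ (m : ℕ))⁻¹) * (A * (cU ^ (m : ℕ) * B * (cU ^ (m : ℕ))⁻¹)) = 1 ∧
      A * (cU ^ (m : ℕ) * B * (cU ^ (m : ℕ))⁻¹) ≠ 1 ∧
      ∃ i : Fin 3, cU ^ (i : ℕ) * A * (cU ^ (i : ℕ))⁻¹ = a13 ∧
          cU ^ (i : ℕ) * (cU ^ (m : ℕ) * B * (cU ^ (m : ℕ))⁻¹) * (cU ^ (i : ℕ))⁻¹ = a14 ∨
        cU ^ (i : ℕ) * A * (cU ^ (i : ℕ))⁻¹ = a14 ∧
          cU ^ (i : ℕ) * (cU ^ (m : ℕ) * B * (cU ^ (m : ℕ))⁻¹) * (cU ^ (i : ℕ))⁻¹ = a13) := by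
  decide +kernel

theorem closure_five : Subgroup.closure (Set.range ![cU, a13, a14]) = (⊤ : Subgroup A5) :=
  QSThree.Alt.closure_c3_eq_top (a := 0) (b := 1) (by decide) _ (fun i h0 h1 => by
    fin_cases i
    · exact absurd rfl h0
    · exact absurd rfl h1
    · exact ⟨0, rfl⟩
    · exact ⟨1, rfl⟩
    · exact ⟨2, rfl⟩)

/-- the generator of a four group moved to a cycle of the last cover -/
def z0A : A6 := ⟨swap 2 5 * swap 3 4, by simp [Equiv.Perm.mem_alternatingGroup]⟩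

theorem z0_facts : z0A * gA = gA * z0A ∧ tauA z0A = z0A ∧ cA = qA * z0A * (qA * qA)⁻¹ ∧
    qA * cA * (qA * cA) = 1 ∧ cA * cA * cA = 1 ∧ cA ≠ 1 ∧ cA * pA ≠ pA * cA ∧
    cA * qA ≠ qA * cA := by decide +kernel

theorem sub_facts : ∀ z ∈ [1, eA, dA, eA * dA], kA * z * kA ∈ [1, eA, dA, eA * dA] ∧
    (tauA z * z = 1 → z = 1 ∨ z = eA) ∧ (z * kA * (z * kA) = 1 → z = 1 ∨ z = eA) := by
  decide +kernel

theorem mulAut_five (f : MulAut A5) : ∃ π : Perm (Fin 5), MulAut.conjNormal π = f := by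
  obtain ⟨e⟩ := SuborbitThree.mulAut_altFive_equiv
  exact ((Nat.bijective_iff_injective_and_card _).2
    ⟨CfsgLib.InvChar.conjNormal_injective (by norm_num), (Nat.card_congr e.toEquiv).symm⟩).2 f

universe u

variable {G : Type u} [Group G] {D : Cfg G} (F : Frame D)

theorem Frame.k_sq : F.k * F.k = 1 := by rw [Frame.k, ← map_mul, kd_facts.1, map_one]

theorem Frame.mem_Vg {v : G} (hv : v ∈ F.K2.Vg) :
    ∃ z ∈ [1, eA, dA, eA * dA], v = F.C.φ z := by
  obtain ⟨z, hz, rfl⟩ := hv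
  refine ⟨z, ?_, rfl⟩
  rcases hz with rfl | rfl | rfl | rfl
  · simp
  · simp
  · show dA ∈ _; simp
  · show eA * dA ∈ _; simp

theorem Frame.of_mem_Vg {z : A6} (hz : z ∈ [1, eA, dA, eA * dA]) : F.C.φ z ∈ F.K2.Vg := by
  refine ⟨z, ?_, rfl⟩
  simp only [List.mem_cons, List.not_mem_nil, or_false] at hz
  exact hz

theorem Frame.k_Vg {v : G} (hv : v ∈ F.K2.Vg) : F.k * v * F.k ∈ F.K2.Vg := by
  obtain ⟨z, hz, rfl⟩ := F.mem_Vg hv
  rw [Frame.k, ← map_mul, ← map_mul]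
  exact F.of_mem_Vg (sub_facts z hz).1

theorem Frame.sk_mem : F.s * F.k ∈ F.K2.Y := by
  have hke : F.k * F.e * F.k⁻¹ = F.e := mul_inv_eq_iff_eq_mul.2
    (F.phi_e kA kd_facts.2.2.1.symm).eq
  refine F.K2.mem_Y.2 ⟨F.inN_s.1.mul_left (F.phi_e kA kd_facts.2.2.1.symm),
    mul_inv_eq_iff_eq_mul.1 ?_⟩
  show F.s * F.k * F.d * (F.s * F.k)⁻¹ = F.d
  have hkd : F.k * F.d * F.k⁻¹ = F.d * F.e := by
    rw [Frame.k, Frame.d, Frame.e, ← map_inv, ← map_mul, ← map_mul, ← map_mul,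
      inv_eq_of_mul_eq_one_right kd_facts.1, kd_facts.2.2.2.2.1]
  rw [show F.s * F.k * F.d * (F.s * F.k)⁻¹ = F.s * (F.k * F.d * F.k⁻¹) * F.s⁻¹ by group, hkd,
    show F.s * (F.d * F.e) * F.s⁻¹ = F.s * F.d * F.s⁻¹ * (F.s * F.e * F.s⁻¹) by group, F.s_d,
    F.s_e, mul_assoc, show F.e * F.e = 1 from F.C.e_sq, mul_one]

theorem Frame.sk_sq : F.s * F.k * (F.s * F.k) = 1 := by
  have h : Commute F.s F.k := mul_inv_eq_iff_eq_mul.1 F.s_k
  rw [← pow_two, h.mul_pow, pow_two, pow_two, F.s_sq, F.k_sq, mul_one]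

theorem Frame.sk_u : F.s * F.k * F.u * (F.s * F.k)⁻¹ = F.u⁻¹ := by
  rw [show F.s * F.k * F.u * (F.s * F.k)⁻¹ = F.s * (F.k * F.u * F.k⁻¹) * F.s⁻¹ by group,
    (F.commute_u kA).eq, mul_inv_cancel_right, F.s_u]

theorem Frame.k_conj_mem {g : G} (hg : g ∈ F.K2.Y) : F.k * g * F.k⁻¹ ∈ F.K2.Y := by
  have hk : F.k⁻¹ = F.k := inv_eq_of_mul_eq_one_right F.k_sq
  refine Subgroup.mem_centralizer_iff.2 fun v hv => ?_
  have h := Subgroup.mem_centralizer_iff.1 hg _ (F.k_Vg hv)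
  rw [hk]
  calc v * (F.k * g * F.k) = F.k * (F.k * v * F.k * g) * F.k := by
        rw [show F.k * (F.k * v * F.k * g) * F.k = F.k * F.k * v * (F.k * g * F.k) by group,
          F.k_sq, one_mul]
    _ = F.k * (g * (F.k * v * F.k)) * F.k := by rw [h]
    _ = _ := by
        rw [show F.k * (g * (F.k * v * F.k)) * F.k = F.k * g * F.k * v * (F.k * F.k) by group,
          F.k_sq, mul_one]

/-- the automorphism induced by the block involution on the centraliser -/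
noncomputable def Frame.κY : MulAut F.K2.Y where
  toFun g := ⟨F.k * g * F.k⁻¹, F.k_conj_mem g.2⟩
  invFun g := ⟨F.k * g * F.k⁻¹, F.k_conj_mem g.2⟩
  left_inv g := Subtype.ext (by
    show F.k * (F.k * (g : G) * F.k⁻¹) * F.k⁻¹ = g
    rw [show F.k * (F.k * (g : G) * F.k⁻¹) * F.k⁻¹ = F.k * F.k * g * (F.k * F.k)⁻¹ by group,
      F.k_sq, one_mul, inv_one, mul_one])
  right_inv g := Subtype.ext (by
    show F.k * (F.k * (g : G) * F.k⁻¹) * F.k⁻¹ = g
    rw [show F.k * (F.k * (g : G) * F.k⁻¹) * F.k⁻¹ = F.k * F.k * g * (F.k * F.k)⁻¹ by group,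
      F.k_sq, one_mul, inv_one, mul_one])
  map_mul' a b := Subtype.ext (by
    show F.k * ((a : G) * b) * F.k⁻¹ = F.k * (a : G) * F.k⁻¹ * (F.k * (b : G) * F.k⁻¹)
    group)

theorem Frame.κY_coe (g : F.K2.Y) : ((F.κY g : F.K2.Y) : G) = F.k * g * F.k⁻¹ := rfl

theorem Frame.κY_Z : F.K2.Z.map F.κY.toMonoidHom = F.K2.Z := by
  have hle : ∀ z ∈ F.K2.Z, F.κY z ∈ F.K2.Z := fun z hz => Subgroup.mem_subgroupOf.2 (by
    rw [F.κY_coe, inv_eq_of_mul_eq_one_right F.k_sq]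
    exact F.k_Vg (Subgroup.mem_subgroupOf.1 hz))
  refine le_antisymm (by rintro _ ⟨z, hz, rfl⟩; exact hle z hz) fun z hz =>
    ⟨F.κY z, hle z hz, F.κY.apply_symm_apply z⟩

/-- the automorphism induced on the quotient -/
noncomputable def Frame.κ : MulAut F.K2.L := QuotientGroup.congr F.K2.Z F.K2.Z F.κY F.κY_Z

theorem Frame.κ_q (g : F.K2.Y) : F.κ (F.K2.q g) = F.K2.q (F.κY g) := rfl

/-- elements fixed by the block involution normalise the middle element -/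
theorem Frame.inN_of_k_fix [Finite G] {g v : G} (hg : g ∈ F.K2.Y) (hv : v ∈ F.K2.Vg)
    (h : F.k * g * F.k⁻¹ = g * v) : F.InN g := by
  obtain ⟨z, hz, rfl⟩ := F.mem_Vg hv
  have hconj : g⁻¹ * F.k * g = F.C.φ z * F.k := by
    calc g⁻¹ * F.k * g = g⁻¹ * (F.k * g * F.k⁻¹) * F.k := by group
      _ = _ := by rw [h]; group
  have hz2 : z * kA * (z * kA) = 1 := F.C.injective (by
    rw [map_one, map_mul, map_mul]
    show F.C.φ z * F.k * (F.C.φ z * F.k) = 1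
    rw [← hconj, show g⁻¹ * F.k * g * (g⁻¹ * F.k * g) = g⁻¹ * (F.k * F.k) * g by group, F.k_sq]
    group)
  have h1 : F.InN g⁻¹ := by
    refine F.cent_k (F.K2.mem_Y.1 hg).1.inv_left ?_
    rw [inv_inv, hconj]
    rcases (sub_facts z hz).2.2 hz2 with rfl | rfl
    · exact Or.inl (by rw [map_one, one_mul])
    · exact Or.inr (by rw [Frame.k, Frame.e, ← map_mul, ← map_mul, kd_facts.2.2.1])
  simpa using h1.inv

/-- coordinates on the quotient -/
theorem Frame.exists_coord [Finite G] :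
    ∃ f : F.K2.Y →* A5, Function.Surjective f ∧ f.ker = F.K2.Z ∧
      f ⟨F.u, F.K2.u_mem⟩ = cU ∧ f ⟨F.s * F.k, F.sk_mem⟩ = bU ∧
      ∀ g, ((f (F.κY g) : A5) : Perm (Fin 5)) = swap 3 4 * (f g : Perm (Fin 5)) * (swap 3 4)⁻¹ := by
  classical
  obtain ⟨e⟩ := (F.d_cases).resolve_left F.not_small
  set U := e (F.K2.q ⟨F.u, F.K2.u_mem⟩) with hU
  set B := e (F.K2.q ⟨F.s * F.k, F.sk_mem⟩) with hB
  have hU3 : U * U * U = 1 := by
    rw [hU, ← map_mul, ← map_mul, ← map_mul, ← map_mul, ← map_one (e.toMonoidHom.comp F.K2.q)]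
    refine congrArg (e.toMonoidHom.comp F.K2.q) (Subtype.ext ?_)
    show F.u * F.u * F.u = 1
    have := F.u_cube
    rwa [pow_succ, pow_two] at this
  have hU1 : U ≠ 1 := fun h => F.K2.u_not_mem (Subgroup.mem_subgroupOf.1
    ((QuotientGroup.eq_one_iff (⟨F.u, F.K2.u_mem⟩ : F.K2.Y)).1 (e.injective (by rw [map_one]; exact h))))
  have hB2 : B * B = 1 := by
    rw [hB, ← map_mul, ← map_mul, ← map_one (e.toMonoidHom.comp F.K2.q)]
    exact congrArg (e.toMonoidHom.comp F.K2.q) (Subtype.ext F.sk_sq)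
  have hBU : B * U * B = U * U := by
    rw [hB, hU, ← map_mul, ← map_mul, ← map_mul, ← map_mul, ← map_mul, ← map_mul]
    refine congrArg (e.toMonoidHom.comp F.K2.q) (Subtype.ext ?_)
    show F.s * F.k * F.u * (F.s * F.k) = F.u * F.u
    rw [← inv_eq_of_mul_eq_one_right F.sk_sq]
    have h := F.sk_u
    rw [inv_eq_of_mul_eq_one_right F.sk_sq] at h ⊢
    rw [h]
    refine inv_eq_of_mul_eq_one_right ?_
    have := F.u_cube
    rwa [pow_succ, pow_two, mul_assoc] at this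
  obtain ⟨g, hgU, hgB⟩ := five_norm U B hU3 hU1 hB2 hBU
  set θ : F.K2.L ≃* A5 := e.trans (MulAut.conj g) with hθ
  obtain ⟨π, hπ⟩ := mulAut_five ((θ.symm.trans F.κ).trans θ)
  have key : ∀ x, π * (θ x : Perm (Fin 5)) * π⁻¹ = (θ (F.κ x) : Perm (Fin 5)) := fun x => by
    have := DFunLike.congr_fun hπ (θ x)
    simp only [MulEquiv.trans_apply, MulEquiv.symm_apply_apply] at this
    rw [← this, MulAut.conjNormal_apply]
  have θU : θ (F.K2.q ⟨F.u, F.K2.u_mem⟩) = cU := hgU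
  have θB : θ (F.K2.q ⟨F.s * F.k, F.sk_mem⟩) = bU := hgB
  have κu : F.κ (F.K2.q ⟨F.u, F.K2.u_mem⟩) = F.K2.q ⟨F.u, F.K2.u_mem⟩ :=
    congrArg F.K2.q (Subtype.ext (by
      show F.k * F.u * F.k⁻¹ = F.u
      rw [(F.commute_u kA).eq, mul_inv_cancel_right]))
  have κb : F.κ (F.K2.q ⟨F.s * F.k, F.sk_mem⟩) = F.K2.q ⟨F.s * F.k, F.sk_mem⟩ :=
    congrArg F.K2.q (Subtype.ext (by
      show F.k * (F.s * F.k) * F.k⁻¹ = F.s * F.k
      have h : Commute F.s F.k := mul_inv_eq_iff_eq_mul.1 F.s_k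
      rw [← mul_assoc, ← h.eq, mul_inv_cancel_right]))
  have hπU := key (F.K2.q ⟨F.u, F.K2.u_mem⟩)
  have hπB := key (F.K2.q ⟨F.s * F.k, F.sk_mem⟩)
  rw [κu, θU] at hπU
  rw [κb, θB] at hπB
  rcases five_cent π (mul_inv_eq_iff_eq_mul.1 hπU) (mul_inv_eq_iff_eq_mul.1 hπB) with rfl | rfl
  · refine (F.not_small fun x hxe hxd => ?_).elim
    have hx : x ∈ F.K2.Y := F.K2.mem_Y.2 ⟨hxe, hxd⟩
    have h := key (F.K2.q ⟨x, hx⟩)
    rw [one_mul, inv_one, mul_one] at h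
    obtain ⟨v, hv, hxv⟩ := F.K2.q_eq (θ.injective (Subtype.ext h) : _ = F.K2.q (F.κY ⟨x, hx⟩))
    exact F.inN_of_k_fix hx hv hxv
  · refine ⟨θ.toMonoidHom.comp F.K2.q, θ.surjective.comp (QuotientGroup.mk'_surjective _), ?_, θU,
      θB, fun x => (key (F.K2.q x)).symm⟩
    refine le_antisymm (fun x hx => ?_) fun x hx => ?_
    · exact (QuotientGroup.eq_one_iff x).1 (θ.injective (by rw [map_one]; exact hx))
    · rw [MonoidHom.mem_ker]
      show θ (F.K2.q x) = 1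
      rw [show F.K2.q x = 1 from (QuotientGroup.eq_one_iff x).2 hx, map_one]

/-- a conjugate of the block involution is the reflection, up to the centre -/
theorem Frame.exists_fuse [Finite G] :
    ∃ g ∈ F.K2.Y, g * F.k * g⁻¹ = F.s ∨ g * F.k * g⁻¹ = F.s * F.e := by
  obtain ⟨f, hf, hker, -, hB, hκ⟩ := F.exists_coord
  obtain ⟨h, hh⟩ := five_swap
  obtain ⟨g, rfl⟩ := hf h
  have e : f (g * F.κY g⁻¹) = f ⟨F.s * F.k, F.sk_mem⟩ := Subtype.ext (by
    rw [hB, map_mul, Subgroup.coe_mul, hκ, map_inv, Subgroup.coe_inv, ← hh]; group)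
  have hZ : (⟨F.s * F.k, F.sk_mem⟩ : F.K2.Y)⁻¹ * (g * F.κY g⁻¹) ∈ F.K2.Z := by
    rw [← hker, MonoidHom.mem_ker, map_mul, map_inv, e, inv_mul_cancel]
  obtain ⟨z, hz, hzv⟩ := F.mem_Vg (Subgroup.mem_subgroupOf.1 hZ)
  simp only [Subgroup.coe_mul, Subgroup.coe_inv, F.κY_coe] at hzv
  have hgk : (g : G) * F.k * (g : G)⁻¹ = F.s * (F.k * F.C.φ z * F.k) := by
    have h' : (g : G) * (F.k * (g : G)⁻¹ * F.k⁻¹) = F.s * F.k * F.C.φ z := by rw [← hzv]; group
    calc (g : G) * F.k * (g : G)⁻¹ = (g : G) * (F.k * (g : G)⁻¹ * F.k⁻¹) * F.k := by group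
      _ = _ := by rw [h']; group
  obtain ⟨w, hw, hwv⟩ := F.mem_Vg (F.k_Vg (F.of_mem_Vg hz))
  rw [hwv] at hgk
  have h2 : tauA w * w = 1 := F.C.injective (by
    rw [map_one, map_mul]
    calc F.C.φ (tauA w) * F.C.φ w = F.C.φ (tauA w) * F.s * F.s * F.C.φ w := by
          rw [mul_assoc (F.C.φ (tauA w)) F.s F.s, F.s_sq, mul_one]
      _ = F.s * F.C.φ w * (F.s * F.C.φ w) := by rw [← F.s_phi]; group
      _ = (g : G) * (F.k * F.k) * (g : G)⁻¹ := by rw [← hgk]; group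
      _ = 1 := by rw [F.k_sq, mul_one, mul_inv_cancel])
  refine ⟨g, g.2, ?_⟩
  rcases (sub_facts w hw).2.1 h2 with rfl | rfl
  · exact Or.inl (by rw [hgk, map_one, mul_one])
  · exact Or.inr hgk

/-- the first generator of the last alternating group of degree four -/
noncomputable abbrev Frame.a3 : G := F.C'.φ cA
/-- its image under the element exchanging the outer coordinates -/
noncomputable abbrev Frame.a7 : G := F.C.φ fA * F.a3 * (F.C.φ fA)⁻¹

theorem Frame.u_eq : F.u = F.C'.φ qA := F.C'.hq.symm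

theorem Frame.three_mem {x : G} (h3 : x * x * x = 1) (he : Commute x F.e)
    (hd : x * F.d * x⁻¹ = F.d ∨ x * F.d * x⁻¹ = F.d * F.e) : x ∈ F.K2.Y := by
  refine F.K2.mem_Y.2 ⟨he, mul_inv_eq_iff_eq_mul.1 ?_⟩
  refine hd.resolve_right fun h => ?_
  have h1 : x * (F.d * F.e) * x⁻¹ = F.d := by
    rw [show x * (F.d * F.e) * x⁻¹ = x * F.d * x⁻¹ * (x * F.e * x⁻¹) by group, h, he.eq,
      mul_inv_cancel_right, mul_assoc, show F.e * F.e = 1 from F.C.e_sq, mul_one]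
  have h2 : x * x * x * F.d * (x * x * x)⁻¹ = F.d * F.e := by
    rw [show x * x * x * F.d * (x * x * x)⁻¹ = x * (x * (x * F.d * x⁻¹) * x⁻¹) * x⁻¹ by group, h,
      h1, h]
  rw [h3, one_mul, inv_one, mul_one] at h2
  exact kd_facts.2.2.2.2.2.2.2.2.1 (F.C.injective (by rw [map_one]; exact left_eq_mul.1 h2))

theorem Frame.a3_mem [Finite G] : F.a3 ∈ F.K2.Y := by
  obtain ⟨g, hg, hgk⟩ := F.exists_fuse
  obtain ⟨hge, hgd⟩ := F.K2.mem_Y.1 hg
  obtain ⟨zg, zt, zc, -, c3, -⟩ := z0_facts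
  set z := F.C'.φ z0A with hz
  have hze : Commute z F.e := by
    have h := F.e_C' z0A
    rw [zt] at h
    exact (mul_inv_eq_iff_eq_mul.1 h).symm
  have hzs : Commute z F.s := by rw [F.s_C', hz]; exact (show Commute z0A gA from zg).map F.C'.φ
  have hzk : Commute z (g * F.k * g⁻¹) := by
    rcases hgk with h | h <;> rw [h]
    exacts [hzs, hzs.mul_right hze]
  set w := g⁻¹ * z * g with hw
  have hwe : Commute w F.e := (hge.inv_left.mul_left hze).mul_left hge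
  have hwk : Commute w F.k := by
    show w * F.k = F.k * w
    calc w * F.k = g⁻¹ * (z * (g * F.k * g⁻¹)) * g := by rw [hw]; group
      _ = g⁻¹ * (g * F.k * g⁻¹ * z) * g := by rw [hzk.eq]
      _ = _ := by rw [hw]; group
  have hzd : z * F.d * z⁻¹ = F.d ∨ z * F.d * z⁻¹ = F.d * F.e := by
    have hgd' : g * F.d * g⁻¹ = F.d := mul_inv_eq_iff_eq_mul.2 (show Commute g F.d from hgd).eq
    have e : z * F.d * z⁻¹ = g * (w * F.d * w⁻¹) * g⁻¹ := by
      conv_lhs => rw [← hgd']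
      rw [hw]; group
    rcases (F.inN_of_ek hwe hwk).conj_d with h | h <;> rw [h] at e
    · exact Or.inl (by rw [e, (show Commute g F.d from hgd).eq, mul_inv_cancel_right])
    · exact Or.inr (by
        rw [e, ((show Commute g F.d from hgd).mul_right hge).eq, mul_inv_cancel_right])
  have hud : Commute F.u F.d := (F.commute_u dA).symm
  have hue : Commute F.u F.e := (F.commute_u eA).symm
  have key : F.a3 = F.u * z * (F.u * F.u)⁻¹ := by
    rw [hz, F.u_eq, ← map_mul, ← map_mul, ← map_inv, ← map_mul, ← zc]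
  refine F.three_mem (by rw [← map_mul, ← map_mul, c3, map_one]) ?_ ?_
  · rw [key]; exact (hue.mul_left hze).mul_left (hue.mul_left hue).inv_left
  · have hu2 : (F.u * F.u)⁻¹ * F.d * (F.u * F.u) = F.d := by
      rw [mul_assoc]; exact inv_mul_eq_iff_eq_mul.2 (hud.mul_left hud).eq.symm
    have e : F.a3 * F.d * F.a3⁻¹ = F.u * (z * F.d * z⁻¹) * F.u⁻¹ := by
      rw [key]
      have h2 : ∀ c : G, F.u * z * c⁻¹ * F.d * (F.u * z * c⁻¹)⁻¹ =
          F.u * (z * (c⁻¹ * F.d * c) * z⁻¹) * F.u⁻¹ := fun c => by group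
      rw [h2, hu2]
    rcases hzd with h | h <;> rw [h] at e
    · exact Or.inl (by rw [e, hud.eq, mul_inv_cancel_right])
    · exact Or.inr (by rw [e, (hud.mul_right hue).eq, mul_inv_cancel_right])

theorem Frame.fA_inN : F.InN (F.C.φ fA) := F.inN_phi (D8_facts fA prod_facts.1).1

theorem Frame.a7_mem [Finite G] : F.a7 ∈ F.K2.Y := by
  obtain ⟨he, hd⟩ := F.K2.mem_Y.1 F.a3_mem
  have hf := F.fA_inN
  have hfe : (F.C.φ fA) * F.e * (F.C.φ fA)⁻¹ = F.e := mul_inv_eq_iff_eq_mul.2 hf.1.eq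
  refine F.three_mem ?_ ?_ ?_
  · rw [show F.a7 * F.a7 * F.a7 = (F.C.φ fA) * (F.a3 * F.a3 * F.a3) * (F.C.φ fA)⁻¹ by rw [Frame.a7]; group,
      ← map_mul, ← map_mul, z0_facts.2.2.2.2.1, map_one, mul_one, mul_inv_cancel]
  · exact (hf.1.mul_left he).mul_left hf.1.inv_left
  · have e : F.a7 * ((F.C.φ fA) * F.d * (F.C.φ fA)⁻¹) * F.a7⁻¹ = (F.C.φ fA) * F.d * (F.C.φ fA)⁻¹ := by
      rw [Frame.a7, show (F.C.φ fA) * F.a3 * (F.C.φ fA)⁻¹ * ((F.C.φ fA) * F.d * (F.C.φ fA)⁻¹) * ((F.C.φ fA) * F.a3 * (F.C.φ fA)⁻¹)⁻¹ =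
        (F.C.φ fA) * (F.a3 * F.d * F.a3⁻¹) * (F.C.φ fA)⁻¹ by group, (show Commute F.a3 F.d from hd).eq,
        mul_inv_cancel_right]
    rcases hf.conj_d with h | h <;> rw [h] at e
    · exact Or.inl e
    · refine Or.inl ?_
      have hee : F.e * F.e = 1 := F.C.e_sq
      have h7e : Commute F.a7 F.e := (hf.1.mul_left he).mul_left hf.1.inv_left
      calc F.a7 * F.d * F.a7⁻¹ = F.a7 * (F.d * F.e) * F.a7⁻¹ * (F.a7 * F.e * F.a7⁻¹)⁻¹ := by group
        _ = F.d := by rw [e, h7e.eq, mul_inv_cancel_right, mul_inv_cancel_right]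

theorem Frame.a7_e0 : Commute F.a7 (D.pt e0) := by
  obtain ⟨-, -, f2⟩ := f_act
  have h := (F.C'.comm cA).map (MulAut.conj (F.C.φ fA)).toMonoidHom
  simp only [MulEquiv.coe_toMonoidHom, MulAut.conj_apply] at h
  rw [F.f_acts e2, f2, D.pt_neg] at h
  exact Commute.inv_right_iff.1 h

/-- the generators of the centraliser of the four group -/
theorem Frame.five [Finite G] : ∃ m : Fin 3,
    F.a3 * (F.u ^ (m : ℕ) * F.a7 * (F.u ^ (m : ℕ))⁻¹) *
      (F.a3 * (F.u ^ (m : ℕ) * F.a7 * (F.u ^ (m : ℕ))⁻¹)) = 1 ∧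
    ∀ W : Subgroup G, F.u ∈ W → F.a3 ∈ W → F.u ^ (m : ℕ) * F.a7 * (F.u ^ (m : ℕ))⁻¹ ∈ W →
      F.e ∈ W → F.d ∈ W → F.K2.Y ≤ W := by
  obtain ⟨f, hf, hker, hU, hB, -⟩ := F.exists_coord
  obtain ⟨-, -, -, qc, c3, cne, cp, cq⟩ := z0_facts
  have hfu : Commute (F.C.φ fA) F.u := F.commute_u fA
  set a : F.K2.Y := ⟨F.a3, F.a3_mem⟩
  set b : F.K2.Y := ⟨F.a7, F.a7_mem⟩
  set uY : F.K2.Y := ⟨F.u, F.K2.u_mem⟩
  have hrel : F.u * F.a3 * (F.u * F.a3) = 1 := by
    rw [F.u_eq, ← map_mul, ← map_mul, qc, map_one]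
  have h7 : F.a7 * F.a7 * F.a7 = 1 ∧ F.u * F.a7 * (F.u * F.a7) = 1 := by
    constructor
    · rw [show F.a7 * F.a7 * F.a7 = F.C.φ fA * (F.a3 * F.a3 * F.a3) * (F.C.φ fA)⁻¹ by
        rw [Frame.a7]; group, ← map_mul, ← map_mul, c3, map_one, mul_one, mul_inv_cancel]
    · have e : F.u * F.a7 = F.C.φ fA * (F.u * F.a3) * (F.C.φ fA)⁻¹ := by
        rw [Frame.a7, ← mul_assoc (F.C.φ fA) F.u, hfu.eq]; group
      rw [e, show F.C.φ fA * (F.u * F.a3) * (F.C.φ fA)⁻¹ *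
        (F.C.φ fA * (F.u * F.a3) * (F.C.φ fA)⁻¹) =
        F.C.φ fA * (F.u * F.a3 * (F.u * F.a3)) * (F.C.φ fA)⁻¹ by group, hrel]
      group
  have notZ : ∀ x : F.K2.Y, (x : G) * x * x = 1 → (x : G) ≠ 1 → f x ≠ 1 := by
    intro x h3 h1 h
    have hx : (x : G) ∈ F.K2.Vg :=
      Subgroup.mem_subgroupOf.1 (show x ∈ F.K2.Z by rw [← hker]; exact MonoidHom.mem_ker.2 h)
    have h2 := F.K2.Vg_sq hx
    rw [← pow_two, h2, one_mul] at h3
    exact h1 h3
  have ha1 : F.a3 ≠ 1 := fun h => cne (F.C'.injective (by rw [map_one]; exact h))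
  have hb1 : F.a7 ≠ 1 := fun h => ha1 (conj_eq_one_iff.1 h)
  have hne : ∀ x : F.K2.Y, f (uY * x) = 1 → Commute (x : G) F.u := by
    intro x h
    obtain ⟨z, -, hzx⟩ := F.mem_Vg (v := F.u * x)
      (Subgroup.mem_subgroupOf.1 (show uY * x ∈ F.K2.Z by rw [← hker]; exact MonoidHom.mem_ker.2 h))
    have h1 := ((Commute.refl F.u).inv_left.mul_left (F.commute_u z))
    rwa [← hzx, inv_mul_cancel_left] at h1
  have hA : f a ∈ links := five_three _
    (by rw [← map_mul, ← map_mul, ← map_one f]; exact congrArg f (Subtype.ext (by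
      show F.a3 * F.a3 * F.a3 = 1
      rw [← map_mul, ← map_mul, c3, map_one])))
    (notZ a (by show F.a3 * F.a3 * F.a3 = 1; rw [← map_mul, ← map_mul, c3, map_one]) ha1)
    (fun h => cq (F.C'.injective (by
      rw [map_mul, map_mul, ← F.u_eq]; exact (hne a (by rw [map_mul, hU]; exact h)).eq)))
    (by rw [← hU, ← map_mul, ← map_mul, ← map_one f]; exact congrArg f (Subtype.ext hrel))
  have hBl : f b ∈ links := five_three _
    (by rw [← map_mul, ← map_mul, ← map_one f]; exact congrArg f (Subtype.ext h7.1))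
    (notZ b h7.1 hb1)
    (fun h => cq (F.C'.injective (by
      rw [map_mul, map_mul, ← F.u_eq]
      have h1 := (hne b (by rw [map_mul, hU]; exact h)).map (MulAut.conj (F.C.φ fA)⁻¹).toMonoidHom
      simp only [MulEquiv.coe_toMonoidHom, MulAut.conj_apply, inv_inv] at h1
      rw [show (F.C.φ fA)⁻¹ * (b : G) * F.C.φ fA = F.a3 by
        show (F.C.φ fA)⁻¹ * F.a7 * F.C.φ fA = F.a3
        rw [Frame.a7]; group,
        show (F.C.φ fA)⁻¹ * F.u * F.C.φ fA = F.u by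
          rw [mul_assoc, ← hfu.eq, inv_mul_cancel_left]] at h1
      exact h1.eq)))
    (by rw [← hU, ← map_mul, ← map_mul, ← map_one f]; exact congrArg f (Subtype.ext h7.2))
  obtain ⟨m, hm⟩ := five_pair _ hA _ hBl
  set b' := uY ^ (m : ℕ) * b * (uY ^ (m : ℕ))⁻¹ with hb'
  have hfb' : f b' = cU ^ (m : ℕ) * f b * (cU ^ (m : ℕ))⁻¹ := by
    rw [hb', map_mul, map_mul, map_inv, map_pow, hU]
  rw [← hfb'] at hm
  rcases hm with hm | ⟨hm2, hm1, i, hgen⟩
  · exfalso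
    have hmem : b'⁻¹ * a ∈ F.K2.Z := by
      rw [← hker, MonoidHom.mem_ker, map_mul, map_inv, hm, inv_mul_cancel]
    set v := b'⁻¹ * a with hv
    have hc : Commute b' v := Subgroup.mem_center_iff.1 (F.K2.Z_center hmem) b'
    have hv2 : v ^ 2 = 1 := Subtype.ext (F.K2.Vg_sq (Subgroup.mem_subgroupOf.1 hmem))
    have hb3 : b' ^ 3 = 1 := by
      rw [hb', conj_pow, show b ^ 3 = 1 from Subtype.ext (by
        show F.a7 ^ 3 = 1
        rw [pow_succ, pow_two]; exact h7.1), mul_one, mul_inv_cancel]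
    have ha3' : a ^ 3 = 1 := Subtype.ext (by
      show F.a3 ^ 3 = 1
      rw [pow_succ, pow_two, ← map_mul, ← map_mul, c3, map_one])
    have h := hc.mul_pow 3
    rw [hv, mul_inv_cancel_left, ha3', hb3, one_mul, ← hv, pow_succ, hv2, one_mul] at h
    have hab : a = b' := (inv_mul_eq_one.1 (hv.symm.trans h.symm)).symm
    have hu0 : Commute F.u (D.pt e0) := D.commute_pt _ _
    have hc0 : Commute F.a3 (D.pt e0) := by
      rw [show F.a3 = F.u ^ (m : ℕ) * F.a7 * (F.u ^ (m : ℕ))⁻¹ by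
        simpa [a, b, uY, hb'] using congrArg Subtype.val hab]
      exact ((hu0.pow_left _).mul_left F.a7_e0).mul_left (hu0.pow_left _).inv_left
    rw [← F.C'.hp] at hc0
    exact cp (F.C'.injective (by rw [map_mul, map_mul]; exact hc0.eq))
  · refine ⟨m, ?_, fun W hu ha hb he hd => ?_⟩
    · obtain ⟨g, hg⟩ := five_invol (f (a * b')) (by rw [map_mul]; exact hm2)
        (by rw [map_mul]; exact hm1)
      obtain ⟨g, rfl⟩ := hf g
      set x := g * (a * b') * g⁻¹ with hx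
      have hmem : (⟨F.s * F.k, F.sk_mem⟩ : F.K2.Y)⁻¹ * x ∈ F.K2.Z := by
        rw [← hker, MonoidHom.mem_ker, map_mul, map_inv, hx, map_mul, map_mul f g, map_inv, hg, hB,
          inv_mul_cancel]
      set v := (⟨F.s * F.k, F.sk_mem⟩ : F.K2.Y)⁻¹ * x with hv
      have hc : Commute (⟨F.s * F.k, F.sk_mem⟩ : F.K2.Y) v :=
        Subgroup.mem_center_iff.1 (F.K2.Z_center hmem) _
      have hv2 : v ^ 2 = 1 := Subtype.ext (F.K2.Vg_sq (Subgroup.mem_subgroupOf.1 hmem))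
      have h := hc.mul_pow 2
      rw [hv, mul_inv_cancel_left, ← hv, hv2, mul_one, hx, conj_pow,
        show (⟨F.s * F.k, F.sk_mem⟩ : F.K2.Y) ^ 2 = 1 from Subtype.ext (by
          show (F.s * F.k) ^ 2 = 1
          rw [pow_two]; exact F.sk_sq)] at h
      have h2 : (a * b') ^ 2 = 1 := conj_eq_one_iff.1 h
      rw [pow_two] at h2
      simpa [a, b, uY, hb'] using congrArg Subtype.val h2
    · set W' := W.subgroupOf F.K2.Y
      have huW : uY ∈ W' := Subgroup.mem_subgroupOf.2 hu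
      have haW : a ∈ W' := Subgroup.mem_subgroupOf.2 ha
      have hbW : b' ∈ W' := Subgroup.mem_subgroupOf.2 (by simpa [a, b, uY, hb'] using hb)
      have hcm : cU ∈ W'.map f := ⟨uY, huW, hU⟩
      have hmem : a13 ∈ W'.map f ∧ a14 ∈ W'.map f := by
        have hp := Subgroup.pow_mem _ hcm (i : ℕ)
        have c := fun x (hx : x ∈ W'.map f) =>
          Subgroup.mul_mem _ (Subgroup.mul_mem _ hp hx) (Subgroup.inv_mem _ hp)
        rcases hgen with ⟨g1, g2⟩ | ⟨g1, g2⟩ <;> rw [← g1, ← g2]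
        exacts [⟨c _ ⟨a, haW, rfl⟩, c _ ⟨b', hbW, rfl⟩⟩, ⟨c _ ⟨b', hbW, rfl⟩, c _ ⟨a, haW, rfl⟩⟩]
      have htop : W'.map f = ⊤ := top_le_iff.1 (closure_five ▸ (Subgroup.closure_le _).2 (by
        rintro _ ⟨j, rfl⟩
        fin_cases j
        exacts [hcm, hmem.1, hmem.2]))
      have hZW : f.ker ≤ W' := by
        rw [hker]
        intro z hz
        obtain ⟨y, hy, hzy⟩ := F.mem_Vg (Subgroup.mem_subgroupOf.1 hz)
        refine Subgroup.mem_subgroupOf.2 ?_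
        rw [hzy]
        simp only [List.mem_cons, List.not_mem_nil, or_false] at hy
        rcases hy with rfl | rfl | rfl | rfl
        · rw [map_one]; exact W.one_mem
        · exact he
        · exact hd
        · rw [map_mul]; exact W.mul_mem he hd
      have : W' = ⊤ := by
        rw [← Subgroup.comap_map_eq_self hZW, htop, Subgroup.comap_top]
      exact Subgroup.subgroupOf_eq_top.1 this

end CfsgLib.Recog.AltNine
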