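import Cfsg.Agent.Lib.Recog.AltNine.Frame

/-!
# Invariant subgroups of order prime to three in the centraliser of a four group
-/

set_option autoImplicit false
set_option maxRecDepth 4000

namespace CfsgLib.Recog.AltNine

open CfsgLib.Block CfsgLib.Block.FourCube
open CfsgLib.Recog.SymNine (V Mon act comp monOne x0 e0 e1 e2 Acts Norms scal weight act_comp
  act_one act_add Cube)

theorem stab_small : ∀ w : V, 2 ≤ weight w →
    (Finset.univ.filter fun m : Mon => detX m = true ∧ act m w = w).card ≤ 3 := by decide +kernel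

theorem pow_one_mod_five : ∀ m : ℕ, m < 5 → m ^ 3 % 5 = 1 → m = 1 := by decide +kernel

theorem scal_cases : ∀ i : ZMod 3, i ≠ 0 → scal i e1 = e1 ∨ scal i e1 = -e1 := by decide +kernel

theorem to_e1 : detX (3, false, false, true) = true ∧ act (3, false, false, true) e1 = e0 := by
  decide +kernel

universe u

variable {G : Type u} [Group G]

/-- an element of order three normalising a group of order two or five centralises it -/
theorem commute_of_card [Finite G] {K : Subgroup G} {r : ℕ} (hr : r = 2 ∨ r = 5)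
    (hK : Nat.card K = r) {t : G} (ht : t ^ 3 = 1) (hn : ∀ x ∈ K, t * x * t⁻¹ ∈ K) :
    ∀ x ∈ K, Commute t x := by
  intro x hx
  by_cases hx1 : x = 1
  · rw [hx1]; exact Commute.one_right t
  have hp : r.Prime := by rcases hr with rfl | rfl <;> norm_num
  have : Fact r.Prime := ⟨hp⟩
  have hgen : Subgroup.zpowers (⟨x, hx⟩ : K) = ⊤ := zpowers_eq_top_of_prime_card hK
    (fun e => hx1 (congrArg Subtype.val e))
  have hord : orderOf x = r := by
    rw [← Subgroup.orderOf_mk x hx, ← Nat.card_zpowers, hgen, Subgroup.card_top, hK]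
  obtain ⟨n, hn'⟩ : ∃ n : ℕ, x ^ n = t * x * t⁻¹ := by
    obtain ⟨n, hn'⟩ := mem_powers_iff_mem_zpowers.2
      (hgen.ge (Subgroup.mem_top (⟨_, hn x hx⟩ : K)))
    exact ⟨n, congrArg Subtype.val hn'⟩
  have hiter : ∀ j : ℕ, t ^ j * x * (t ^ j)⁻¹ = x ^ (n ^ j) := fun j => by
    induction j with
    | zero => simp
    | succ j ih =>
      rw [pow_succ', show t * t ^ j * x * (t * t ^ j)⁻¹ = t * (t ^ j * x * (t ^ j)⁻¹) * t⁻¹ by group,
        ih, ← conj_pow, ← hn', ← pow_mul, ← pow_succ']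
  have h3 := hiter 3
  rw [ht, inv_one, mul_one, one_mul] at h3
  have hmod : n ^ 3 % r = 1 := by
    have h := (pow_eq_pow_iff_modEq (x := x) (m := 1) (n := n ^ 3)).1 (by rw [pow_one]; exact h3.symm)
    rw [hord, Nat.ModEq, Nat.one_mod_eq_one.2 hp.one_lt.ne'] at h
    exact h
  have hn1 : n % r = 1 := by
    rcases hr with rfl | rfl
    · have := Nat.pow_mod n 3 2
      rcases Nat.mod_two_eq_zero_or_one n with h | h
      · rw [h] at this; omega
      · exact h
    · exact pow_one_mod_five _ (Nat.mod_lt _ (by norm_num)) (by rw [← Nat.pow_mod]; exact hmod)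
  have : t * x * t⁻¹ = x := by
    rw [← hn', ← pow_mod_orderOf, hord, hn1, pow_one]
  exact mul_inv_eq_iff_eq_mul.1 this

variable {D : Cfg G}

theorem Cover.card_cent [Finite G] {w a b : V} (C : Cover D w a b) (hw : w ≠ 0) :
    Nat.card (Subgroup.centralizer ({D.pt w} : Set G)) = 1080 := by
  let f : ZMod 3 × A6 → Subgroup.centralizer ({D.pt w} : Set G) := fun x =>
    ⟨D.pt (scal x.1 w) * C.φ x.2, Subgroup.mem_centralizer_singleton_iff.2
      ((D.commute_pt _ w).mul_left (C.comm x.2)).eq⟩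
  have hf : Function.Bijective f := by
    refine ⟨fun x y h => ?_, fun g => ?_⟩
    · obtain ⟨h1, h2⟩ := C.sep' hw (congrArg Subtype.val h)
      exact Prod.ext h1 h2
    · obtain ⟨k, x, hx⟩ := C.decomp g (Subgroup.mem_centralizer_singleton_iff.1 g.2)
      exact ⟨(k, x), Subtype.ext hx.symm⟩
  rw [← Nat.card_eq_of_bijective f hf, Nat.card_prod, Nat.card_zmod]
  have h2' := two_mul_nat_card_alternatingGroup (α := Fin 6)
  rw [Nat.card_perm, Nat.card_fin, show Nat.factorial 6 = 720 from rfl] at h2'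
  show 3 * Nat.card (alternatingGroup (Fin 6)) = 1080
  omega

theorem Cfg.card_le_two [Finite G] {w : V} (hw : 2 ≤ weight w) {p : ℕ} (hp : p.Prime)
    (hp3 : p ≠ 3) (K : Subgroup G) (hK : IsPGroup p K) (hKw : ∀ x ∈ K, Commute x (D.pt w)) :
    Nat.card K = 1 ∨ p = 2 ∧ Nat.card K = 2 := by
  classical
  have hKH : K ≤ D.H := fun x hx => (D.norms_iff x).1 (D.middle hw (hKw x hx))
  have : Fact p.Prime := ⟨hp⟩
  obtain ⟨n, hn⟩ := hK.exists_card_eq
  have hle : Nat.card K ≤ 3 := by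
    refine le_trans ?_ (stab_small w hw)
    rw [← Nat.card_eq_finsetCard]
    refine Nat.card_le_card_of_injective (fun x : K => (⟨D.mon ⟨x, hKH x.2⟩, ?_⟩ :
      (Finset.univ.filter fun m : Mon => detX m = true ∧ act m w = w : Finset Mon)))
      fun x y h => ?_
    · exact Finset.mem_filter.2 ⟨Finset.mem_univ _, D.mon_detX _, D.mon_fix (hKw x x.2)⟩
    · have hm : D.mon ⟨x, hKH x.2⟩ = D.mon ⟨y, hKH y.2⟩ := congrArg Subtype.val h
      have h1 : ((x * y⁻¹ : K) : G) ∈ D.J := by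
        refine D.mem_of_mon (h := (⟨x, hKH x.2⟩ : D.H) * (⟨y, hKH y.2⟩ : D.H)⁻¹) ?_
        rw [D.mon_mul, hm, ← D.mon_mul, mul_inv_cancel, D.mon_one]
      have hc : Nat.Coprime (3 : ℕ) (p ^ n) :=
        ((Nat.coprime_primes Nat.prime_three hp).2 (fun e => hp3 e.symm)).pow_right n
      have h3 : (x * y⁻¹) ^ 3 = 1 := Subtype.ext (by
        rw [Subgroup.coe_pow]; exact D.J_cube h1)
      have := pow_gcd_eq_one.2 ⟨h3, show (x * y⁻¹) ^ (p ^ n) = 1 by rw [← hn]; exact pow_card_eq_one'⟩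
      rw [hc.gcd_eq_one, pow_one] at this
      exact mul_inv_eq_one.1 this
  rw [hn] at hle ⊢
  rcases Nat.eq_zero_or_pos n with rfl | hn0
  · exact Or.inl (pow_zero p)
  have h2p := hp.two_le
  have hpp : p ≤ p ^ n := Nat.le_self_pow hn0.ne' p
  have hp2 : p = 2 := by omega
  subst hp2
  have hn1 : n = 1 := by
    by_contra hne
    have := Nat.pow_le_pow_right (show 1 ≤ 2 by norm_num) (show 2 ≤ n by omega)
    norm_num at this
    omega
  exact Or.inr ⟨rfl, by rw [hn1, pow_one]⟩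

theorem Cfg.card_five [Finite G] (C : Cover D e1 e0 e2) {g t : G} (ht : g * t * g⁻¹ = D.pt e0)
    {p : ℕ} (hp : p.Prime) (hp2 : p ≠ 2) (hp3 : p ≠ 3) (K : Subgroup G) (hK : IsPGroup p K)
    (hKt : ∀ x ∈ K, Commute x t) : Nat.card K = 1 ∨ Nat.card K = 5 := by
  obtain ⟨h, hh⟩ := D.exists_lift _ to_e1.1
  have : Fact p.Prime := ⟨hp⟩
  let C0 : Cover D e0 _ _ := C.map hh to_e1.2
  have hle : K.map (MulAut.conj g).toMonoidHom ≤ Subgroup.centralizer ({D.pt e0} : Set G) := by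
    rintro _ ⟨x, hx, rfl⟩
    refine Subgroup.mem_centralizer_singleton_iff.2 ?_
    rw [← ht]
    exact ((hKt x hx).map (MulAut.conj g).toMonoidHom).eq
  have hd := Subgroup.card_dvd_of_le hle
  rw [Subgroup.card_map_of_injective (MulAut.conj g).injective,
    C0.card_cent (by decide)] at hd
  obtain ⟨n, hn⟩ := hK.exists_card_eq
  rw [hn] at hd ⊢
  rcases Nat.eq_zero_or_pos n with rfl | hn0
  · exact Or.inl (pow_zero p)
  have hp5 : p = 5 := by
    have h := (dvd_pow_self p hn0.ne').trans hd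
    rw [show (1080 : ℕ) = 2 ^ 3 * (3 ^ 3 * 5) by norm_num] at h
    rcases (Nat.Prime.dvd_mul hp).1 h with h | h
    · exact absurd ((Nat.prime_dvd_prime_iff_eq hp Nat.prime_two).1 (hp.dvd_of_dvd_pow h)) hp2
    rcases (Nat.Prime.dvd_mul hp).1 h with h | h
    · exact absurd ((Nat.prime_dvd_prime_iff_eq hp Nat.prime_three).1 (hp.dvd_of_dvd_pow h)) hp3
    · exact (Nat.prime_dvd_prime_iff_eq hp (by norm_num)).1 h
  subst hp5
  have hn1 : n = 1 := by
    by_contra hne
    have := (Nat.pow_dvd_pow 5 (show 2 ≤ n by omega)).trans hd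
    norm_num at this
  exact Or.inr (by rw [hn1, pow_one])

/-- a `3'`-group invariant under `⟨u, t⟩` in the centraliser of a four group lies in it -/
theorem Frame.invariant_le [Finite G] (F : Frame D) {p : ℕ} (hp : p.Prime) (hp3 : p ≠ 3)
    (Vg : Subgroup G) {t : G} (ht3 : t ^ 3 = 1) (htu : Commute t (D.pt e1))
    (ht : ∀ i : ZMod 3, t ≠ D.pt (scal i e1)) (hV : ∀ v ∈ Vg, v ^ 2 = 1)
    (hCu : ∀ g ∈ Subgroup.centralizer (Vg : Set G), Commute g (D.pt e1) →
      ∃ i : ZMod 3, ∃ v ∈ Vg, g = D.pt (scal i e1) * v)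
    (K : Subgroup G) (hKV : K ≤ Subgroup.centralizer (Vg : Set G)) (hK : IsPGroup p K)
    (hKu : ∀ x ∈ K, D.pt e1 * x * (D.pt e1)⁻¹ ∈ K) (hKt : ∀ x ∈ K, t * x * t⁻¹ ∈ K)
    (hweight : ∀ i : ZMod 3, ∃ g : G, ∃ w : V, g * (D.pt (scal i e1) * t) * g⁻¹ = D.pt w ∧
      (2 ≤ weight w ∨ p ≠ 2 ∧ w = e0)) :
    K ≤ Vg := by
  have : Fact p.Prime := ⟨hp⟩
  have : Fact (Nat.Prime 3) := ⟨Nat.prime_three⟩
  set u := D.pt e1 with hu
  have hu3 : u ^ 3 = 1 := D.J_cube (D.pt_mem_J e1)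
  let A : Subgroup G :=
    { carrier := Set.range fun x : ZMod 3 × Fin 3 => D.pt (scal x.1 e1) * t ^ (x.2 : ℕ)
      one_mem' := ⟨(0, 0), by simp only [scal_zero, D.pt_zero, Fin.val_zero, pow_zero, one_mul]⟩
      mul_mem' := by
        rintro _ _ ⟨⟨i, j⟩, rfl⟩ ⟨⟨i', j'⟩, rfl⟩
        refine ⟨(i + i', j + j'), ?_⟩
        show D.pt _ * t ^ ((j + j' : Fin 3) : ℕ) = D.pt _ * t ^ (j : ℕ) * (D.pt _ * t ^ (j' : ℕ))
        rw [Fin.val_add, ← pow_eq_pow_mod _ ht3, pow_add,
          show scal (i + i') e1 = scal i e1 + scal i' e1 by simp [scal, add_mul], D.pt_add]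
        have := (D.commute_scal (htu.pow_left (j : ℕ)) i').eq
        calc D.pt (scal i e1) * D.pt (scal i' e1) * (t ^ (j : ℕ) * t ^ (j' : ℕ))
            = D.pt (scal i e1) * (D.pt (scal i' e1) * t ^ (j : ℕ)) * t ^ (j' : ℕ) := by group
          _ = _ := by rw [← this]; group
      inv_mem' := by
        rintro _ ⟨⟨i, j⟩, rfl⟩
        refine ⟨(-i, -j), ?_⟩
        show D.pt _ * t ^ ((-j : Fin 3) : ℕ) = (D.pt _ * t ^ (j : ℕ))⁻¹
        rw [mul_inv_rev, ← D.pt_neg, (scal_neg i e1).2]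
        have h1 : t ^ ((-j : Fin 3) : ℕ) = (t ^ (j : ℕ))⁻¹ := by
          refine eq_inv_of_mul_eq_one_left ?_
          rw [← pow_add, pow_eq_pow_mod _ ht3, ← Fin.val_add, neg_add_cancel, Fin.val_zero, pow_zero]
        rw [h1]
        exact (D.commute_scal (htu.pow_left (j : ℕ)).inv_left (-i)).eq.symm }
  have memA : ∀ {a}, a ∈ A → ∃ (i : ZMod 3) (j : Fin 3), D.pt (scal i e1) * t ^ (j : ℕ) = a := by
    rintro _ ⟨⟨i, j⟩, rfl⟩; exact ⟨i, j, rfl⟩
  have hab : IsMulCommutative A := ⟨⟨fun a b => Subtype.ext (by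
    obtain ⟨i, j, ha⟩ := memA a.2
    obtain ⟨i', j', hb⟩ := memA b.2
    show (a : G) * b = b * a
    rw [← ha, ← hb]
    exact (((D.commute_pt _ _).mul_right ((D.commute_scal (htu.pow_left _) i).symm)).mul_left
      ((D.commute_scal (htu.pow_left _) i').mul_right (Commute.pow_pow_self t _ _))).eq)⟩⟩
  have huA : u ∈ A := ⟨(1, 0), by simp [scal, hu]⟩
  have htA : t ∈ A := ⟨(0, 1), by simp [scal_zero, D.pt_zero]⟩
  have hA9 : Nat.card A = 9 := by
    rw [show Nat.card A = Nat.card (Set.range fun x : ZMod 3 × Fin 3 =>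
      D.pt (scal x.1 e1) * t ^ (x.2 : ℕ)) from rfl, Nat.card_range_of_injective]
    · simp
    rintro ⟨i, j⟩ ⟨i', j'⟩ h
    have key : ∀ (n : ℕ) (k : ZMod 3), n % 3 ≠ 0 → t ^ n ≠ D.pt (scal k e1) := by
      intro n k hn e
      rcases (show n % 3 = 1 ∨ n % 3 = 2 by omega) with h1 | h1
      · rw [pow_eq_pow_mod n ht3, h1, pow_one] at e
        exact ht k e
      · rw [pow_eq_pow_mod n ht3, h1] at e
        refine ht (-k) ?_
        rw [← (scal_neg k e1).2, D.pt_neg, ← e]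
        exact (eq_inv_of_mul_eq_one_left (by rw [← pow_succ', ht3]))
    have h2 : t ^ ((j : ℕ) + ((-j' : Fin 3) : ℕ)) = D.pt (scal (-i + i') e1) := by
      have hneg : t ^ ((-j' : Fin 3) : ℕ) = (t ^ (j' : ℕ))⁻¹ := by
        refine eq_inv_of_mul_eq_one_left ?_
        rw [← pow_add, pow_eq_pow_mod _ ht3, ← Fin.val_add, neg_add_cancel, Fin.val_zero, pow_zero]
      rw [show scal (-i + i') e1 = -scal i e1 + scal i' e1 by simp [scal, add_mul],
        D.pt_add, D.pt_neg, pow_add, hneg]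
      calc t ^ (j : ℕ) * (t ^ (j' : ℕ))⁻¹
          = (D.pt (scal i e1))⁻¹ * (D.pt (scal i e1) * t ^ (j : ℕ)) * (t ^ (j' : ℕ))⁻¹ := by group
        _ = _ := by rw [show D.pt (scal i e1) * t ^ (j : ℕ) = _ from h]; group
    have hj : j = j' := by
      by_contra hne
      refine key _ _ ?_ h2
      rw [← Fin.val_add]
      intro h0
      exact hne (add_neg_eq_zero.1 (Fin.ext h0))
    subst hj
    refine Prod.ext ?_ rfl
    have h3 : D.pt (scal i e1) = D.pt (scal i' e1) := mul_right_cancel h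
    have h4 : scal (i - i') e1 = 0 := by
      rw [show scal (i - i') e1 = scal i e1 - scal i' e1 by simp [scal, sub_mul], D.pt_inj h3,
        sub_self]
    exact sub_eq_zero.1 (scal_eq_zero _ _ (by decide) h4)
  have hnc : ¬ IsCyclic A := by
    intro hc
    obtain ⟨a, ha⟩ := hc.exists_generator
    have h3 : (a : G) ^ 3 = 1 := by
      obtain ⟨i, j, hij⟩ := memA a.2
      rw [← hij, ((D.commute_scal (htu.pow_left _) i).symm).mul_pow, D.J_cube (D.pt_mem_J _),
        one_mul, ← pow_mul, mul_comm, pow_mul, ht3, one_pow]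
    have h3' : orderOf a ∣ 3 := orderOf_dvd_of_pow_eq_one (Subtype.ext h3)
    rw [orderOf_eq_card_of_forall_mem_zpowers ha, hA9] at h3'
    omega
  have hnorm : ∀ x : G, x ^ 3 = 1 → (∀ y ∈ K, x * y * x⁻¹ ∈ K) → x ∈ Subgroup.normalizer (K : Set G) :=
    fun x _ hx => Subgroup.mem_normalizer_fintype hx
  have hAK : A ≤ Subgroup.normalizer (K : Set G) := by
    rintro _ ⟨⟨i, j⟩, rfl⟩
    refine Subgroup.mul_mem _ ?_ (Subgroup.pow_mem _ (hnorm t ht3 hKt) _)
    rw [scal_pow, D.pt_nsmul]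
    exact Subgroup.pow_mem _ (hnorm u hu3 hKu) _
  have hcop : (Nat.card A).Coprime (Nat.card K) := by
    obtain ⟨n, hn⟩ := hK.exists_card_eq
    rw [hA9, hn, show (9 : ℕ) = 3 ^ 2 by norm_num]
    exact ((Nat.coprime_primes Nat.prime_three hp).2 (fun e => hp3 e.symm)).pow 2 n
  have hmem : ∀ x ∈ K, Commute x u → x ∈ Vg := by
    intro x hx hxu
    obtain ⟨i, v, hv, rfl⟩ := hCu x (hKV hx) hxu
    have hc : Commute (D.pt (scal i e1)) v := by
      have h2 := Subgroup.mem_centralizer_iff.1 (hKV hx) v hv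
      rw [← mul_assoc] at h2
      exact (mul_right_cancel h2).symm
    obtain ⟨n, hn⟩ := hK.exists_card_eq
    have hxn : (D.pt (scal i e1) * v) ^ p ^ n = 1 := by
      rw [← hn]; exact congrArg Subtype.val (pow_card_eq_one' (x := (⟨_, hx⟩ : K)))
    have h2 := congrArg (· ^ 2) hxn
    simp only [one_pow, ← pow_mul] at h2
    rw [hc.mul_pow] at h2
    rw [mul_comm (p ^ n) 2, pow_mul v 2, hV v hv, one_pow, mul_one] at h2
    have h3 := pow_gcd_eq_one.2 ⟨h2, D.J_cube (D.pt_mem_J (scal i e1))⟩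
    rw [show (2 * p ^ n).gcd 3 = 1 from Nat.Coprime.mul_left (by norm_num)
      (((Nat.coprime_primes hp Nat.prime_three).2 hp3).pow_left n), pow_one] at h3
    rw [h3, one_mul]; exact hv
  rw [← CfsgLib.Coprime.iSup_centralizer_eq hab hnc hAK hcop]
  refine iSup_le ?_
  rintro ⟨a, haA, ha1⟩ x ⟨hxK, hxa⟩
  have hxc : Commute x a := Subgroup.mem_centralizer_singleton_iff.1 hxa
  obtain ⟨i, j, rfl⟩ := memA haA
  let K' : Subgroup G := K ⊓ Subgroup.centralizer ({D.pt (scal i e1) * t ^ (j : ℕ)} : Set G)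
  have hxK' : x ∈ K' := ⟨hxK, hxa⟩
  have hK'p : IsPGroup p K' := hK.to_le inf_le_left
  have huinv : ∀ y ∈ K', u * y * u⁻¹ ∈ K' := by
    intro y hy
    refine ⟨hKu y hy.1, Subgroup.mem_centralizer_singleton_iff.2 ?_⟩
    have h := (show Commute y _ from Subgroup.mem_centralizer_singleton_iff.1 hy.2).map
      (MulAut.conj u).toMonoidHom
    have e : u * (D.pt (scal i e1) * t ^ (j : ℕ)) * u⁻¹ = D.pt (scal i e1) * t ^ (j : ℕ) := by
      rw [← mul_assoc, (D.commute_pt e1 (scal i e1)).eq, mul_assoc (D.pt (scal i e1)),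
        (htu.pow_left (j : ℕ)).eq.symm, ← mul_assoc, mul_inv_cancel_right]
    simp only [MulEquiv.coe_toMonoidHom, MulAut.conj_apply, e] at h
    exact h.eq
  have finish : Nat.card K' = 1 ∨ (Nat.card K' = 2 ∨ Nat.card K' = 5) → x ∈ Vg := by
    rintro (h | h)
    · have hb := Subgroup.card_eq_one.1 h
      rw [hb, Subgroup.mem_bot] at hxK'
      rw [hxK']; exact Vg.one_mem
    · exact hmem x hxK (commute_of_card h rfl hu3 huinv x hxK').symm
  have hcase : ∀ (a' : G) (g : G) (w : V), (∀ y ∈ K', Commute y a') → g * a' * g⁻¹ = D.pt w →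
      (2 ≤ weight w ∨ p ≠ 2 ∧ w = e0) → x ∈ Vg := by
    intro a' g w hy hg hw
    rcases hw with hw | ⟨hp2, rfl⟩
    · have := D.card_le_two hw hp hp3 (K'.map (MulAut.conj g).toMonoidHom) (hK'p.map _) (by
        rintro _ ⟨y, hyK, rfl⟩
        rw [← hg]
        exact (hy y hyK).map (MulAut.conj g).toMonoidHom)
      rw [Subgroup.card_map_of_injective (MulAut.conj g).injective] at this
      rcases this with h | ⟨-, h⟩
      exacts [finish (Or.inl h), finish (Or.inr (Or.inl h))]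
    · rcases D.card_five F.C hg hp hp2 hp3 K' hK'p hy with h | h
      exacts [finish (Or.inl h), finish (Or.inr (Or.inr h))]
  rcases (show (j : ℕ) = 0 ∨ (j : ℕ) = 1 ∨ (j : ℕ) = 2 by omega) with hj | hj | hj <;>
    rw [hj] at hxc ha1
  · rw [pow_zero, mul_one] at hxc ha1
    have hi : i ≠ 0 := fun h => ha1 (by rw [h, scal_zero, D.pt_zero])
    refine hmem x hxK ?_
    rcases scal_cases i hi
      with e | e <;> rw [e] at hxc
    · exact hxc
    · rw [D.pt_neg] at hxc; exact Commute.inv_right_iff.1 hxc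
  · obtain ⟨g, w, hg, hw⟩ := hweight i
    refine hcase _ g w (fun y hy => ?_) hg hw
    have := Subgroup.mem_centralizer_singleton_iff.1 hy.2
    rwa [hj, pow_one] at this
  · obtain ⟨g, w, hg, hw⟩ := hweight (-i)
    refine hcase _ g w (fun y hy => ?_) hg hw
    have h := (show Commute y _ from Subgroup.mem_centralizer_singleton_iff.1 hy.2).inv_right
    rw [hj, mul_inv_rev, ← D.pt_neg, (scal_neg i e1).2,
      show (t ^ 2)⁻¹ = t from inv_eq_of_mul_eq_one_right (by rw [← pow_succ, ht3])] at h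
    rwa [(D.commute_scal htu (-i)).eq] at h

end CfsgLib.Recog.AltNine
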