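import Cfsg.Agent.Lib.Recog.AltNine.CentE
import Cfsg.Agent.Lib.Recog.AltNine.Invariant
import Cfsg.Agent.Lib.Recog.SymNine.Lift
import Cfsg.Agent.Lib.Recog.SymNine.Count

/-!
# The centraliser of a four group containing the reflection, modulo the four group
-/

set_option autoImplicit false
set_option maxRecDepth 4000

namespace CfsgLib.Recog.AltNine

open CfsgLib.Block CfsgLib.Block.FourCube
open CfsgLib.Recog.SymNine (V Mon act comp monOne x0 e0 e1 e2 Acts Norms scal weight act_comp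
  act_one act_add Cube)

universe u

variable {G : Type u} [Group G] {D : Cfg G}

/-- data of a four group in the centraliser of the middle element -/
structure Klein (F : Frame D) where
  /-- the second involution -/
  x : A6
  x_sq : x * x = 1
  x_comm : eA * x = x * eA
  cent : ∀ y : A6, y * eA = eA * y → y * x = x * y → y = 1 ∨ y = eA ∨ y = x ∨ y = eA * x
  /-- an element of order three permuting the four group -/
  t : G
  t_cube : t ^ 3 = 1
  t_u : Commute t F.u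
  t_not : ∀ i : ZMod 3, t ≠ D.pt (scal i e1)
  t_e : ∃ y : A6, (y = eA ∨ y = x ∨ y = eA * x) ∧ t * F.e * t⁻¹ = F.C.φ y
  t_x : ∃ y : A6, (y = eA ∨ y = x ∨ y = eA * x) ∧ t * F.C.φ x * t⁻¹ = F.C.φ y

variable {F : Frame D} (K : Klein F)

/-- the four group, in `A₆` -/
def Klein.sub : Subgroup A6 where
  carrier := {z | z = 1 ∨ z = eA ∨ z = K.x ∨ z = eA * K.x}
  one_mem' := Or.inl rfl
  inv_mem' := by
    have he : eA⁻¹ = eA := inv_eq_of_mul_eq_one_right tau_facts.2.2.2.2.1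
    have hx : K.x⁻¹ = K.x := inv_eq_of_mul_eq_one_right K.x_sq
    rintro z (rfl | rfl | rfl | rfl)
    exacts [Or.inl inv_one, Or.inr (Or.inl he), Or.inr (Or.inr (Or.inl hx)),
      Or.inr (Or.inr (Or.inr (by rw [mul_inv_rev, he, hx, K.x_comm])))]
  mul_mem' := by
    have he : eA * eA = 1 := tau_facts.2.2.2.2.1
    have hx := K.x_sq
    have hc := K.x_comm
    have h1 : eA * (eA * K.x) = K.x := by rw [← mul_assoc, he, one_mul]
    have h2 : eA * K.x * eA = K.x := by rw [mul_assoc, ← hc, h1]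
    have h3 : K.x * (eA * K.x) = eA := by rw [← mul_assoc, ← hc, mul_assoc, hx, mul_one]
    have h4 : eA * K.x * K.x = eA := by rw [mul_assoc, hx, mul_one]
    have h5 : eA * K.x * (eA * K.x) = 1 := by rw [← mul_assoc, h2, hx]
    rintro a b (rfl | rfl | rfl | rfl) (rfl | rfl | rfl | rfl) <;>
      (try simp only [one_mul, mul_one, he, hx, ← hc, h1, h2, h3, h4, h5]) <;>
      first
        | exact Or.inl rfl
        | exact Or.inr (Or.inl rfl)
        | exact Or.inr (Or.inr (Or.inl rfl))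
        | exact Or.inr (Or.inr (Or.inr rfl))

theorem Klein.mem_sub {z : A6} : z ∈ K.sub ↔ z = 1 ∨ z = eA ∨ z = K.x ∨ z = eA * K.x := Iff.rfl

theorem Klein.sq {z : A6} (hz : z ∈ K.sub) : z * z = 1 := by
  rcases hz with rfl | rfl | rfl | rfl
  · exact mul_one 1
  · exact tau_facts.2.2.2.2.1
  · exact K.x_sq
  · rw [show eA * K.x * (eA * K.x) = eA * (K.x * eA) * K.x by group, ← K.x_comm, ← mul_assoc,
      tau_facts.2.2.2.2.1, one_mul, K.x_sq]

/-- the four group, in `G` -/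
noncomputable abbrev Klein.Vg : Subgroup G := K.sub.map F.C.φ

/-- its centraliser -/
noncomputable abbrev Klein.Y : Subgroup G := Subgroup.centralizer (K.Vg : Set G)

theorem Klein.mem_Y {g : G} : g ∈ K.Y ↔ Commute g F.e ∧ Commute g (F.C.φ K.x) := by
  rw [Subgroup.mem_centralizer_iff]
  constructor
  · intro h
    exact ⟨(h _ ⟨eA, Or.inr (Or.inl rfl), rfl⟩).symm,
      (h _ ⟨K.x, Or.inr (Or.inr (Or.inl rfl)), rfl⟩).symm⟩
  · rintro ⟨h1, h2⟩ _ ⟨z, hz, rfl⟩
    rcases hz with rfl | rfl | rfl | rfl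
    · rw [map_one, one_mul, mul_one]
    · exact h1.eq.symm
    · exact h2.eq.symm
    · rw [map_mul]; exact (h1.mul_right h2).eq.symm

theorem Klein.le_Y : K.Vg ≤ K.Y := by
  rintro _ ⟨z, hz, rfl⟩
  refine K.mem_Y.2 ⟨(show Commute z eA from ?_).map F.C.φ, (show Commute z K.x from ?_).map F.C.φ⟩
  · rcases hz with rfl | rfl | rfl | rfl
    exacts [Commute.one_left _, Commute.refl _, K.x_comm.symm,
      (Commute.refl eA).mul_left K.x_comm.symm]
  · rcases hz with rfl | rfl | rfl | rfl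
    exacts [Commute.one_left _, K.x_comm, Commute.refl _,
      (show Commute eA K.x from K.x_comm).mul_left (Commute.refl K.x)]

theorem Klein.Vg_sq {v : G} (hv : v ∈ K.Vg) : v ^ 2 = 1 := by
  obtain ⟨z, hz, rfl⟩ := hv
  rw [pow_two, ← map_mul, K.sq hz, map_one]

theorem Klein.u_mem : F.u ∈ K.Y := K.mem_Y.2 ⟨(F.commute_u eA).symm, (F.commute_u K.x).symm⟩

theorem Klein.cent_u {g : G} (hg : g ∈ K.Y) (hu : Commute g F.u) :
    ∃ i : ZMod 3, ∃ v ∈ K.Vg, g = D.pt (scal i e1) * v := by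
  obtain ⟨h1, h2⟩ := K.mem_Y.1 hg
  obtain ⟨i, y, rfl⟩ := F.C.decomp g hu
  have hz : ∀ z, Commute (D.pt (scal i e1)) (F.C.φ z) := fun z =>
    (D.commute_scal (F.C.comm z) i).symm
  have key : ∀ z, Commute (D.pt (scal i e1) * F.C.φ y) (F.C.φ z) → y * z = z * y := fun z hc => by
    refine F.C.injective ?_
    rw [map_mul, map_mul]
    have := ((hz z).inv_left.mul_left hc).eq
    rwa [inv_mul_cancel_left] at this
  exact ⟨i, _, ⟨y, K.cent y (key _ h1) (key _ h2), rfl⟩, rfl⟩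

theorem Klein.t_Vg {v : G} (hv : v ∈ K.Vg) : K.t * v * K.t⁻¹ ∈ K.Vg := by
  obtain ⟨y1, h1, e1⟩ := K.t_e
  obtain ⟨y2, h2, e2⟩ := K.t_x
  have m1 : F.C.φ y1 ∈ K.Vg := ⟨y1, by rcases h1 with rfl | rfl | rfl <;> simp [Klein.mem_sub], rfl⟩
  have m2 : F.C.φ y2 ∈ K.Vg := ⟨y2, by rcases h2 with rfl | rfl | rfl <;> simp [Klein.mem_sub], rfl⟩
  obtain ⟨z, hz, rfl⟩ := hv
  rcases hz with rfl | rfl | rfl | rfl
  · simp
  · rw [e1]; exact m1
  · rw [e2]; exact m2
  · rw [map_mul, show K.t * (F.C.φ eA * F.C.φ K.x) * K.t⁻¹ =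
      (K.t * F.e * K.t⁻¹) * (K.t * F.C.φ K.x * K.t⁻¹) by rw [Frame.e]; group, e1, e2]
    exact mul_mem m1 m2

/-- the four group inside its centraliser -/
noncomputable abbrev Klein.Z : Subgroup K.Y := K.Vg.subgroupOf K.Y

theorem Klein.Z_center : K.Z ≤ Subgroup.center K.Y := fun z hz =>
  Subgroup.mem_center_iff.2 fun m => Subtype.ext
    (Subgroup.mem_centralizer_iff.1 m.2 _ (Subgroup.mem_subgroupOf.1 hz)).symm

instance Klein.Z_normal : K.Z.Normal := ⟨fun z hz m => by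
  rw [Subgroup.mem_center_iff.1 (K.Z_center hz) m, mul_inv_cancel_right]; exact hz⟩

/-- the quotient -/
abbrev Klein.L : Type u := K.Y ⧸ K.Z

/-- the projection -/
noncomputable abbrev Klein.q : K.Y →* K.L := QuotientGroup.mk' K.Z

/-- the image of the middle element -/
noncomputable def Klein.X : Subgroup K.L := Subgroup.zpowers (K.q ⟨F.u, K.u_mem⟩)

theorem Klein.q_eq {a b : K.Y} (h : K.q a = K.q b) : ∃ v ∈ K.Vg, (b : G) = (a : G) * v :=
  ⟨((a⁻¹ * b : K.Y) : G), Subgroup.mem_subgroupOf.1 (QuotientGroup.eq.1 h), by simp⟩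

theorem Klein.u_not_mem : F.u ∉ K.Vg := fun h => F.u_ne (by
  have := pow_gcd_eq_one.2 ⟨F.u_cube, K.Vg_sq h⟩
  rwa [show Nat.gcd 3 2 = 1 from rfl, pow_one] at this)

theorem Klein.card_X [Finite G] : Nat.card K.X = 3 := by
  have : Fact (Nat.Prime 3) := ⟨Nat.prime_three⟩
  rw [Klein.X, Nat.card_zpowers]
  refine orderOf_eq_prime ?_ fun h => K.u_not_mem
    (Subgroup.mem_subgroupOf.1 ((QuotientGroup.eq_one_iff (⟨F.u, K.u_mem⟩ : K.Y)).1 h))
  rw [← map_pow, show (⟨F.u, K.u_mem⟩ : K.Y) ^ 3 = 1 from Subtype.ext F.u_cube, map_one]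

theorem Klein.conj_u {g : K.Y} {i : ZMod 3} {v : G} (hv : v ∈ K.Vg)
    (h : (g : G) * F.u * (g : G)⁻¹ = D.pt (scal i e1) * v) :
    (g : G) * F.u * (g : G)⁻¹ = D.pt (scal i e1) ∧ i ≠ 0 := by
  obtain ⟨z, hz, rfl⟩ := hv
  have hc : Commute (D.pt (scal i e1)) (F.C.φ z) := (D.commute_scal (F.C.comm z) i).symm
  have h1 : F.C.φ z ^ 3 = 1 := by
    have e := congrArg (· ^ 3) h
    simp only [hc.mul_pow, conj_pow, F.u_cube, D.J_cube (D.pt_mem_J _), one_mul, mul_one,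
      mul_inv_cancel] at e
    exact e.symm
  have h2 := pow_gcd_eq_one.2 ⟨h1, K.Vg_sq ⟨z, hz, rfl⟩⟩
  rw [show Nat.gcd 3 2 = 1 from rfl, pow_one] at h2
  rw [h2, mul_one] at h
  refine ⟨h, fun h0 => F.u_ne ?_⟩
  rw [h0, scal_zero, D.pt_zero] at h
  exact conj_eq_one_iff.1 h

theorem Klein.mem_X {g : G} (hg : g ∈ K.Y) (hu : Commute g F.u) : K.q ⟨g, hg⟩ ∈ K.X := by
  obtain ⟨i, v, hv, hgv⟩ := K.cent_u hg hu
  have : K.q ⟨g, hg⟩ = K.q ⟨F.u, K.u_mem⟩ ^ i.val := by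
    rw [← map_pow]
    refine QuotientGroup.eq.2 (Subgroup.mem_subgroupOf.2 ?_)
    show g⁻¹ * F.u ^ i.val ∈ K.Vg
    rw [hgv, mul_inv_rev, scal_pow, D.pt_nsmul, inv_mul_cancel_right]
    exact K.Vg.inv_mem hv
  rw [this]
  exact Subgroup.pow_mem _ (Subgroup.mem_zpowers _) _

theorem Klein.X_self [Finite G] : Subgroup.centralizer (K.X : Set K.L) = K.X := by
  refine le_antisymm (fun y hy => ?_) fun y hy => Subgroup.mem_centralizer_iff.2 fun z hz => ?_
  · obtain ⟨g, rfl⟩ := QuotientGroup.mk'_surjective K.Z y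
    have hq : K.q g * K.q ⟨F.u, K.u_mem⟩ = K.q ⟨F.u, K.u_mem⟩ * K.q g :=
      (Subgroup.mem_centralizer_iff.1 hy _ (Subgroup.mem_zpowers _)).symm
    obtain ⟨v, hv, hgv⟩ := K.q_eq (a := ⟨F.u, K.u_mem⟩) (b := g * ⟨F.u, K.u_mem⟩ * g⁻¹)
      (by rw [map_mul, map_mul, map_inv, hq, mul_inv_cancel_right])
    obtain ⟨h, -⟩ := K.conj_u (i := 1) hv (by rw [(scal_one_two e1).1]; exact hgv)
    rw [(scal_one_two e1).1] at h
    exact K.mem_X g.2 (mul_inv_eq_iff_eq_mul.1 h)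
  · obtain ⟨n, rfl⟩ := Subgroup.mem_zpowers_iff.1 hy
    obtain ⟨m, rfl⟩ := Subgroup.mem_zpowers_iff.1 hz
    exact (Commute.zpow_zpow_self _ m n).eq

/-- if the image of the middle element is normal everything normalises it -/
theorem Klein.inN_of_small [Finite G] (h : Nat.card K.L ∣ 6) {g : G} (hg : g ∈ K.Y) : F.InN g := by
  have hidx : K.X.index ∣ 2 := by
    have h1 := Subgroup.card_mul_index K.X
    rw [K.card_X] at h1
    rw [← h1] at h
    exact Nat.dvd_of_mul_dvd_mul_left (show 0 < 3 by norm_num) h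
  have hn : K.X.Normal := by
    rcases (Nat.dvd_prime Nat.prime_two).1 hidx with e | e
    · rw [Subgroup.index_eq_one] at e; rw [e]; infer_instance
    · exact Subgroup.normal_of_index_eq_two e
  obtain ⟨n, hn'⟩ := mem_powers_iff_mem_zpowers.2
    (hn.conj_mem _ (Subgroup.mem_zpowers (K.q ⟨F.u, K.u_mem⟩)) (K.q ⟨g, hg⟩))
  obtain ⟨v, hv, hgv⟩ := K.q_eq (a := ⟨F.u, K.u_mem⟩ ^ n) (b := ⟨g, hg⟩ * ⟨F.u, K.u_mem⟩ * ⟨g, hg⟩⁻¹)
    (by rw [map_pow, map_mul, map_mul, map_inv]; exact hn')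
  have hpow : F.u ^ n = D.pt (scal (n : ZMod 3) e1) := by
    rw [scal_pow, D.pt_nsmul, ZMod.val_natCast]; exact pow_eq_pow_mod n F.u_cube
  obtain ⟨hg2, hn0⟩ := K.conj_u (g := ⟨g, hg⟩) hv (by rw [← hpow]; simpa using hgv)
  refine ⟨(K.mem_Y.1 hg).1, ?_⟩
  rcases scal_cases _ hn0 with e | e <;> rw [e] at hg2
  · exact Or.inl hg2
  · rw [D.pt_neg] at hg2; exact Or.inr hg2

/-- the acting group -/
noncomputable def Klein.A : Subgroup G := Subgroup.closure {F.u, K.t}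

theorem Klein.A_abelian {a b : G} (ha : a ∈ K.A) (hb : b ∈ K.A) : Commute a b := by
  have h : IsMulCommutative K.A := Subgroup.isMulCommutative_closure (by
    rintro x (rfl | rfl) y (rfl | rfl)
    exacts [rfl, K.t_u.symm.eq, K.t_u.eq, rfl])
  exact congrArg Subtype.val (h.is_comm.comm (⟨a, ha⟩ : K.A) ⟨b, hb⟩)

theorem Klein.A_cube {a : G} (ha : a ∈ K.A) : a ^ 3 = 1 := by
  induction ha using Subgroup.closure_induction with
  | mem x hx => rcases hx with rfl | rfl; exacts [F.u_cube, K.t_cube]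
  | one => exact one_pow 3
  | mul x y hx hy ihx ihy => rw [(K.A_abelian hx hy).mul_pow, ihx, ihy, mul_one]
  | inv x hx ihx => rw [inv_pow, ihx, inv_one]

theorem Klein.A_pGroup : IsPGroup 3 K.A := fun a => ⟨1, Subtype.ext (by
  rw [Subgroup.coe_pow]; exact K.A_cube a.2)⟩

theorem Klein.A_Vg [Finite G] : K.A ≤ Subgroup.normalizer (K.Vg : Set G) := by
  refine (Subgroup.closure_le _).2 ?_
  rintro x (rfl | rfl)
  · refine Subgroup.mem_normalizer_fintype fun v hv => ?_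
    obtain ⟨z, hz, rfl⟩ := hv
    rw [(F.commute_u z).symm.eq, mul_inv_cancel_right]
    exact ⟨z, hz, rfl⟩
  · exact Subgroup.mem_normalizer_fintype fun v hv => K.t_Vg hv

theorem Klein.A_Y [Finite G] : K.A ≤ Subgroup.normalizer (K.Y : Set G) := fun a ha => by
  refine Subgroup.mem_normalizer_fintype fun g hg => Subgroup.mem_centralizer_iff.2 fun v hv => ?_
  have h1 := (Subgroup.mem_normalizer_iff.1 (Subgroup.inv_mem _ (K.A_Vg ha)) v).1 hv
  rw [inv_inv] at h1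
  have h2 := Subgroup.mem_centralizer_iff.1 hg _ h1
  calc v * (a * g * a⁻¹) = a * (a⁻¹ * v * a * g) * a⁻¹ := by group
    _ = a * (g * (a⁻¹ * v * a)) * a⁻¹ := by rw [h2]
    _ = _ := by group

/-- the action on the centraliser -/
noncomputable def Klein.ψY [Finite G] : K.A →* MulAut K.Y :=
  CfsgLib.Coprime.conjHom K.A_Y

theorem Klein.ψY_apply [Finite G] (a : K.A) (g : K.Y) :
    ((K.ψY a g : K.Y) : G) = (a : G) * g * (a : G)⁻¹ :=
  CfsgLib.Coprime.conjHom_apply K.A_Y a g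

theorem Klein.ψY_Z [Finite G] (a : K.A) : K.Z.map (K.ψY a).toMonoidHom = K.Z := by
  refine Subgroup.eq_of_le_of_card_ge ?_ (Subgroup.card_map_of_injective (K.ψY a).injective).ge
  rintro _ ⟨z, hz, rfl⟩
  refine Subgroup.mem_subgroupOf.2 ?_
  show ((K.ψY a z : K.Y) : G) ∈ K.Vg
  rw [K.ψY_apply]
  exact (Subgroup.mem_normalizer_iff.1 (K.A_Vg a.2) _).1 (Subgroup.mem_subgroupOf.1 hz)

/-- the action on the quotient -/
noncomputable def Klein.ψ [Finite G] : K.A →* MulAut K.L :=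
  MonoidHom.mk' (fun a => QuotientGroup.congr K.Z K.Z (K.ψY a) (K.ψY_Z a)) fun a b => by
    refine MulEquiv.ext fun x => ?_
    obtain ⟨g, rfl⟩ := QuotientGroup.mk'_surjective K.Z x
    show QuotientGroup.mk' K.Z (K.ψY (a * b) g) = QuotientGroup.mk' K.Z (K.ψY a (K.ψY b g))
    rw [map_mul]; rfl

theorem Klein.ψ_q [Finite G] (a : K.A) (g : K.Y) : K.ψ a (K.q g) = K.q (K.ψY a g) := rfl

/-- invariant subgroups of order prime to three are trivial -/
theorem Klein.no_invariant [Finite G] {p : ℕ} (hp : p.Prime) (hp3 : p ≠ 3) (R : Subgroup K.L)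
    (hR : IsPGroup p R) (hinv : ∀ a, R.map (K.ψ a).toMonoidHom = R)
    (hweight : ∀ i : ZMod 3, ∃ g : G, ∃ w : V, g * (D.pt (scal i e1) * K.t) * g⁻¹ = D.pt w ∧
      (2 ≤ weight w ∨ p ≠ 2 ∧ w = e0)) : R = ⊥ := by
  have : Fact p.Prime := ⟨hp⟩
  by_contra hne
  have hle : ∀ (W : Subgroup K.Y), IsPGroup p W → (∀ a, W.map (K.ψY a).toMonoidHom = W) →
      W ≤ K.Z := by
    intro W hW hWi
    have hconj : ∀ a ∈ K.A, ∀ x ∈ W.map K.Y.subtype, a * x * a⁻¹ ∈ W.map K.Y.subtype := by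
      rintro a ha _ ⟨w, hw, rfl⟩
      exact ⟨K.ψY ⟨a, ha⟩ w, (hWi ⟨a, ha⟩).le ⟨w, hw, rfl⟩, K.ψY_apply _ w⟩
    have h := F.invariant_le hp hp3 K.Vg K.t_cube K.t_u K.t_not (fun v hv => K.Vg_sq hv)
      (fun g hg hu => K.cent_u hg hu) (W.map K.Y.subtype) (Subgroup.map_subtype_le _) (hW.map _)
      (hconj _ (Subgroup.subset_closure (Or.inl rfl)))
      (hconj _ (Subgroup.subset_closure (Or.inr rfl))) hweight
    exact fun w hw => Subgroup.mem_subgroupOf.2 (h ⟨w, hw, rfl⟩)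
  have hT : ∀ a, (R.comap K.q).map (K.ψY a).toMonoidHom = R.comap K.q := by
    intro a
    refine Subgroup.eq_of_le_of_card_ge ?_ (Subgroup.card_map_of_injective (K.ψY a).injective).ge
    rintro _ ⟨g, hg, rfl⟩
    exact (hinv a).le ⟨K.q g, hg, rfl⟩
  by_cases hp2 : p = 2
  · subst hp2
    have hTp : IsPGroup 2 (R.comap K.q) := hR.comap_of_ker_isPGroup _ (by
      rw [QuotientGroup.ker_mk']
      intro z
      refine ⟨1, Subtype.ext (Subtype.ext ?_)⟩
      simpa using K.Vg_sq (Subgroup.mem_subgroupOf.1 z.2))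
    refine hne (le_bot_iff.1 fun r hr => ?_)
    obtain ⟨g, rfl⟩ := QuotientGroup.mk'_surjective K.Z r
    exact Subgroup.mem_bot.2 ((QuotientGroup.eq_one_iff g).2 (hle _ hTp hT hr))
  · obtain ⟨W, hWp, hWne, -, hWinv⟩ :=
      SymNine.exists_lift_invariant K.Z K.Z_center R hR hne
    refine hWne (le_bot_iff.1 fun w hw => Subgroup.mem_bot.2 ?_)
    have hwZ := hle W hWp (fun a => hWinv _ (hT a)) hw
    obtain ⟨n, hn⟩ := hWp ⟨w, hw⟩
    have h1 : (w : G) ^ p ^ n = 1 := congrArg (fun x : W => ((x : K.Y) : G)) hn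
    have h2 := pow_gcd_eq_one.2 ⟨h1, K.Vg_sq (Subgroup.mem_subgroupOf.1 hwZ)⟩
    rw [show (p ^ n).gcd 2 = 1 from ((Nat.coprime_primes hp Nat.prime_two).2 hp2).pow_left n,
      pow_one] at h2
    exact Subtype.ext h2

end CfsgLib.Recog.AltNine
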