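import Cfsg.Agent.Lib.Recog.AltNine.Four
import Cfsg.Agent.Lib.Solvable.PCore

/-!
# The two four groups containing the reflection
-/

set_option autoImplicit false
set_option maxRecDepth 4000

namespace CfsgLib.Recog.AltNine

open CfsgLib.Block CfsgLib.Block.FourCube Equiv
open CfsgLib.Recog.SymNine (V Mon act comp monOne x0 e0 e1 e2 Acts Norms scal weight act_comp
  act_one act_add Cube)

/-- an element permuting the first four group -/
def vA : A6 :=
  ⟨swap 0 2 * swap 2 4 * (swap 1 3 * swap 3 5), by simp [Equiv.Perm.mem_alternatingGroup]⟩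

/-- an element permuting the second four group -/
def βA : A6 := ⟨swap 0 1 * swap 1 4, by simp [Equiv.Perm.mem_alternatingGroup]⟩

theorem v_facts : vA * vA * vA = 1 ∧ vA ≠ 1 ∧ ThreeThree (vA : S6) ∧
    vA * eA * vA⁻¹ = kA ∧ vA * kA * vA⁻¹ = eA * kA := by decide +kernel

theorem β_facts : βA * βA * βA = 1 ∧ βA ≠ 1 ∧ Three (βA : S6) ∧
    βA * eA * βA⁻¹ = eA * dA ∧ βA * dA * βA⁻¹ = eA := by decide +kernel

theorem weight_shift : ∀ i : ZMod 3, 2 ≤ weight (scal i e1 + (e0 + e2)) ∧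
    (i ≠ 0 → 2 ≤ weight (scal i e1 + e0)) ∧ (i = 0 → scal i e1 + e0 = e0) := by decide +kernel

theorem dk_facts : dA * kA * (dA * kA) = eA ∧ eA * dA * kA * (eA * dA * kA) = eA := by
  decide +kernel

universe u

variable {G : Type u} [Group G] {D : Cfg G} (F : Frame D)

theorem Frame.t_not_aux {y : A6} (hy : y ≠ 1) (i : ZMod 3) :
    F.C.φ y ≠ D.pt (scal i e1) := fun h => hy (F.C.sep y i h)

theorem Frame.conj_weight {y : A6} (h : G) {a : V} (hh : h * F.C.φ y * h⁻¹ = D.pt a)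
    (hu : Commute h F.u) (i : ZMod 3) :
    h * (D.pt (scal i e1) * F.C.φ y) * h⁻¹ = D.pt (scal i e1 + a) := by
  rw [D.pt_add, show h * (D.pt (scal i e1) * F.C.φ y) * h⁻¹ =
    h * D.pt (scal i e1) * h⁻¹ * (h * F.C.φ y * h⁻¹) by group, hh,
    (D.commute_scal hu i).eq, mul_inv_cancel_right]

theorem Frame.v_conj : ∃ h, Commute h F.u ∧ h * F.C.φ vA * h⁻¹ = D.pt (e0 + e2) := by
  obtain ⟨g, hg⟩ := threeThree_conj_rep v_facts.2.2.1
  obtain ⟨h, hh, hh'⟩ : ∃ h : S6, h ∈ alternatingGroup (Fin 6) ∧ h * vA * h⁻¹ = p6 * q6 := by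
    rcases Int.units_eq_one_or (Equiv.Perm.sign g) with h1 | h1
    · exact ⟨g, Equiv.Perm.mem_alternatingGroup.2 h1, hg⟩
    · refine ⟨swap 0 3 * swap 1 4 * swap 2 5 * g,
        Equiv.Perm.mem_alternatingGroup.2 (by simp [map_mul, h1]), ?_⟩
      generalize hs : swap (0 : Fin 6) 3 * swap 1 4 * swap 2 5 = s
      calc s * g * (vA : S6) * (s * g)⁻¹ = s * (g * (vA : S6) * g⁻¹) * s⁻¹ := by group
        _ = p6 * q6 := by rw [hg, ← hs]; decide +kernel
  refine ⟨F.C.φ ⟨h, hh⟩, F.commute_u _, ?_⟩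
  rw [D.pt_add, ← F.C.hp, ← F.C.hq, ← map_mul F.C.φ pA qA, ← map_inv, ← map_mul, ← map_mul]
  exact congrArg F.C.φ (Subtype.ext hh')

theorem Frame.β_conj : ∃ h, Commute h F.u ∧ h * F.C.φ βA * h⁻¹ = D.pt e0 := by
  obtain ⟨g, hg⟩ := three_conj_rep β_facts.2.2.1
  obtain ⟨h, hh, hh'⟩ : ∃ h : S6, h ∈ alternatingGroup (Fin 6) ∧ h * βA * h⁻¹ = p6 := by
    rcases Int.units_eq_one_or (Equiv.Perm.sign g) with h1 | h1
    · exact ⟨g, Equiv.Perm.mem_alternatingGroup.2 h1, hg⟩
    · refine ⟨swap 3 4 * g, Equiv.Perm.mem_alternatingGroup.2 (by simp [map_mul, h1]), ?_⟩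
      calc swap 3 4 * g * (βA : S6) * (swap 3 4 * g)⁻¹
          = swap 3 4 * (g * (βA : S6) * g⁻¹) * (swap 3 4)⁻¹ := by group
        _ = p6 := by rw [hg]; decide +kernel
  refine ⟨F.C.φ ⟨h, hh⟩, F.commute_u _, ?_⟩
  rw [← F.C.hp, ← map_inv, ← map_mul, ← map_mul]
  exact congrArg F.C.φ (Subtype.ext hh')

/-- the first four group -/
noncomputable def Frame.K1 : Klein F where
  x := kA
  x_sq := kd_facts.1
  x_comm := kd_facts.2.2.1
  cent := cent_ek'
  t := F.C.φ vA
  t_cube := by rw [← map_pow, pow_succ, pow_two, v_facts.1, map_one]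
  t_u := F.commute_u vA
  t_not := F.t_not_aux v_facts.2.1
  t_e := ⟨kA, Or.inr (Or.inl rfl), by
    rw [Frame.e, ← map_inv, ← map_mul, ← map_mul, v_facts.2.2.2.1]⟩
  t_x := ⟨eA * kA, Or.inr (Or.inr rfl), by
    rw [← map_inv, ← map_mul, ← map_mul, v_facts.2.2.2.2]⟩

/-- the second four group -/
noncomputable def Frame.K2 : Klein F where
  x := dA
  x_sq := kd_facts.2.1
  x_comm := kd_facts.2.2.2.1
  cent := cent_ed'
  t := F.C.φ βA
  t_cube := by rw [← map_pow, pow_succ, pow_two, β_facts.1, map_one]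
  t_u := F.commute_u βA
  t_not := F.t_not_aux β_facts.2.1
  t_e := ⟨eA * dA, Or.inr (Or.inr rfl), by
    rw [Frame.e, ← map_inv, ← map_mul, ← map_mul, β_facts.2.2.2.1]⟩
  t_x := ⟨eA, Or.inl rfl, by
    rw [← map_inv, ← map_mul, ← map_mul, β_facts.2.2.2.2]⟩

theorem Frame.K1_weight (p : ℕ) (i : ZMod 3) : ∃ g : G, ∃ w : V,
    g * (D.pt (scal i e1) * F.K1.t) * g⁻¹ = D.pt w ∧ (2 ≤ weight w ∨ p ≠ 2 ∧ w = e0) := by
  obtain ⟨h, hu, hh⟩ := F.v_conj
  exact ⟨h, _, F.conj_weight h hh hu i, Or.inl (weight_shift i).1⟩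

theorem Frame.K2_weight {p : ℕ} (hp : p ≠ 2) (i : ZMod 3) : ∃ g : G, ∃ w : V,
    g * (D.pt (scal i e1) * F.K2.t) * g⁻¹ = D.pt w ∧ (2 ≤ weight w ∨ p ≠ 2 ∧ w = e0) := by
  obtain ⟨h, hu, hh⟩ := F.β_conj
  refine ⟨h, _, F.conj_weight h hh hu i, ?_⟩
  by_cases hi : i = 0
  · exact Or.inr ⟨hp, (weight_shift i).2.2 hi⟩
  · exact Or.inl ((weight_shift i).2.1 hi)

/-- everything centralising the reflection and the first involution normalises the middle element -/
theorem Frame.inN_of_ek [Finite G] {g : G} (he : Commute g F.e) (hk : Commute g F.k) :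
    F.InN g := by
  refine F.K1.inN_of_small ?_ (F.K1.mem_Y.2 ⟨he, hk⟩)
  refine (SymNine.card_dvd_six_or_exists_invariant F.K1.A_pGroup F.K1.ψ F.K1.card_X
    F.K1.X_self).resolve_right ?_
  rintro ⟨p, R, hp, hp3, hR, hne, hinv⟩
  exact hne (F.K1.no_invariant hp hp3 R hR hinv (F.K1_weight p))

/-- the elements moving `k` inside its pair normalise the middle element -/
theorem Frame.cent_k [Finite G] {g : G} (he : Commute g F.e)
    (hk : g * F.k * g⁻¹ = F.k ∨ g * F.k * g⁻¹ = F.k * F.e) : F.InN g := by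
  rcases hk with hk | hk
  · exact F.inN_of_ek he (mul_inv_eq_iff_eq_mul.1 hk)
  · have hd : F.InN F.d := F.inN_phi kd_facts.2.2.2.1.symm
    have hdg : Commute (F.d * g) F.k := by
      refine mul_inv_eq_iff_eq_mul.1 ?_
      rw [show F.d * g * F.k * (F.d * g)⁻¹ = F.d * (g * F.k * g⁻¹) * F.d⁻¹ by group, hk]
      rw [Frame.d, Frame.k, Frame.e, ← map_inv, ← map_mul, ← map_mul, ← map_mul,
        inv_eq_of_mul_eq_one_right kd_facts.2.1]
      refine congrArg F.C.φ ?_
      rw [show dA * (kA * eA) * dA = dA * kA * (eA * dA) by group, kd_facts.2.2.2.1, ← mul_assoc,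
        kd_facts.2.2.2.2.2.1, mul_assoc, tau_facts.2.2.2.2.1, mul_one]
    have hde : Commute F.d F.e := hd.1
    have h := hd.inv.mul (F.inN_of_ek (hde.mul_left he) hdg)
    rwa [inv_mul_cancel_left] at h

/-- the elements fixing both involutions of the second four group either normalise the middle
element or act as `A₅` -/
theorem Frame.d_cases [Finite G] :
    (∀ g, Commute g F.e → Commute g F.d → F.InN g) ∨
      Nonempty (F.K2.L ≃* alternatingGroup (Fin 5)) := by
  classical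
  set K := F.K2 with hK
  have hkY : Subgroup.zpowers F.k ≤ Subgroup.normalizer (K.Y : Set G) := by
    refine Subgroup.zpowers_le.2 (Subgroup.mem_normalizer_fintype fun g hg => ?_)
    obtain ⟨h1, h2⟩ := K.mem_Y.1 hg
    have hke : F.k * F.e * F.k⁻¹ = F.e := by
      rw [Frame.k, Frame.e, ← map_inv, ← map_mul, ← map_mul, kd_facts.2.2.1.symm,
        mul_inv_cancel_right]
    have hkd : F.k * (F.C.φ dA * F.C.φ eA) * F.k⁻¹ = F.C.φ dA := by
      rw [Frame.k, ← map_mul, ← map_inv, ← map_mul, ← map_mul,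
        inv_eq_of_mul_eq_one_right kd_facts.1]
      refine congrArg F.C.φ ?_
      rw [show kA * (dA * eA) * kA = kA * dA * (eA * kA) by group, kd_facts.2.2.1, ← mul_assoc,
        kd_facts.2.2.2.2.1, mul_assoc, tau_facts.2.2.2.2.1, mul_one]
    refine K.mem_Y.2 ⟨?_, ?_⟩
    · rw [← hke]; exact h1.map (MulAut.conj F.k).toMonoidHom
    · show Commute _ (F.C.φ dA)
      rw [← hkd]; exact (h2.mul_right h1).map (MulAut.conj F.k).toMonoidHom
  let κY : MulAut K.Y := CfsgLib.Coprime.conjHom hkY ⟨F.k, Subgroup.mem_zpowers _⟩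
  have κY_apply : ∀ g : K.Y, ((κY g : K.Y) : G) = F.k * g * F.k⁻¹ := fun g =>
    CfsgLib.Coprime.conjHom_apply hkY _ g
  have hκZ : K.Z.map κY.toMonoidHom = K.Z := by
    refine Subgroup.eq_of_le_of_card_ge ?_ (Subgroup.card_map_of_injective κY.injective).ge
    rintro _ ⟨z, hz, rfl⟩
    refine Subgroup.mem_subgroupOf.2 ?_
    show ((κY z : K.Y) : G) ∈ K.Vg
    rw [κY_apply]
    obtain ⟨y, hy, hyz⟩ := Subgroup.mem_subgroupOf.1 hz
    rw [← hyz, Frame.k, ← map_inv, ← map_mul, ← map_mul]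
    refine ⟨_, ?_, rfl⟩
    have e : kA⁻¹ = kA := inv_eq_of_mul_eq_one_right kd_facts.1
    have c1 : kA * eA * kA = eA := by rw [← kd_facts.2.2.1, mul_assoc, kd_facts.1, mul_one]
    show _ ∈ K.sub
    rw [e]
    rcases hy with rfl | rfl | rfl | rfl
    · rw [mul_one, kd_facts.1]; exact K.sub.one_mem
    · rw [c1]; exact Or.inr (Or.inl rfl)
    · show kA * dA * kA ∈ K.sub
      rw [kd_facts.2.2.2.2.1]
      exact Or.inr (Or.inr (Or.inr kd_facts.2.2.2.1.symm))
    · show kA * (eA * dA) * kA ∈ K.sub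
      rw [show kA * (eA * dA) * kA = kA * eA * kA⁻¹ * (kA * dA * kA) by group, e, c1,
        kd_facts.2.2.2.2.1, kd_facts.2.2.2.1.symm, ← mul_assoc, tau_facts.2.2.2.2.1, one_mul]
      exact Or.inr (Or.inr (Or.inl rfl))
  let κ : MulAut K.L := QuotientGroup.congr K.Z K.Z κY hκZ
  set R := Cfsg.pPrimeCore 3 K.L with hR
  have hRc : R.Characteristic := CfsgLib.Solvable.pPrimeCore_characteristic 3 K.L
  have hRn : R.Normal := inferInstance
  have hRcop : (Nat.card R).Coprime 3 := CfsgLib.Solvable.pPrimeCore_coprime 3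
  have hfix : ∀ r ∈ R, κ r = r → r = 1 := by
    intro r hr hk
    obtain ⟨g, rfl⟩ := QuotientGroup.mk'_surjective K.Z r
    obtain ⟨v, hv, hgv⟩ := K.q_eq (show K.q g = K.q (κY g) from hk.symm)
    rw [κY_apply] at hgv
    obtain ⟨z, hz, rfl⟩ := hv
    have hkk : F.k * F.k = 1 := by rw [Frame.k, ← map_mul, kd_facts.1, map_one]
    have hconj : (g : G)⁻¹ * F.k * g = F.C.φ z * F.k := by
      calc (g : G)⁻¹ * F.k * g = (g : G)⁻¹ * (F.k * g * F.k⁻¹) * F.k := by group
        _ = _ := by rw [hgv]; group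
    have hz2 : z * kA * (z * kA) = 1 := F.C.injective (by
      rw [map_one, map_mul, map_mul]
      show F.C.φ z * F.k * (F.C.φ z * F.k) = 1
      rw [← hconj, show (g : G)⁻¹ * F.k * g * ((g : G)⁻¹ * F.k * g) =
        (g : G)⁻¹ * (F.k * F.k) * g by group, hkk]
      group)
    have hgN : F.InN g := by
      have h1 : F.InN (g : G)⁻¹ := by
        refine F.cent_k (K.mem_Y.1 g.2).1.inv_left ?_
        rw [inv_inv, hconj]
        rcases hz with rfl | rfl | rfl | rfl
        · exact Or.inl (by rw [map_one, one_mul])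
        · exact Or.inr (by rw [Frame.k, Frame.e, ← map_mul, ← map_mul, kd_facts.2.2.1])
        · exact absurd (dk_facts.1.symm.trans hz2) kd_facts.2.2.2.2.2.2.2.2.1
        · exact absurd (dk_facts.2.symm.trans hz2) kd_facts.2.2.2.2.2.2.2.2.1
      simpa using h1.inv
    have hcop1 : ∀ y ∈ R, y ∈ K.X → y = 1 := by
      intro y hy hyX
      have h1 : orderOf y ∣ Nat.card R := by
        rw [← Subgroup.orderOf_mk y hy]; exact orderOf_dvd_natCard _
      have h2 : orderOf y ∣ 3 := by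
        rw [← K.card_X, ← Subgroup.orderOf_mk y hyX]; exact orderOf_dvd_natCard _
      exact orderOf_eq_one_iff.1 (Nat.eq_one_of_dvd_coprimes hRcop h1 h2)
    rcases hgN.2 with h | h
    · exact hcop1 _ hr (K.mem_X g.2 (mul_inv_eq_iff_eq_mul.1 h))
    · exfalso
      set w : K.Y := ⟨F.u, K.u_mem⟩
      have hw : g * w * g⁻¹ = w⁻¹ := Subtype.ext h
      have hw3 : w ^ 3 = 1 := Subtype.ext F.u_cube
      have hmem : K.q w ∈ R := by
        have h2 := R.mul_mem hr (hRn.conj_mem _ (R.inv_mem hr) (K.q w))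
        have e : w = g * (w * g⁻¹ * w⁻¹) := by
          rw [show g * (w * g⁻¹ * w⁻¹) = g * w * g⁻¹ * w⁻¹ by group, hw]
          refine eq_mul_inv_of_mul_eq (eq_inv_of_mul_eq_one_left ?_)
          rw [← hw3, pow_succ, pow_two]
        rw [e, map_mul, map_mul, map_mul, map_inv, map_inv]
        exact h2
      exact K.u_not_mem (Subgroup.mem_subgroupOf.1 ((QuotientGroup.eq_one_iff w).1
        (hcop1 _ hmem (Subgroup.mem_zpowers _))))
  have hodd : ¬ 2 ∣ Nat.card R := by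
    intro h2
    have : Fact (Nat.Prime 2) := ⟨Nat.prime_two⟩
    have hmapR : ∀ x : R, κ x ∈ R := fun x =>
      (Subgroup.characteristic_iff_map_eq.1 hRc κ).le ⟨x, x.2, rfl⟩
    have hκ2 : ∀ x, κ (κ x) = x := by
      intro x
      obtain ⟨g, rfl⟩ := QuotientGroup.mk'_surjective K.Z x
      show K.q (κY (κY g)) = K.q g
      refine congrArg K.q (Subtype.ext ?_)
      rw [κY_apply, κY_apply, show F.k * (F.k * g * F.k⁻¹) * F.k⁻¹ =
        (F.k * F.k) * g * (F.k * F.k)⁻¹ by group, Frame.k, ← map_mul, kd_facts.1, map_one]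
      group
    let σ : Equiv.Perm R :=
      { toFun := fun x => ⟨κ x, hmapR x⟩
        invFun := fun x => ⟨κ x, hmapR x⟩
        left_inv := fun x => Subtype.ext (hκ2 x)
        right_inv := fun x => Subtype.ext (hκ2 x) }
    have : Fintype R := Fintype.ofFinite R
    obtain ⟨b, hb, hb1⟩ := Equiv.Perm.exists_fixed_point_of_prime' (p := 2) (n := 1) (σ := σ)
      (by rwa [← Nat.card_eq_fintype_card]) (Equiv.ext fun x => by
        simp only [pow_one, pow_two, Equiv.Perm.mul_apply, Equiv.Perm.one_apply]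
        exact Subtype.ext (hκ2 x)) (a := 1) (Subtype.ext (map_one κ))
    exact hb1 (Subtype.ext (hfix _ b.2 (congrArg Subtype.val hb)))
  have hbot : R = ⊥ := by
    by_contra hne
    obtain ⟨p, hp, hpR⟩ := Nat.exists_prime_and_dvd
      (fun h => hne (Subgroup.card_eq_one.1 h) : Nat.card R ≠ 1)
    have hp3 : p ≠ 3 := fun h => by
      subst h
      exact absurd (Nat.dvd_gcd hpR dvd_rfl) (by rw [hRcop.gcd_eq_one]; norm_num)
    have hp2 : p ≠ 2 := fun h => hodd (h ▸ hpR)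
    have : Fact p.Prime := ⟨hp⟩
    have hRi : ∀ a, R.map (K.ψ a).toMonoidHom = R := fun a =>
      Subgroup.characteristic_iff_map_eq.1 hRc (K.ψ a)
    let ψR : K.A →* MulAut R := MonoidHom.mk'
      (fun a => (((K.ψ a).subgroupMap R).trans (MulEquiv.subgroupCongr (hRi a))))
      (fun a b => MulEquiv.ext fun x => Subtype.ext (by
        show K.ψ (a * b) (x : K.L) = K.ψ a (K.ψ b x)
        rw [map_mul]; rfl))
    obtain ⟨P, hP⟩ := SymNine.exists_sylow_fixed K.A_pGroup ψR (p := p) (fun h3 => by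
      obtain ⟨Q⟩ : Nonempty (Sylow p R) := inferInstance
      have := (Q.card_dvd_index.trans Q.index_dvd_card)
      exact absurd (Nat.dvd_gcd (h3.trans this) dvd_rfl) (by rw [hRcop.gcd_eq_one]; norm_num))
    refine P.ne_bot_of_dvd_card hpR ?_
    have h := K.no_invariant hp hp3 ((P : Subgroup R).map R.subtype) (P.2.map _)
      (fun a => by
        refine Subgroup.eq_of_le_of_card_ge ?_ (Subgroup.card_map_of_injective (K.ψ a).injective).ge
        rintro _ ⟨_, ⟨x, hx, rfl⟩, rfl⟩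
        exact ⟨ψR a x, (hP a).le ⟨x, hx, rfl⟩, rfl⟩) (F.K2_weight hp2)
    rwa [Subgroup.map_eq_bot_iff, R.ker_subtype, le_bot_iff] at h
  have hsmall : Nat.card K.L ∣ 6 → ∀ g, Commute g F.e → Commute g F.d → F.InN g :=
    fun h g he hd => K.inN_of_small h (K.mem_Y.2 ⟨he, hd⟩)
  rcases Cfsg.Agent.S3331.result K.X K.card_X K.X_self with
    ⟨N, hN, -, hcop, hq⟩ | ⟨N, hN, -, hN2, hq⟩ | hq
  · refine Or.inl (hsmall ?_)
    have hN1 : N = ⊥ := le_bot_iff.1 (hbot ▸ CfsgLib.Solvable.le_pPrimeCore hN hcop)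
    rw [N.card_eq_card_quotient_mul_card_subgroup,
      show Nat.card N = 1 by rw [hN1, Subgroup.card_bot], mul_one]
    rcases hq with hq | ⟨⟨e⟩⟩
    · rw [hq]; norm_num
    · rw [Nat.card_congr e.toEquiv, Nat.card_perm, Nat.card_fin]; norm_num [Nat.factorial]
  · refine Or.inr ?_
    have : Fact (Nat.Prime 2) := ⟨Nat.prime_two⟩
    have hN2' : IsPGroup 2 N := fun w => ⟨1, Subtype.ext (by simpa using hN2 w w.2)⟩
    obtain ⟨n, hn⟩ := hN2'.exists_card_eq
    have hN1 : N = ⊥ := le_bot_iff.1 (hbot ▸ CfsgLib.Solvable.le_pPrimeCore hN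
      (by rw [hn]; exact (by norm_num : Nat.Coprime 2 3).pow_left n))
    obtain ⟨e⟩ := hq
    subst hN1
    exact ⟨(QuotientGroup.quotientBot (G := K.L)).symm.trans e⟩
  · exfalso
    obtain ⟨e⟩ := hq
    have h168 : Nat.card K.L = 168 := (Nat.card_congr e.toEquiv).trans SymNine.card_psl_seven
    have : Fact (Nat.Prime 7) := ⟨by norm_num⟩
    have hn : ¬ 3 ∣ Nat.card (Sylow 7 K.L) := by
      obtain ⟨Q⟩ : Nonempty (Sylow 7 K.L) := inferInstance
      have hd : Nat.card (Sylow 7 K.L) ∣ 168 := h168 ▸ Q.card_dvd_index.trans Q.index_dvd_card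
      have hmod : Nat.card (Sylow 7 K.L) ≡ 1 [MOD 7] := card_sylow_modEq_one 7 K.L
      have key : ∀ d ∈ Nat.divisors 168, d % 7 = 1 → ¬ 3 ∣ d := by decide +kernel
      exact key _ (Nat.mem_divisors.2 ⟨hd, by norm_num⟩) hmod
    obtain ⟨P, hP⟩ := SymNine.exists_sylow_fixed K.A_pGroup K.ψ hn
    exact P.ne_bot_of_dvd_card (by rw [h168]; norm_num)
      (K.no_invariant (by norm_num) (by norm_num) P P.2 hP (F.K2_weight (by norm_num)))

end CfsgLib.Recog.AltNine
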