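import Cfsg.Agent.Lib.Recog.AltNine.Cover

/-!
# The two labelled covers and the two reflections
-/

set_option autoImplicit false
set_option maxRecDepth 4000

namespace CfsgLib.Recog.AltNine

open CfsgLib.Block CfsgLib.Block.FourCube Equiv
open CfsgLib.Recog.SymNine (V Mon act comp monOne x0 e0 e1 e2 Acts Norms scal weight act_comp
  act_one act_add Cube)

/-- conjugation by the transposition of the first two points -/
def tauA : A6 →* A6 := (conjA (swap 0 1)).toMonoidHom

/-- the double transposition inverting both cycles, first kind -/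
def eA : A6 := ⟨swap 0 1 * swap 4 5, by simp [Equiv.Perm.mem_alternatingGroup]⟩

/-- the double transposition inverting both cycles, second kind -/
def gA : A6 := ⟨swap 0 1 * swap 3 4, by simp [Equiv.Perm.mem_alternatingGroup]⟩

theorem tau_facts : tauA pA = pA⁻¹ ∧ tauA qA = qA ∧ tauA eA = eA ∧ tauA cA = cA ∧
    eA * eA = 1 ∧ eA * pA * eA⁻¹ = pA⁻¹ ∧ eA * qA * eA⁻¹ = qA⁻¹ := by
  decide +kernel

theorem tau_tau (x : A6) : tauA (tauA x) = x := Subtype.ext (by
  show ((conjA _ (conjA _ x) : A6) : S6) = x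
  rw [conjA_apply, conjA_apply, Equiv.swap_inv]
  simp only [← mul_assoc, Equiv.swap_mul_self, one_mul]
  rw [mul_assoc, Equiv.swap_mul_self, mul_one])

/-- the sign pattern of the first reflection -/
abbrev sm : Mon := (0, true, true, false)
/-- the sign pattern of the second reflection -/
abbrev em : Mon := (0, true, false, true)
/-- the exchange of the last two coordinates -/
abbrev hm : Mon := (4, false, false, true)

theorem mon_facts : detX sm = true ∧ comp sm sm = monOne ∧ detX em = true ∧ detX hm = true ∧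
    act sm e0 = -e0 ∧ act sm e1 = -e1 ∧ act sm e2 = e2 ∧
    act em e0 = -e0 ∧ act em e1 = e1 ∧ act em e2 = -e2 ∧
    act hm e0 = e0 ∧ act hm e1 = -e2 ∧ act hm e2 = e1 := by decide +kernel

theorem not_fused_mid : ∀ m : Mon, detX m = true → act m e0 ≠ e0 + e1 ∧ act m e0 ≠ e0 + e2 := by
  decide +kernel

theorem neg_self : ∀ k : ZMod 3, -k = k → k = 0 := by decide +kernel

theorem scal_neg : ∀ (k : ZMod 3) (w : V),
    scal k (-w) = scal (-k) w ∧ -scal k w = scal (-k) w := by decide +kernel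

universe u

variable {G : Type u} [Group G] {D : Cfg G} {w a b : V}

/-- the cover seen from the inverse generator -/
noncomputable def Cover.negW (C : Cover D (-w) a b) : Cover D w a b where
  φ := C.φ
  comm x := by
    have h := (C.comm x).inv_right
    rwa [← D.pt_neg, neg_neg] at h
  decomp g hg := by
    obtain ⟨k, x, hx⟩ := C.decomp g (by
      rw [D.pt_neg]; exact hg.inv_right)
    exact ⟨-k, x, by rw [← (scal_neg k w).1]; exact hx⟩
  sep x k h := C.sep x (-k) (by rw [(scal_neg (-k) w).1, neg_neg]; exact h)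
  hp := C.hp
  hq := C.hq

theorem Cover.negW_apply (C : Cover D (-w) a b) (x : A6) : C.negW.φ x = C.φ x := rfl

variable (D) in
/-- the two labelled covers, with the reflection `s` -/
structure Frame where
  /-- the middle cover -/
  C : Cover D e1 e0 e2
  /-- the last cover -/
  C' : Cover D e2 e0 e1
  /-- the reflection -/
  s : G
  s_sq : s * s = 1
  s_acts : Acts D.pt s sm
  s_C : ∀ x, s * C.φ x * s⁻¹ = C.φ (tauA x)
  e_C' : ∀ x, C.φ eA * C'.φ x * (C.φ eA)⁻¹ = C'.φ (tauA x)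
  s_C' : s = C'.φ gA

theorem Cover.e_acts (C : Cover D e1 e0 e2) : Acts D.pt (C.φ eA) em := by
  obtain ⟨-, -, -, -, -, -, -, f0, f1, f2, -⟩ := mon_facts
  refine D.acts_of_basis ?_ ?_ ?_
  · rw [f0, ← C.hp, D.pt_neg, ← C.hp, ← map_inv, ← map_mul, ← map_mul, ← map_inv,
      tau_facts.2.2.2.2.2.1]
  · rw [f1, (C.comm eA).eq, mul_inv_cancel_right]
  · rw [f2, ← C.hq, D.pt_neg, ← C.hq, ← map_inv, ← map_mul, ← map_mul, ← map_inv,
      tau_facts.2.2.2.2.2.2]

theorem Cover.e_sq (C : Cover D e1 e0 e2) : C.φ eA * C.φ eA = 1 := by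
  rw [← map_mul, tau_facts.2.2.2.2.1, map_one]

/-- an involution inverting the centre and the first cycle, fixing the second, acts as `(01)` -/
theorem Cover.exists_relabel [Finite G] (C : Cover D w a b)
    (hab : ∀ m, detX m = true → act m a ≠ a + b) {t : G} (ht : t * t = 1)
    (htw : t * D.pt w * t⁻¹ = (D.pt w)⁻¹) (hta : t * D.pt a * t⁻¹ = (D.pt a)⁻¹)
    (htb : t * D.pt b * t⁻¹ = D.pt b) :
    ∃ C₁ : Cover D w a b, ∀ x, t * C₁.φ x * t⁻¹ = C₁.φ (tauA x) := by
  obtain ⟨α, hα⟩ := C.exists_conj (Or.inr htw)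
  obtain ⟨π, hπp, hπq, hπ⟩ := exists_transposition α (fun x => C.injective (by
      rw [← hα, ← hα, show t * (t * C.φ x * t⁻¹) * t⁻¹ = (t * t) * C.φ x * (t * t)⁻¹ by group, ht]
      group))
    (C.injective (by rw [← hα, C.hp, hta, map_inv, C.hp]))
    (C.injective (by rw [← hα, C.hq, htb]))
    (fun x hx => C.three_image hab hα hx)
  refine ⟨C.relabel π hπp hπq, fun x => ?_⟩
  rw [C.relabel_apply, C.relabel_apply, hα]
  refine congrArg C.φ (Subtype.ext ?_)
  rw [hπ x]
  show _ = ((π⁻¹ * tauA x * π : A6) : S6)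
  simp [tauA, conjA_apply]

theorem Cfg.exists_frame [Finite G] (D : Cfg G) (h : D.Six) : Nonempty (Frame D) := by
  obtain ⟨md, m2, med, mhd, s0, s1, s2, f0, f1, f2, g0, g1, g2⟩ := mon_facts
  obtain ⟨C₀⟩ := D.exists_cover h
  obtain ⟨s, hs, hsa⟩ := D.cube.exists_invol md m2
  have hsa' : Acts D.pt s sm := hsa
  obtain ⟨C, hC⟩ := C₀.exists_relabel (fun m hm => (not_fused_mid m hm).2) hs
    (by rw [hsa' e1, s1, D.pt_neg]) (by rw [hsa' e0, s0, D.pt_neg]) (by rw [hsa' e2, s2])
  obtain ⟨h, hh⟩ := D.exists_lift hm mhd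
  let M₀ : Cover D (-e2) (act hm e0) (act hm e2) := C.map hh g1
  let M₁ : Cover D (-e2) e0 e1 :=
    { M₀ with hp := M₀.hp.trans (by rw [g0]), hq := M₀.hq.trans (by rw [g2]) }
  set e := C.φ eA with he
  obtain ⟨C'₁, hC'⟩ := M₁.negW.exists_relabel (fun m hm => (not_fused_mid m hm).1) C.e_sq
    (by rw [C.e_acts e2, f2, D.pt_neg]) (by rw [C.e_acts e0, f0, D.pt_neg])
    (by rw [C.e_acts e1, f1])
  obtain ⟨k, g, hkg⟩ := C'₁.decomp s (mul_inv_eq_iff_eq_mul.1 (by rw [hsa' e2, s2]))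
  have hes : e * s * e⁻¹ = s := by
    have h1 : s * e * s⁻¹ = e := by rw [he, hC, tau_facts.2.2.1]
    have h2 : Commute s e := mul_inv_eq_iff_eq_mul.1 h1
    rw [h2.symm.eq, mul_inv_cancel_right]
  have hsep : D.pt (scal (-k) e2) * C'₁.φ (tauA g) = D.pt (scal k e2) * C'₁.φ g := by
    rw [← hkg, ← hC', ← hes]
    conv_rhs => rw [hkg]
    have hz : e * D.pt (scal k e2) * e⁻¹ = D.pt (scal (-k) e2) := by
      rw [C.e_acts (scal k e2), act_scal, f2, (scal_neg k e2).1]
    rw [← hz, ← he]; group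
  obtain ⟨hk, hg⟩ := C'₁.sep' (by decide +kernel) hsep
  have hk0 : k = 0 := neg_self k hk
  rw [hk0, scal_zero, D.pt_zero, one_mul] at hkg
  have hg2 : g * g = 1 := C'₁.injective (by rw [map_mul, ← hkg, hs, map_one])
  have hgp : g * pA * g⁻¹ = pA⁻¹ := C'₁.injective (by
    rw [map_mul, map_mul, map_inv, map_inv, ← hkg, C'₁.hp, hsa' e0, s0, D.pt_neg])
  have hgq : g * qA * g⁻¹ = qA⁻¹ := C'₁.injective (by
    rw [map_mul, map_mul, map_inv, map_inv, ← hkg, C'₁.hq, hsa' e1, s1, D.pt_neg])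
  obtain ⟨j, hj⟩ := inverting (g : S6) (congrArg Subtype.val hg2)
    (congrArg Subtype.val (mul_inv_eq_iff_eq_mul.1 hgp))
    (congrArg Subtype.val (mul_inv_eq_iff_eq_mul.1 hgq))
    (by
      have h := congrArg Subtype.val hg
      simp only [tauA, MulEquiv.coe_toMonoidHom, conjA_apply, Equiv.swap_inv] at h
      conv_lhs => rw [← h]
      rw [mul_assoc, Equiv.swap_mul_self, mul_one])
  have hjp : qA ^ (j : ℕ) * pA = pA * qA ^ (j : ℕ) :=
    ((show Commute qA pA from Subtype.ext (by decide +kernel : q6 * p6 = p6 * q6)).pow_left _).eq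
  have hjq : qA ^ (j : ℕ) * qA = qA * qA ^ (j : ℕ) := ((Commute.refl qA).pow_left _).eq
  refine ⟨⟨C, C'₁.relabel _ hjp hjq, s, hs, hsa', hC, fun x => ?_, ?_⟩⟩
  · rw [C'₁.relabel_apply, C'₁.relabel_apply, hC']
    simp only [map_mul, map_inv, map_pow, tau_facts.2.1]
  · rw [C'₁.relabel_apply, hkg]
    refine congrArg C'₁.φ ?_
    have hj' : qA ^ (j : ℕ) * g * (qA ^ (j : ℕ))⁻¹ = gA := Subtype.ext hj
    rw [← hj']; group

end CfsgLib.Recog.AltNine
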