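import Cfsg.Agent.Lib.Block.FourFacts

/-!
Facts about the model of order 648 used when all centralisers are local.
-/

set_option autoImplicit false
set_option maxRecDepth 4000

namespace CfsgLib.Recog.AltNine

open CfsgLib.Block CfsgLib.Block.FourCube
open CfsgLib.Block.ThreeCube (Tri dsgn)

/-- all three coordinates are non-trivial -/
def Full (g : Big) : Prop := g.left.1 ≠ 1 ∧ g.left.2.1 ≠ 1 ∧ g.left.2.2 ≠ 1

instance : DecidablePred Full := fun g => inferInstanceAs (Decidable (_ ∧ _))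

/-- the 27 rotation triples -/
def rotL : List Tri :=
  let l : List (DihedralGroup 3) := [.r 0, .r 1, .r 2]
  l.flatMap fun i => l.flatMap fun j => l.map fun k => (i, j, k)

theorem inJ_rotL : ∀ a : Tri, InJ (⟨a, 1⟩ : Big) ↔ a ∈ rotL := by decide +kernel

set_option synthInstance.maxSize 4096 in
theorem inv₆_three : ∀ s ∈ invL₆, ∀ a p, Ev (⟨a, p⟩ : Big) →
    (⟨a, p⟩ : Big) * s = s * ⟨a, p⟩ → ThreePow (⟨a, p⟩ : Big) → InJ (⟨a, p⟩ : Big) := by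
  decide +kernel

set_option synthInstance.maxSize 4096 in
theorem out_cent : ∀ a p, (⟨a, p⟩ : Big) * ⟨a, p⟩ * ⟨a, p⟩ = 1 → Ev (⟨a, p⟩ : Big) →
    ¬ InJ (⟨a, p⟩ : Big) → ∀ c ∈ rotL, InJ1 (⟨c, 1⟩ : Big) →
    (⟨c, 1⟩ : Big) * ⟨a, p⟩ = (⟨a, p⟩ : Big) * ⟨c, 1⟩ →
    Full (⟨c, 1⟩ : Big) ∧ ∃ d ∈ rotL,
      (⟨d, 1⟩ : Big) * ⟨a, p⟩ = (⟨a, p⟩ : Big) * ⟨c, 1⟩ * ⟨d, 1⟩ := by
  decide +kernel

set_option synthInstance.maxSize 4096 in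
theorem no_invert : ∀ a p, Ev (⟨a, p⟩ : Big) → dsgn p = 1 →
    ∀ c ∈ rotL, Full (⟨c, 1⟩ : Big) →
    (⟨a, p⟩ : Big) * ⟨c, 1⟩ ≠ (⟨c, 1⟩ : Big) * ⟨c, 1⟩ * ⟨a, p⟩ := by
  decide +kernel

end CfsgLib.Recog.AltNine
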