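import Cfsg.Agent.Lib.Block.FourLinear

/-!
A linear character extending the sign of `3^3 : S₄` when only the singular elements of the model
are trivial-intersection and the two classes of involutions are separated; the subgroup of order 27
need not be strongly closed.
-/

set_option autoImplicit false
set_option linter.all false
set_option maxRecDepth 4000

namespace CfsgLib.Recog.AltNine

open CfsgLib.Char CfsgLib.Block CfsgLib.Block.FourCube

universe u

variable {G : Type u} [Group G]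

/-- coordinates from an identification with the model -/
noncomputable def trOf {H : Subgroup G} (e : Four ≃* H) : H →* Big :=
  Four.subtype.comp e.symm.toMonoidHom

theorem inJ1_inv : ∀ a : ThreeCube.Tri, InJ1 (⟨a, 1⟩ : Big) → InJ1 (⟨a, 1⟩ : Big)⁻¹ := by
  decide +kernel

theorem sing4_inv {g : Big} (h : Sing4 g) : Sing4 g⁻¹ := by
  have key : ∀ {y : Big}, InJ1 y → InJ1 y⁻¹ := fun {y} hy => by
    rw [inJ_form hy.1]
    exact inJ1_inv _ (by rw [← inJ_form hy.1]; exact hy)
  rcases h with h | h | h | h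
  · exact Or.inl (key h)
  · exact Or.inr (Or.inl (by rw [← mul_inv_rev]; exact key h))
  · refine Or.inr (Or.inr (Or.inl ?_))
    rw [show g⁻¹ * g⁻¹ * g⁻¹ = (g * g * g)⁻¹ by group]; exact key h
  · refine Or.inr (Or.inr (Or.inr ?_))
    rw [show g⁻¹ * g⁻¹ * (g⁻¹ * g⁻¹) = (g * g * (g * g))⁻¹ by group]; exact key h

/-- what the character argument needs -/
structure Loc (H : Subgroup G) where
  /-- the identification -/
  e : Four ≃* H
  ti : ∀ {x : G} {a b : H}, Sing4 (trOf e a) → Sing4 (trOf e b) →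
    x * (a : G) * x⁻¹ = b → x ∈ H
  separated : ∀ {s s' : H}, trOf e s ∈ invL₂ → trOf e s' ∈ invL₆ → ∀ x : G,
    x * (s : G) * x⁻¹ ≠ (s' : G)

variable {H : Subgroup G} (D : Loc H)
include D

/-- coordinates -/
noncomputable def Loc.tr : H →* Big := trOf D.e

theorem Loc.tr_apply (a : Four) : D.tr (D.e a) = (a : Big) := by simp [Loc.tr, trOf]

theorem Loc.tr_ev (h : H) : Ev (D.tr h) := (D.e.symm h).2

theorem Loc.tr_injective : Function.Injective D.tr :=
  fun a b hab => D.e.symm.injective (Subtype.ext hab)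

variable [Finite G]

theorem Loc.hom_ext {M : Type*} [CommMonoid M] (f g : H →* M)
    (h : ∀ a : Four, (a : Big) = gc ∨ (a : Big) = gd ∨ (a : Big) = gt ∨ (a : Big) = gs →
      f (D.e a) = g (D.e a)) : f = g := by
  obtain ⟨e1, e2, e3, e4, -⟩ := gens_ev
  ext x
  obtain ⟨a, rfl⟩ := D.e.surjective x
  let C : Four := ⟨gc, e1⟩
  let Dd : Four := ⟨gd, e2⟩
  let T : Four := ⟨gt, e3⟩
  let S : Four := ⟨gs, e4⟩
  let tail := gt ^ rotPart (a : Big).right * gs ^ fl (a : Big).right
  let hb := (a : Big) * tail⁻¹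
  let v := (gt * gd * gt⁻¹) ^ fl hb.left.2.2 * gd ^ fl hb.left.2.1
  let j := hb * v⁻¹
  have ha : a = C ^ rnum j.left.1 * (T * T * C * (T * T)⁻¹) ^ rnum j.left.2.1 *
      (T * C * T⁻¹) ^ rnum j.left.2.2 *
      ((T * Dd * T⁻¹) ^ fl hb.left.2.2 * Dd ^ fl hb.left.2.1) *
      (T ^ rotPart (a : Big).right * S ^ fl (a : Big).right) := by
    exact Subtype.ext (word_eq (a : Big).left (a : Big).right a.2).symm
  have hT : f (D.e T) = g (D.e T) := h T (Or.inr (Or.inr (Or.inl rfl)))
  have hTi : f (D.e T⁻¹) = g (D.e T⁻¹) := by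
    have h3 : T⁻¹ = T * T := inv_eq_of_mul_eq_one_right (Subtype.ext (by
      show gt * (gt * gt) = 1
      rw [← mul_assoc]; exact gens_rel.2.2.2.1))
    rw [h3, map_mul, map_mul, map_mul, hT]
  rw [ha]
  simp only [map_mul, map_pow, mul_inv_rev, hT, hTi, h C (Or.inl rfl), h Dd (Or.inr (Or.inl rfl)),
    h S (Or.inr (Or.inr (Or.inr rfl)))]

/-- the sign as a linear character of `H` -/
noncomputable def Loc.epsH : H →* ℂˣ := epsHom.comp D.e.symm.toMonoidHom

theorem Loc.epsH_apply (h : H) : (D.epsH h : ℂ) = (epsP (D.tr h) : ℂ) := rfl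

theorem Loc.linear_cases (l : H →* ℂˣ) : l = 1 ∨ l = D.epsH := by
  obtain ⟨e1, e2, e3, e4, -⟩ := gens_ev
  obtain ⟨r1, r2, r3, r4, r5, r6⟩ := gens_rel
  obtain ⟨s1, s2, s3, s4⟩ := gens_sign
  let L : Four →* ℂˣ := l.comp D.e.toMonoidHom
  let C : Four := ⟨gc, e1⟩
  let Dd : Four := ⟨gd, e2⟩
  let T : Four := ⟨gt, e3⟩
  let S : Four := ⟨gs, e4⟩
  have q1 : L Dd * L C * L Dd = L C * L C := by
    simp only [← map_mul]; exact congrArg L (Subtype.ext r1)
  have q2 : L Dd * L Dd = 1 := by rw [← map_mul, ← map_one L]; exact congrArg L (Subtype.ext r2)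
  have q3 : L S * L S = 1 := by rw [← map_mul, ← map_one L]; exact congrArg L (Subtype.ext r3)
  have q4 : L T * L T * L T = 1 := by
    simp only [← map_mul]; rw [← map_one L]; exact congrArg L (Subtype.ext r4)
  have q5 : L T * L T * L Dd * (L T * L T)⁻¹ = L Dd * (L T * L Dd * (L T)⁻¹) := by
    simp only [← map_mul, ← map_inv]; exact congrArg L (Subtype.ext r5)
  have q6 : L S * L T * L S = L Dd * (L T * L T) := by
    simp only [← map_mul]; exact congrArg L (Subtype.ext r6)
  have hC : L C = 1 := by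
    rw [mul_comm (L Dd) (L C), mul_assoc, q2, mul_one] at q1
    exact left_eq_mul.mp q1
  have hD : L Dd = 1 := by
    rw [mul_comm (L T * L T) (L Dd), mul_inv_cancel_right, mul_comm (L T) (L Dd),
      mul_inv_cancel_right] at q5
    exact left_eq_mul.mp q5
  have hT : L T = 1 := by
    rw [hD, one_mul, mul_comm (L S) (L T), mul_assoc, q3, mul_one] at q6
    exact left_eq_mul.mp q6
  have hS : (L S : ℂ) = 1 ∨ (L S : ℂ) = -1 := mul_self_eq_one_iff.mp (by
    rw [← Units.val_mul, q3, Units.val_one])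
  rcases hS with hS | hS
  · refine Or.inl (D.hom_ext l 1 ?_)
    rintro ⟨a, ha⟩ (rfl | rfl | rfl | rfl)
    exacts [hC, hD, hT, Units.ext hS]
  · refine Or.inr (D.hom_ext l _ ?_)
    rintro ⟨a, ha⟩ (rfl | rfl | rfl | rfl) <;> apply Units.ext <;> rw [D.epsH_apply, D.tr_apply]
    · exact (congrArg Units.val hC).trans (by simp [s1])
    · exact (congrArg Units.val hD).trans (by simp [s2])
    · exact (congrArg Units.val hT).trans (by simp [s3])
    · exact hS.trans (by simp [s4])

variable [Fintype H]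

/-- the class functions on `H` -/
noncomputable def Loc.th (j : Fin 8) (h : H) : ℂ := theta j (D.e.symm h)

theorem Loc.th_apply (j : Fin 8) (h : H) :
    D.th j h = (vecA j (D.tr h) : ℂ) + r3 * (vecB j (D.tr h) : ℂ) := rfl

theorem Loc.gen_th (j : Fin 8) : Cfsg.IsGeneralizedCharacter H (D.th j) := by
  obtain ⟨χ, ψ, hχ, hψ, heq⟩ := gen_theta j
  refine ⟨_, _, isCharacter_comp hχ D.e.symm.toMonoidHom, isCharacter_comp hψ D.e.symm.toMonoidHom, ?_⟩
  funext h
  show theta j (D.e.symm h) = _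
  rw [heq]; rfl

theorem Loc.th_zero (j : Fin 8) (h : H) (hh : ¬ Sing4 (D.tr h)) : D.th j h = 0 := by
  obtain ⟨h1, h2⟩ := vec_eq_zero (D.tr h).left (D.tr h).right (D.tr_ev h) hh j
  rw [D.th_apply, h1, h2]; simp

theorem Loc.sum_H (F : Big → ℂ) : ∑ h : H, F (D.tr h) =
    ∑ a : ThreeCube.Tri, ∑ p : DihedralGroup 3, if Ev (⟨a, p⟩ : Big) then F ⟨a, p⟩ else 0 := by
  rw [← sum_four]
  refine (Fintype.sum_equiv D.e.toEquiv (fun a : Four => F (a : Big)) (fun h : H => F (D.tr h))
    fun a => ?_).symm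
  exact congrArg F (D.tr_apply a).symm

theorem Loc.sum_int (F : Big → ℤ) : ∑ h : H, (F (D.tr h) : ℂ) =
    ((∑ a : ThreeCube.Tri, ∑ p : DihedralGroup 3, if Ev (⟨a, p⟩ : Big) then F ⟨a, p⟩ else 0 : ℤ) :
      ℂ) := by
  rw [D.sum_H fun g => (F g : ℂ)]
  push_cast
  exact Finset.sum_congr rfl fun a _ => Finset.sum_congr rfl fun p _ => by split_ifs <;> simp

theorem Loc.card_H : Nat.card H = 648 := by rw [← Nat.card_congr D.e.toEquiv, card_four]

theorem Loc.inner_th (j k : Fin 8) : Cfsg.classInner (D.th j) (D.th k) = (gram j k : ℂ) := by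
  have h1 : ∀ h : H, D.th j h * (starRingEnd ℂ) (D.th k h) =
      (((fun g => vecA j g * vecA k g + 3 * (vecB j g * vecB k g)) (D.tr h) : ℤ) : ℂ) +
        r3 * (((fun g => vecA j g * vecB k g + vecB j g * vecA k g) (D.tr h) : ℤ) : ℂ) := fun h => by
    simp only [D.th_apply, map_add, map_mul, map_intCast, conj_r3]
    push_cast
    linear_combination ((vecB j (D.tr h) : ℂ) * (vecB k (D.tr h) : ℂ)) * r3_sq
  rw [classInner_def, Finset.sum_congr rfl fun h _ => h1 h, Finset.sum_add_distrib, ← Finset.mul_sum,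
    D.sum_int fun g => vecA j g * vecA k g + 3 * (vecB j g * vecB k g),
    D.sum_int fun g => vecA j g * vecB k g + vecB j g * vecA k g, (sum_gram j k).1, (sum_gram j k).2,
    D.card_H]
  push_cast; field_simp; ring

theorem Loc.inner_one (j : Fin 8) :
    Cfsg.classInner (D.th j) (fun _ => 1) = (vecOne j : ℂ) := by
  simp only [classInner_def, map_one, mul_one, D.th_apply, Finset.sum_add_distrib, ← Finset.mul_sum]
  rw [D.sum_int (vecA j), D.sum_int (vecB j), (sum_one j).1, (sum_one j).2, D.card_H]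
  push_cast; field_simp; ring

variable [Fintype G]

open scoped Classical in
/-- the involutions of `G` meeting a list of the model -/
noncomputable def Loc.cls (l : List Big) : Finset G :=
  Finset.univ.filter fun g => ∃ h : H, D.tr h ∈ l ∧ ∃ x : G, x * (h : G) * x⁻¹ = g

theorem Loc.mem_cls {l : List Big} {g : G} :
    g ∈ D.cls l ↔ ∃ h : H, D.tr h ∈ l ∧ ∃ x : G, x * (h : G) * x⁻¹ = g := by
  simp [Loc.cls]

theorem Loc.cls_conj {l : List Big} : ∀ s ∈ D.cls l, ∀ y : G, y * s * y⁻¹ ∈ D.cls l := by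
  intro s hs y
  obtain ⟨h, hh, x, rfl⟩ := D.mem_cls.mp hs
  exact D.mem_cls.mpr ⟨h, hh, y * x, by group⟩

theorem Loc.cls_sq {l : List Big} (hl : ∀ s ∈ l, s * s = 1) : ∀ s ∈ D.cls l, s * s = 1 := by
  intro s hs
  obtain ⟨h, hh, x, rfl⟩ := D.mem_cls.mp hs
  have h1 : h * h = 1 := D.tr_injective (by rw [map_mul, map_one]; exact hl _ hh)
  rw [show x * (h : G) * x⁻¹ * (x * (h : G) * x⁻¹) = x * ((h : G) * h) * x⁻¹ by group,
    show (h : G) * h = 1 from congrArg Subtype.val h1]
  group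

theorem Loc.cls_inter (h : H) : ((h : G) ∈ D.cls invL₂ ↔ D.tr h ∈ invL₂) ∧
    ((h : G) ∈ D.cls invL₆ ↔ D.tr h ∈ invL₆) := by
  have hinv : ∀ l, (l = invL₂ ∨ l = invL₆) → (h : G) ∈ D.cls l →
      D.tr h ∈ invL₂ ∨ D.tr h ∈ invL₆ := by
    intro l hl hh
    have hl2 : ∀ s ∈ l, s * s = 1 := by rcases hl with rfl | rfl; exacts [inv_sq.1, inv_sq.2]
    have h2 : h * h = 1 := Subtype.ext (D.cls_sq hl2 _ hh)
    have h2' : D.tr h * D.tr h = 1 := by rw [← map_mul, h2, map_one]
    have h1 : D.tr h ≠ 1 := fun e => by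
      obtain ⟨k, hk, x, hx⟩ := D.mem_cls.mp hh
      have : (h : G) = 1 := congrArg Subtype.val (D.tr_injective (e.trans (map_one D.tr).symm))
      rw [this] at hx
      have hk1 : (k : G) = 1 := by
        rw [show (k : G) = x⁻¹ * (x * (k : G) * x⁻¹) * x by group, hx]; group
      refine inv_ne (D.tr k) ?_ (by rw [show k = 1 from Subtype.ext hk1, map_one])
      rcases hl with rfl | rfl
      · exact List.mem_append_left _ hk
      · exact List.mem_append_right _ hk
    rcases mul_self_eq_one_iff.mp (show (ThreeCube.dsgn (D.tr h).right) * ThreeCube.dsgn (D.tr h).right = 1 by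
      rcases hr : (D.tr h).right with i | i <;> rfl) with s | s
    · exact Or.inl ((mem_invL₂ _ _).mpr ⟨D.tr_ev h, h1, h2', s⟩)
    · exact Or.inr ((mem_invL₆ _ _).mpr ⟨D.tr_ev h, h2', s⟩)
  refine ⟨⟨fun hh => ?_, fun hh => D.mem_cls.mpr ⟨h, hh, 1, by group⟩⟩,
    fun hh => ?_, fun hh => D.mem_cls.mpr ⟨h, hh, 1, by group⟩⟩
  · rcases hinv _ (Or.inl rfl) hh with h1 | h1
    · exact h1
    · obtain ⟨k, hk, x, hx⟩ := D.mem_cls.mp hh
      exact absurd hx (D.separated hk h1 x)
  · rcases hinv _ (Or.inr rfl) hh with h1 | h1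
    · obtain ⟨k, hk, x, hx⟩ := D.mem_cls.mp hh
      exact absurd (show x⁻¹ * (h : G) * x⁻¹⁻¹ = (k : G) by rw [← hx]; group) (D.separated h1 hk _)
    · exact h1

open scoped Classical in
theorem Loc.sum_list (l : List Big) (hnd : l.Nodup) (hev : ∀ s ∈ l, Ev s) (F : Big → ℤ) :
    ∑ h ∈ Finset.univ.filter (fun h : H => D.tr h ∈ l), (F (D.tr h) : ℂ) =
      (((l.map F).sum : ℤ) : ℂ) := by
  rw [← List.sum_toFinset _ hnd, Int.cast_sum]
  refine Finset.sum_bij (fun h _ => D.tr h) (fun h hh => ?_) (fun a _ b _ hab => D.tr_injective hab)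
    (fun s hs => ?_) (fun h _ => rfl)
  · simpa using hh
  · have hs' : s ∈ l := List.mem_toFinset.mp hs
    exact ⟨D.e ⟨s, hev s hs'⟩, by simp [D.tr_apply, hs'], D.tr_apply _⟩

theorem Loc.pairs (j : Fin 8) (l l' : List Big) (hl : l.Nodup) (hl' : l'.Nodup)
    (he : ∀ s ∈ l, Ev s) (he' : ∀ s ∈ l', Ev s) (hsq : ∀ s ∈ l, s * s = 1)
    (hsq' : ∀ s ∈ l', s * s = 1)
    (hi : ∀ h : H, (h : G) ∈ D.cls l ↔ D.tr h ∈ l) (hi' : ∀ h : H, (h : G) ∈ D.cls l' ↔ D.tr h ∈ l') :
    ∑ s ∈ D.cls l, ∑ t ∈ D.cls l', Cfsg.indFun H (D.th j) (s * t) =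
      (Nat.card G : ℂ) / 648 *
        ((pairTot (vecA j) l l' : ℂ) + r3 * (pairTot (vecB j) l l' : ℂ)) := by
  classical
  rw [PairSets.pairs_indFun H _ _ D.cls_conj D.cls_conj _ ?_, D.card_H]
  swap
  · intro s hs t ht h h0
    have hS : Sing4 (D.tr ⟨s * t, h⟩) := by_contra fun hc => h0 (D.th_zero j _ hc)
    refine D.ti hS (a := ⟨s * t, h⟩) (b := ⟨s * t, h⟩⁻¹) (by rw [map_inv]; exact sing4_inv hS) ?_
    have hs2 := D.cls_sq hsq s hs
    have ht2 := D.cls_sq hsq' t ht
    have hinv : s * (s * t) * s⁻¹ = (s * t)⁻¹ := by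
      rw [← mul_assoc, hs2, one_mul, mul_inv_rev, inv_eq_of_mul_eq_one_right ht2]
    exact hinv
  congr 1
  have hpair : ∀ F : Big → ℤ, ∑ s ∈ Finset.univ.filter (fun s : H => (s : G) ∈ D.cls l),
      ∑ t ∈ Finset.univ.filter (fun t : H => (t : G) ∈ D.cls l'), (F (D.tr s * D.tr t) : ℂ) =
      (pairTot F l l' : ℂ) := by
    intro F
    simp only [hi, hi']
    rw [pairTot, ← D.sum_list l hl he fun a => (l'.map fun b => F (a * b)).sum]
    exact Finset.sum_congr rfl fun s _ => D.sum_list l' hl' he' fun b => F (D.tr s * b)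
  rw [← hpair, ← hpair]
  simp only [D.th_apply, map_mul, Finset.sum_add_distrib, ← Finset.mul_sum]

open scoped Classical in
/-- A linear character of `G` restricting to the sign. -/
theorem Loc.exists_linear : ∃ lam : G →* ℂˣ, ∀ h : H, lam h = D.epsH h := by
  have := Fintype.ofFinite (Cfsg.IrrCharacter G)
  choose m hm hmχ using fun j => PairTrick.exists_coeff (isGeneralized_indFun H (D.gen_th j))
  choose d hd hd1 using fun χ : Cfsg.IrrCharacter G => irr_apply_one_pos χ.2
  let o : Cfsg.IrrCharacter G := ⟨_, isIrrCharacter_one⟩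
  have hg : (Nat.card G : ℂ) ≠ 0 := natCard_ne_zero
  have hcl : ∀ j, Cfsg.IsClassFunction G (Cfsg.indFun H (D.th j)) := fun j =>
    indFun_isClassFunction _ _
  have hthcl : ∀ j (a b : H), D.th j (b * a * b⁻¹) = D.th j a := fun j =>
    isGeneralized_isClassFunction (D.gen_th j)
  have hinvol : ∀ j (a : H), a * a = 1 → D.th j a = 0 := fun j a ha =>
    D.th_zero j a (not_sing4_of_sq (D.tr a).left (D.tr a).right (by
      show D.tr a * D.tr a = 1
      rw [← map_mul, ha, map_one]))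
  have hTI : ∀ (x : G) (a b : H), Sing4 (D.tr a) → Sing4 (D.tr b) →
      x * (a : G) * x⁻¹ = b → x ∈ H := fun x a b ha hb h => D.ti ha hb h
  let Z : List Big → Cfsg.IrrCharacter G → ℂ := fun l χ => ∑ s ∈ D.cls l, (χ : G → ℂ) s
  have hsum : ∀ j l, (∀ s ∈ l, s * s = 1) → ∑ χ, (m j χ : ℂ) * Z l χ = 0 := fun j l hl => by
    have h := PairSets.sum_indFun H (D.cls l) (D.cls_sq hl) (D.th j) (hinvol j)
    rw [hm j] at h
    simp only [Finset.sum_apply, Pi.smul_apply, smul_eq_mul] at h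
    rw [Finset.sum_comm] at h
    simpa only [← Finset.mul_sum] using h
  have hpr : ∀ j l l', ∑ s ∈ D.cls l, ∑ t ∈ D.cls l', Cfsg.indFun H (D.th j) (s * t) =
      ∑ χ, (m j χ : ℂ) * (Z l χ * Z l' χ / ((d χ : ℤ) : ℂ)) := fun j l l' => by
    rw [hm j]
    simp only [Finset.sum_apply, Pi.smul_apply, smul_eq_mul]
    simp_rw [Finset.sum_comm (s := D.cls l') (t := Finset.univ)]
    rw [Finset.sum_comm]
    refine Finset.sum_congr rfl fun χ _ => ?_
    simp only [← Finset.mul_sum]
    rw [PairSets.pairs_irr D.cls_conj (D.cls l) χ, hd1]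
    push_cast; rfl
  obtain ⟨nd2, nd6⟩ := invL_nodup
  obtain ⟨ev2, ev6⟩ := inv_ev
  obtain ⟨sq2, sq6⟩ := inv_sq
  have i2 := fun h => (D.cls_inter h).1
  have i6 := fun h => (D.cls_inter h).2
  let Dt : Data (Cfsg.IrrCharacter G) :=
    { d := fun χ => (d χ : ℤ)
      dpos := fun χ => by exact_mod_cast hd χ
      o := o
      d_o := by
        have h := hd1 o
        have h' : (1 : ℂ) = (d o : ℂ) := h
        exact_mod_cast h'.symm
      Z := Z invL₂
      W := Z invL₆
      g := (Nat.card G : ℂ)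
      g0 := hg
      m := m
      hgram := fun j k => by
        have h := PairTrick.classInner_eq_sum (hcl j) (hmχ j) (hmχ k)
        rw [PairTrick.isometry H (S := fun a => Sing4 (D.tr a)) (hthcl k) (D.th_zero j) (D.th_zero k) hTI,
          D.inner_th] at h
        exact_mod_cast h.symm
      hone := fun j => by
        have h := hmχ j o
        rw [show ((o : Cfsg.IrrCharacter G) : G → ℂ) = fun _ => (1 : ℂ) from rfl,
          frobenius_reciprocity _ _ _ (isGeneralized_isClassFunction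
            (isGeneralized_of_isCharacter isCharacter_one)), D.inner_one] at h
        exact_mod_cast h.symm
      hdeg := fun j => by
        have h : Cfsg.indFun H (D.th j) 1 = ∑ χ : Cfsg.IrrCharacter G, (m j χ : ℂ) * (d χ : ℂ) := by
          conv_lhs => rw [hm j]
          simp [Finset.sum_apply, hd1]
        rw [indFun_apply_one, hinvol j 1 (one_mul 1), mul_zero] at h
        unfold OrthoRows.ip
        exact_mod_cast h.symm
      hZ := fun j => hsum j _ sq2
      hW := fun j => hsum j _ sq6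
      h22 := fun j => by
        refine (hpr j invL₂ invL₂).symm.trans ?_
        rw [D.pairs j _ _ nd2 nd2 ev2 ev2 sq2 sq2 i2 i2, (sum_pairs j).1, (sum_pairs j).2.2.2.1]
        push_cast; ring
      h26 := fun j => by
        refine (hpr j invL₂ invL₆).symm.trans ?_
        rw [D.pairs j _ _ nd2 nd6 ev2 ev6 sq2 sq6 i2 i6, (sum_pairs j).2.1, (sum_pairs j).2.2.2.2.1]
        push_cast; ring
      h66 := fun j => by
        refine (hpr j invL₆ invL₆).symm.trans ?_
        rw [D.pairs j _ _ nd6 nd6 ev6 ev6 sq6 sq6 i6 i6, (sum_pairs j).2.2.1, (sum_pairs j).2.2.2.2.2]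
        push_cast; ring }
  obtain ⟨L, hdL, hmL⟩ := four_core Dt
  obtain ⟨lam, hlam⟩ := exists_hom_of_degree_one (irr_isCharacter L.2) (by
    have hdL' : (d L : ℤ) = 1 := hdL
    rw [hd1]; exact_mod_cast hdL')
  refine ⟨lam, ?_⟩
  have h := hmχ 6 L
  rw [frobenius_reciprocity _ _ _ (irr_isClassFunction L.2), hlam,
    show m 6 L = -1 from hmL] at h
  have h' : Cfsg.classInner (D.th 6) (fun a => ((lam.comp H.subtype) a : ℂ)) = -1 :=
    h.trans (by norm_num)
  rcases D.linear_cases (lam.comp H.subtype) with hl | hl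
  · exfalso
    rw [hl] at h'
    have h2 := D.inner_one 6
    rw [show vecOne 6 = 0 from rfl, Int.cast_zero] at h2
    have h3 : (0 : ℂ) = -1 := h2.symm.trans h'
    norm_num at h3
  · exact fun x => DFunLike.congr_fun hl x

end CfsgLib.Recog.AltNine
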