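import Cfsg.Agent.Lib.Recog.AltNine.Sylow
import Cfsg.Agent.Lib.Recog.AltNine.LocalFacts
import Cfsg.Agent.Lib.Recog.AltNine.LocalLinear

/-!
# All centralisers local: the normaliser is the whole group

Either the subgroup of order 27 is strongly closed, and the strongly closed case applies, or an
element outside it is conjugate into it; then two transvections, both in the kernel of the extended
sign, invert a weight three element, which no even element of the normaliser does.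
-/

set_option autoImplicit false
set_option linter.style.haveILetI false
set_option linter.unusedSectionVars false
set_option maxRecDepth 4000

namespace CfsgLib.Recog.AltNine

open CfsgLib.Block CfsgLib.Block.FourCube

set_option synthInstance.maxSize 4096 in
theorem six_conj_mem : ∀ a p, Ev (⟨a, p⟩ : Big) → ∀ z ∈ sixL,
    (⟨a, p⟩ : Big) * z * (⟨a, p⟩ : Big)⁻¹ ∈ sixL := by
  decide +kernel

theorem mem_rotL {g : Big} (h : InJ g) : g.left ∈ rotL :=
  (inJ_rotL g.left).1 (by rwa [← inJ_form h])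

/-- In a finite cyclic group a subgroup is determined by its order. -/
theorem cyclic_subgroup_eq {C : Type*} [Group C] [Finite C] [IsCyclic C] {H K : Subgroup C}
    (h : Nat.card H = Nat.card K) : H = K := by
  let _ : CommGroup C := IsCyclic.commGroup
  have key : ∀ L : Subgroup C, L = (powMonoidHom (Nat.card L) : C →* C).ker := fun L => by
    refine Subgroup.eq_of_le_of_card_ge
      (fun x hx => congrArg Subtype.val (pow_card_eq_one' (x := (⟨x, hx⟩ : L)))) ?_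
    rw [IsCyclic.card_powMonoidHom_ker, Nat.gcd_eq_right (Subgroup.card_subgroup_dvd_card L)]
  rw [key H, key K, h]

universe u

variable {G : Type u} [Group G] [Finite G] {D : Cfg G}

theorem Cfg.conj_mem_J {h j : G} (hh : h ∈ D.H) (hj : j ∈ D.J) : h * j * h⁻¹ ∈ D.J := by
  rw [D.hH] at hh
  exact (Subgroup.mem_normalizer_iff.1 hh j).1 hj

theorem Cfg.el_mem_J {g : Big} (he : Ev g) (h : InJ1 g) : D.el g he ∈ D.J ∧ D.el g he ≠ 1 := by
  refine ⟨(D.mem_J ⟨g, he⟩).2 h.1, fun h1 => h.2 ?_⟩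
  have h2 : D.tr ⟨D.el g he, D.el_mem _ _⟩ = 1 := by
    rw [show (⟨D.el g he, D.el_mem _ _⟩ : D.H) = 1 from Subtype.ext h1, map_one]
  rwa [D.tr_el] at h2

theorem Cfg.tr_inJ1 {j : G} (hj : j ∈ D.J) (hj1 : j ≠ 1) :
    InJ1 (D.tr ⟨j, D.le hj⟩) :=
  ⟨(D.mem_iff ⟨j, D.le hj⟩).1 hj,
    fun h => hj1 (congrArg Subtype.val (D.tr_injective (h.trans (map_one D.tr).symm)))⟩

theorem Cfg.commute_of_tr {a b : D.H} (h : D.tr a * D.tr b = D.tr b * D.tr a) :
    (a : G) * b = b * a :=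
  congrArg Subtype.val (D.tr_injective (a₁ := a * b) (a₂ := b * a) (by rw [map_mul, map_mul, h]))

/-- an element moving a non-trivial element of `J` into `J` normalises it -/
theorem Cfg.ti_J (hloc : D.Local) {g z : G} (hz : z ∈ D.J) (hz1 : z ≠ 1)
    (h : g * z * g⁻¹ ∈ D.J) : g ∈ D.H := by
  have ht1 : g * z * g⁻¹ ≠ 1 := fun e => hz1 (conj_eq_one_iff.1 e)
  refine (D.norms_iff g).1 (D.norms_of_conj_le fun v => hloc _ h ht1 ?_)
  exact Subgroup.mem_centralizer_singleton_iff.2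
    ((D.J_comm (D.pt_mem_J v) hz).map (MulAut.conj g)).eq

theorem Cfg.sing_pow {a : D.H} (ha : Sing4 (D.tr a)) :
    ∃ k : ℕ, (a : G) ^ k ∈ D.J ∧ (a : G) ^ k ≠ 1 := by
  have key : ∀ k : ℕ, InJ1 (D.tr a ^ k) → (a : G) ^ k ∈ D.J ∧ (a : G) ^ k ≠ 1 := fun k hk => by
    rw [← map_pow] at hk
    refine ⟨(D.mem_iff (a ^ k)).mpr hk.1, fun h => hk.2 ?_⟩
    rw [show a ^ k = 1 from Subtype.ext h, map_one]
  rcases ha with h | h | h | h
  · exact ⟨1, key 1 (by rwa [pow_one])⟩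
  · exact ⟨2, key 2 (by rwa [pow_two])⟩
  · exact ⟨3, key 3 (by rwa [pow_succ, pow_two])⟩
  · exact ⟨4, key 4 (by rwa [show 4 = 2 + 2 from rfl, pow_add, pow_two])⟩

/-- the singular elements are trivial intersection -/
theorem Cfg.ti_sing (hloc : D.Local) {x : G} {a b : D.H} (ha : Sing4 (D.tr a))
    (hb : Sing4 (D.tr b)) (h : x * (a : G) * x⁻¹ = b) : x ∈ D.H := by
  haveI : Fact (Nat.Prime 3) := ⟨Nat.prime_three⟩
  obtain ⟨k, hk, hk1⟩ := Cfg.sing_pow ha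
  obtain ⟨l, hl, hl1⟩ := Cfg.sing_pow hb
  refine Cfg.ti_J hloc hk hk1 ?_
  have h3 : ∀ {j : G}, j ∈ D.J → j ≠ 1 → orderOf j = 3 := fun hj hj1 =>
    orderOf_eq_prime (D.J_cube hj) hj1
  have hto : orderOf (x * (a : G) ^ k * x⁻¹) = 3 := by
    rw [← h3 hk hk1]; exact (MulAut.conj x).orderOf_eq _
  have htb : x * (a : G) ^ k * x⁻¹ = (b : G) ^ k := by rw [← conj_pow, h]
  rw [htb] at hto ⊢
  -- the unique subgroup of order three
  set Z := Subgroup.zpowers (b : G)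
  let t : Z := ⟨(b : G) ^ k, pow_mem (Subgroup.mem_zpowers _) k⟩
  let u : Z := ⟨(b : G) ^ l, pow_mem (Subgroup.mem_zpowers _) l⟩
  have ht : t ∈ Subgroup.zpowers u := by
    rw [(show Subgroup.zpowers u = Subgroup.zpowers t from
      cyclic_subgroup_eq (by
        rw [Nat.card_zpowers, Nat.card_zpowers, ← Subgroup.orderOf_coe, ← Subgroup.orderOf_coe]
        exact (h3 hl hl1).trans hto.symm))]
    exact Subgroup.mem_zpowers _
  obtain ⟨i, hi⟩ := Subgroup.mem_zpowers_iff.1 ht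
  rw [show (b : G) ^ k = ((b : G) ^ l) ^ i from (congrArg Subtype.val hi).symm]
  exact zpow_mem hl i

theorem Cfg.threePow_of_pgroup {P : Subgroup G} (hP : IsPGroup 3 P) {y : G} (hy : y ∈ P)
    (hyH : y ∈ D.H) : ThreePow (D.tr ⟨y, hyH⟩) := by
  set h : D.H := ⟨y, hyH⟩
  obtain ⟨k, hk⟩ := hP ⟨y, hy⟩
  have hk' : h ^ 3 ^ k = 1 := Subtype.ext (by
    have := congrArg Subtype.val hk
    simpa using this)
  obtain ⟨i, -, hi⟩ := (Nat.dvd_prime_pow Nat.prime_three).mp (orderOf_dvd_of_pow_eq_one hk')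
  have h648 : orderOf h ∣ 648 := by
    rw [← card_four, Nat.card_congr D.e.toEquiv]
    exact orderOf_dvd_natCard h
  have hi4 : i ≤ 4 := by
    by_contra hc
    have := (pow_dvd_pow 3 (show 5 ≤ i by omega)).trans (hi ▸ h648)
    norm_num at this
  have h81 : h ^ 81 = 1 := orderOf_dvd_iff_pow_eq_one.mp (hi ▸ pow_dvd_pow 3 hi4)
  refine (threePow_pow (D.tr h).left (D.tr h).right).2 (D.tr_ev h) ?_
  show _ = (1 : Big)
  have hc : ∀ g : Big, g * g * g = g ^ 3 := fun g => by rw [pow_succ, pow_two]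
  simp only [hc, ← pow_mul]
  rw [show (⟨(D.tr h).left, (D.tr h).right⟩ : Big) = D.tr h from rfl, ← map_pow, h81, map_one]

/-- the two classes of involutions are not fused -/
theorem Cfg.separated (hloc : D.Local) {s s' : D.H} (hs : D.tr s ∈ invL₂)
    (hs' : D.tr s' ∈ invL₆) (x : G) : x * (s : G) * x⁻¹ ≠ (s' : G) := by
  intro hx
  haveI : Fact (Nat.Prime 3) := ⟨Nat.prime_three⟩
  obtain ⟨z, hz, hzs⟩ := inv₂_six _ hs
  have hz1 : InJ1 z := of_decide_eq_true (List.all_eq_true.mp sixL_ev z hz)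
  obtain ⟨w, hw, hws, hw6, hww6, hcent⟩ := inv₆_cent _ hs'
  have hw1 : InJ1 w := of_decide_eq_true (List.all_eq_true.mp jL_inJ w hw)
  have hze : Ev z := (inJ_ev z.left z.right hz1.1).1
  have hwe : Ev w := (inJ_ev w.left w.right hw1.1).1
  obtain ⟨zJ, zne⟩ := Cfg.el_mem_J (D := D) hze hz1
  obtain ⟨wJ, wne⟩ := Cfg.el_mem_J (D := D) hwe hw1
  set zG := D.el z hze
  set wG := D.el w hwe
  have hzsG : zG * (s : G) = (s : G) * zG :=
    Cfg.commute_of_tr (a := ⟨zG, D.el_mem _ _⟩) (b := s) (by rw [D.tr_el]; exact hzs)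
  have hwsG : wG * (s' : G) = (s' : G) * wG :=
    Cfg.commute_of_tr (a := ⟨wG, D.el_mem _ _⟩) (b := s') (by rw [D.tr_el]; exact hws)
  set C := Subgroup.centralizer ({(s' : G)} : Set G)
  have hwC : wG ∈ C := Subgroup.mem_centralizer_singleton_iff.2 hwsG
  have hqC : x * zG * x⁻¹ ∈ C := by
    refine Subgroup.mem_centralizer_singleton_iff.2 ?_
    rw [← hx]
    exact ((show Commute zG (s : G) from hzsG).map (MulAut.conj x)).eq
  have hpg : ∀ {y : G} (hy : y ∈ C), y ^ 3 = 1 →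
      IsPGroup 3 (Subgroup.zpowers (⟨y, hy⟩ : C)) := fun {y} hy h3 => by
    obtain ⟨k, -, hk⟩ := (Nat.dvd_prime_pow Nat.prime_three).mp
      (orderOf_dvd_of_pow_eq_one (show (⟨y, hy⟩ : C) ^ (3 ^ 1) = 1 from Subtype.ext (by
        simpa using h3)))
    exact IsPGroup.of_card (n := k) (by rw [Nat.card_zpowers, hk])
  obtain ⟨P, hP⟩ := (hpg hwC (D.J_cube wJ)).exists_le_sylow
  obtain ⟨P', hP'⟩ := (hpg hqC (by rw [conj_pow, D.J_cube zJ, mul_one, mul_inv_cancel]))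
    |>.exists_le_sylow
  set Q : Subgroup G := (P : Subgroup C).map C.subtype with hQ
  have hQp : IsPGroup 3 Q := P.isPGroup'.map _
  have hwQ : wG ∈ Q := ⟨⟨wG, hwC⟩, hP (Subgroup.mem_zpowers _), rfl⟩
  have hWJ : Subgroup.zpowers wG ≤ D.J := Subgroup.zpowers_le.2 wJ
  -- the part of the Sylow subgroup inside the normaliser
  have hQH : ∀ y ∈ Q, y ∈ D.H → y ∈ Subgroup.zpowers wG := by
    intro y hy hyH
    have hys : y * (s' : G) = (s' : G) * y := by
      obtain ⟨c, -, rfl⟩ := hy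
      exact Subgroup.mem_centralizer_singleton_iff.1 c.2
    have hys' : D.tr ⟨y, hyH⟩ * D.tr s' = D.tr s' * D.tr ⟨y, hyH⟩ := by
      rw [← map_mul, ← map_mul]
      exact congrArg _ (Subtype.ext hys)
    have hI : InJ (D.tr ⟨y, hyH⟩) := inv₆_three _ hs' _ _ (D.tr_ev _) hys'
      (Cfg.threePow_of_pgroup hQp hy hyH)
    have h := hcent (D.tr ⟨y, hyH⟩).left (by rwa [← inJ_form hI]) (by rwa [← inJ_form hI])
    rw [← inJ_form hI] at h
    rcases h with h | h | h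
    · rw [show y = 1 from congrArg Subtype.val (D.tr_injective (h.trans (map_one D.tr).symm))]
      exact one_mem _
    · rw [show y = wG from congrArg Subtype.val (D.tr_injective (a₁ := ⟨y, hyH⟩)
        (a₂ := ⟨wG, D.el_mem _ _⟩) (h.trans (D.tr_el w _ _).symm))]
      exact Subgroup.mem_zpowers _
    · rw [show y = wG * wG from congrArg Subtype.val (D.tr_injective (a₁ := ⟨y, hyH⟩)
        (a₂ := ⟨wG, D.el_mem _ _⟩ * ⟨wG, D.el_mem _ _⟩) (by rw [map_mul, D.tr_el]; exact h))]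
      exact mul_mem (Subgroup.mem_zpowers _) (Subgroup.mem_zpowers _)
  have hQW : Q ≤ Subgroup.zpowers wG := by
    haveI := hQp.isNilpotent
    have htop : (Subgroup.zpowers wG).subgroupOf Q = ⊤ := by
      by_contra hne
      obtain ⟨y, hy, hy'⟩ := SetLike.exists_of_lt
        (Group.normalizerCondition_of_isNilpotent _ (lt_top_iff_ne_top.mpr hne))
      refine hy' (Subgroup.mem_subgroupOf.2 (hQH _ y.2 (Cfg.ti_J hloc wJ wne (hWJ ?_))))
      exact Subgroup.mem_subgroupOf.1 ((Subgroup.mem_normalizer_iff.1 hy ⟨wG, hwQ⟩).1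
        (Subgroup.mem_subgroupOf.2 (Subgroup.mem_zpowers _)))
    exact Subgroup.subgroupOf_eq_top.1 htop
  obtain ⟨c, hc⟩ := MulAction.exists_smul_eq C P' P
  have hq : (c : G) * (x * zG * x⁻¹) * (c : G)⁻¹ ∈ Subgroup.zpowers wG := by
    refine hQW ⟨c * ⟨_, hqC⟩ * c⁻¹, ?_, rfl⟩
    rw [← hc]
    exact Subgroup.smul_mem_pointwise_smul _ (MulAut.conj c) _ (hP' (Subgroup.mem_zpowers _))
  rw [show (c : G) * (x * zG * x⁻¹) * (c : G)⁻¹ = ((c : G) * x) * zG * ((c : G) * x)⁻¹ by group]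
    at hq
  have hg : (c : G) * x ∈ D.H := Cfg.ti_J hloc zJ zne (hWJ hq)
  set g : D.H := ⟨(c : G) * x, hg⟩
  have h6 : D.tr (g * ⟨zG, D.el_mem _ _⟩ * g⁻¹) ∈ sixL := by
    rw [map_mul, map_mul, map_inv, D.tr_el]
    exact six_conj_mem _ _ (D.tr_ev g) z hz
  have hqs : ((c : G) * x) * zG * ((c : G) * x)⁻¹ * (s' : G) =
      (s' : G) * (((c : G) * x) * zG * ((c : G) * x)⁻¹) := by
    have e1 : ((c : G) * x) * (s : G) * ((c : G) * x)⁻¹ = (s' : G) := by
      rw [show ((c : G) * x) * (s : G) * ((c : G) * x)⁻¹ = (c : G) * (x * (s : G) * x⁻¹) * (c : G)⁻¹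
        by group, hx, Subgroup.mem_centralizer_singleton_iff.1 c.2, mul_inv_cancel_right]
    rw [← e1]
    exact ((show Commute zG (s : G) from hzsG).map (MulAut.conj _)).eq
  have hqJ : (((g * ⟨zG, D.el_mem _ _⟩ * g⁻¹ : D.H)) : G) ∈ D.J := hWJ hq
  have hqI := (D.mem_iff _).1 hqJ
  have h := hcent (D.tr (g * ⟨zG, D.el_mem _ _⟩ * g⁻¹)).left (by rwa [← inJ_form hqI]) (by
    rw [← inJ_form hqI, ← map_mul, ← map_mul]
    exact congrArg _ (Subtype.ext hqs))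
  rw [← inJ_form hqI] at h
  rcases h with h | h | h
  · exact zne (conj_eq_one_iff.1 (congrArg Subtype.val (D.tr_injective (h.trans (map_one D.tr).symm))))
  · exact hw6 (h ▸ h6)
  · exact hww6 (h ▸ h6)

/-- the hypotheses of the character argument -/
noncomputable def Cfg.toLoc (D : Cfg G) (hloc : D.Local) : Loc D.H where
  e := D.e
  ti := fun ha hb h => Cfg.ti_sing (D := D) hloc ha hb h
  separated := fun hs hs' x => Cfg.separated (D := D) hloc hs hs' x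

theorem eps_tr_toLoc (hloc : D.Local) (h : D.H) :
    ((D.toLoc hloc).epsH h : ℂ) = (epsP (D.tr h) : ℂ) := rfl

/-- an element centralised by something in `J` outside `J` -/
theorem Cfg.out_data {y c : D.H} (hy3 : (y : G) * y * y = 1) (hy : (y : G) ∉ D.J)
    (hc : (c : G) ∈ D.J) (hc1 : (c : G) ≠ 1) (hcy : (c : G) * y = y * c) :
    Full (D.tr c) ∧ ∃ d ∈ D.J, d * (y : G) * d⁻¹ = (y : G) * c := by
  have hI := Cfg.tr_inJ1 hc hc1
  have h3 : D.tr y * D.tr y * D.tr y = 1 := by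
    rw [← map_mul, ← map_mul, ← map_one D.tr]
    exact congrArg _ (Subtype.ext hy3)
  have hcomm : D.tr c * D.tr y = D.tr y * D.tr c := by
    rw [← map_mul, ← map_mul]
    exact congrArg _ (Subtype.ext hcy)
  obtain ⟨hF, d, hd, hde⟩ := out_cent (D.tr y).left (D.tr y).right h3 (D.tr_ev y)
    (fun h => hy ((D.mem_iff y).2 h)) (D.tr c).left (mem_rotL hI.1)
    (by rwa [← inJ_form hI.1]) (by rwa [← inJ_form hI.1])
  rw [← inJ_form hI.1] at hF hde
  have hdI : InJ (⟨d, 1⟩ : Big) := (inJ_rotL d).2 hd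
  have hdev : Ev (⟨d, 1⟩ : Big) := (inJ_ev _ _ hdI).1
  refine ⟨hF, D.el _ hdev, (D.mem_J _).2 hdI, mul_inv_eq_iff_eq_mul.2 ?_⟩
  have e : (⟨D.el _ hdev, D.el_mem _ _⟩ : D.H) * y = y * c * ⟨D.el _ hdev, D.el_mem _ _⟩ :=
    D.tr_injective (by rw [map_mul, map_mul, map_mul, D.tr_el]; exact hde)
  exact congrArg Subtype.val e

/-- **All centralisers local.** -/
theorem Cfg.eq_top_of_local (D : Cfg G) (hloc : D.Local) : D.H = ⊤ := by
  classical
  cases nonempty_fintype G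
  by_cases hcl : Cfsg.IsStronglyClosed D.J D.H
  · exact FourCube.eq_top ⟨D.e, D.mem_J, hloc, hcl⟩
  exfalso
  obtain ⟨lam, hlam⟩ := (D.toLoc hloc).exists_linear
  have heps : ∀ h : D.H, lam h = 1 ↔ ThreeCube.dsgn (D.tr h).right = 1 := fun h => by
    rw [hlam h, Units.ext_iff, eps_tr_toLoc, Units.val_one, Int.cast_eq_one]
    rfl
  have hJlam : ∀ j ∈ D.J, lam j = 1 := fun j hj => (heps ⟨j, D.le hj⟩).2
    (inJ_ev _ _ ((D.mem_iff ⟨j, D.le hj⟩).1 hj)).2
  simp only [Cfsg.IsStronglyClosed, not_and, not_forall] at hcl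
  obtain ⟨j, hj, g, hyH, hyJ⟩ := hcl D.le
  set yG := g * j * g⁻¹ with hyG
  have hj1 : j ≠ 1 := fun e => hyJ (by rw [hyG, e, mul_one, mul_inv_cancel]; exact one_mem _)
  have hgH : g ∉ D.H := fun h => hyJ (Cfg.conj_mem_J h hj)
  have hy3 : yG * yG * yG = 1 := by
    rw [← pow_two, ← pow_succ, hyG, conj_pow, D.J_cube hj, mul_one, mul_inv_cancel]
  set y : D.H := ⟨yG, hyH⟩
  have hy3' : D.tr y * D.tr y * D.tr y = 1 := by
    rw [← map_mul, ← map_mul, ← map_one D.tr]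
    exact congrArg _ (Subtype.ext hy3)
  obtain ⟨c, hc, hcy⟩ := three_cent (D.tr y).left (D.tr y).right (D.tr_ev y)
    ((threePow_pow _ _).1 hy3')
  have hcI : InJ1 c := of_decide_eq_true (List.all_eq_true.mp jL_inJ c hc)
  have hce : Ev c := (inJ_ev c.left c.right hcI.1).1
  obtain ⟨cJ, cne⟩ := Cfg.el_mem_J (D := D) hce hcI
  set x₂ := D.el c hce with hx₂
  have hxy : x₂ * yG = yG * x₂ :=
    Cfg.commute_of_tr (a := ⟨x₂, D.el_mem _ _⟩) (b := y) (by rw [D.tr_el]; exact hcy)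
  -- the preimage of the centralising element
  set zG := g⁻¹ * x₂ * g with hzG
  have hgz : g * zG * g⁻¹ = x₂ := by rw [hzG]; group
  have hzj : j * zG = zG * j := by
    have h := ((show Commute x₂ yG from hxy).map (MulAut.conj g⁻¹)).eq
    simp only [MulAut.conj_apply, inv_inv, hyG] at h
    rw [show g⁻¹ * (g * j * g⁻¹) * g = j by group] at h
    exact h.symm
  have hzH : zG ∈ D.H := hloc j hj hj1 (Subgroup.mem_centralizer_singleton_iff.2 hzj.symm)
  have hz1 : zG ≠ 1 := fun e => cne (by rw [← hgz, e, mul_one, mul_inv_cancel])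
  have hzJ : zG ∉ D.J := fun h => hgH (Cfg.ti_J hloc h hz1 (hgz ▸ cJ))
  have hz3 : zG * zG * zG = 1 := by
    rw [← pow_two, ← pow_succ, hzG, show g⁻¹ * x₂ * g = g⁻¹ * x₂ * g⁻¹⁻¹ by rw [inv_inv], conj_pow,
      D.J_cube cJ, mul_one, mul_inv_cancel]
  obtain ⟨hFull, d₂, hd₂, he₂⟩ := Cfg.out_data (y := y) (c := ⟨x₂, D.el_mem _ _⟩) hy3 hyJ cJ cne hxy
  obtain ⟨-, d₁, hd₁, he₁⟩ := Cfg.out_data (y := ⟨zG, hzH⟩) (c := ⟨j, D.le hj⟩) hz3 hzJ hj hj1 hzj
  replace he₂ : d₂ * yG * d₂⁻¹ = yG * x₂ := he₂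
  replace he₁ : d₁ * zG * d₁⁻¹ = zG * j := he₁
  have hd₂x : d₂ * x₂ * d₂⁻¹ = x₂ := by rw [(D.J_comm hd₂ cJ).eq, mul_inv_cancel_right]
  have hd₁j : d₁ * j * d₁⁻¹ = j := by rw [(D.J_comm hd₁ hj).eq, mul_inv_cancel_right]
  set d' := g * d₁ * g⁻¹ with hd'
  have hd'x : d' * x₂ * d'⁻¹ = x₂ * yG := by
    calc d' * x₂ * d'⁻¹ = g * (d₁ * zG * d₁⁻¹) * g⁻¹ := by rw [← hgz, hd']; group
      _ = x₂ * yG := by rw [he₁, ← hgz, hyG]; group
  have hd'y : d' * yG * d'⁻¹ = yG := by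
    calc d' * yG * d'⁻¹ = g * (d₁ * j * d₁⁻¹) * g⁻¹ := by rw [hd', hyG]; group
      _ = yG := by rw [hd₁j, hyG]
  set m := d' * d₂ * d' with hm
  have hmx : m * x₂ * m⁻¹ = x₂ * x₂ := by
    have hs1 : d₂ * (x₂ * yG) * d₂⁻¹ = x₂ * x₂ * yG := by
      calc d₂ * (x₂ * yG) * d₂⁻¹ = (d₂ * x₂ * d₂⁻¹) * (d₂ * yG * d₂⁻¹) := by group
        _ = x₂ * x₂ * yG := by rw [hd₂x, he₂, ← hxy, mul_assoc]
    calc m * x₂ * m⁻¹ = d' * (d₂ * (d' * x₂ * d'⁻¹) * d₂⁻¹) * d'⁻¹ := by rw [hm]; group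
      _ = d' * (x₂ * x₂ * yG) * d'⁻¹ := by rw [hd'x, hs1]
      _ = (d' * x₂ * d'⁻¹) * (d' * x₂ * d'⁻¹) * (d' * yG * d'⁻¹) := by group
      _ = x₂ * yG * (x₂ * yG) * yG := by rw [hd'x, hd'y]
      _ = x₂ * (yG * x₂) * (yG * yG) := by group
      _ = x₂ * (x₂ * yG) * (yG * yG) := by rw [hxy]
      _ = x₂ * x₂ * (yG * yG * yG) := by group
      _ = x₂ * x₂ := by rw [hy3, mul_one]
  have hmH : m ∈ D.H := Cfg.ti_J hloc cJ cne (hmx ▸ mul_mem cJ cJ)
  have hmlam : lam m = 1 := by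
    rw [hm, hd', map_mul, map_mul, map_mul, map_mul, map_inv, hJlam d₁ hd₁, hJlam d₂ hd₂, mul_one,
      mul_one, mul_inv_cancel, one_mul]
  have hsgn := (heps ⟨m, hmH⟩).1 hmlam
  refine no_invert (D.tr ⟨m, hmH⟩).left (D.tr ⟨m, hmH⟩).right (D.tr_ev _) hsgn c.left
    (mem_rotL hcI.1) ?_ ?_
  · rw [← inJ_form hcI.1]
    simpa only [hx₂, D.tr_el] using hFull
  · rw [← inJ_form hcI.1]
    have e : (⟨m, hmH⟩ : D.H) * ⟨x₂, D.el_mem _ _⟩ =
        ⟨x₂, D.el_mem _ _⟩ * ⟨x₂, D.el_mem _ _⟩ * ⟨m, hmH⟩ :=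
      Subtype.ext (mul_inv_eq_iff_eq_mul.1 hmx)
    have e' := congrArg D.tr e
    rw [map_mul, map_mul, map_mul, D.tr_el c hce] at e'
    exact e'

end CfsgLib.Recog.AltNine
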