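import Cfsg.Agent.Lib.Recog.AltNine.Sylow
import Cfsg.Agent.Lib.Recog.AltNine.CoreQuot
import Cfsg.Agent.Lib.Recog.AltNine.FarSylow
import Cfsg.Agent.Lib.Coprime.Generation
import Cfsg.Agent.Lib.Recog.SymNine.Setup

/-!
# The centralisers of the elements of weight at least two normalise `J`, and the cube
-/

set_option autoImplicit false
set_option maxRecDepth 4000

namespace CfsgLib.Recog.AltNine

open CfsgLib.Block CfsgLib.Block.FourCube
open CfsgLib.Recog.SymNine (V Mon act comp monOne x0 e0 e1 e2 Acts Norms scal weight act_comp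
  act_one act_add Cube)

/-- a weight two vector -/
abbrev vv : V := (1, 1, 0)
/-- the direction with the larger centraliser -/
abbrev aa : V := (1, 2, 0)
/-- the monomial map fixing `vv` -/
abbrev τm : Mon := (3, false, false, true)

theorem stab_vv : ∀ m : Mon, detX m = true → act m vv = vv → m = monOne ∨ m = τm := by
  decide +kernel

theorem tau_inv : ∀ u : V, act τm u = -u + scal (u.1 + u.2.1) vv := by decide +kernel

theorem tau_third : ∀ (u : V) (k : ZMod 3), u.2.2 ≠ 0 → act τm u ≠ u + scal k vv := by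
  decide +kernel

theorem span_aa : ∀ u : V, u.2.2 = 0 → ∃ i j : ZMod 3, u = scal i aa + scal j vv := by
  decide +kernel

theorem weight_three_in_plane : ∀ u : V, u.2.2 ≠ 0 →
    ∃ i j : ZMod 3, weight (scal i u + scal j vv) = 3 := by decide +kernel

theorem orbit_x0 : ∀ w : V, weight w = 3 → ∃ m : Mon, detX m = true ∧ act m x0 = w := by
  decide +kernel

theorem orbit_vv : ∀ w : V, weight w = 2 → ∃ m : Mon, detX m = true ∧ act m vv = w := by
  decide +kernel

theorem weight_le : ∀ w : V, 2 ≤ weight w → weight w = 2 ∨ weight w = 3 := by decide +kernel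

theorem plane_two : ∀ i j : ZMod 3, scal i x0 + scal j ((1, 2, 0) : V) ≠ 0 →
    2 ≤ weight (scal i x0 + scal j ((1, 2, 0) : V)) := by decide +kernel

theorem plane_inj : ∀ i j i' j' : ZMod 3,
    scal i x0 + scal j ((1, 2, 0) : V) = scal i' x0 + scal j' ((1, 2, 0) : V) → i = i' ∧ j = j' := by
  decide +kernel

theorem plane_add : ∀ i j i' j' : ZMod 3,
    scal (i + i') x0 + scal (j + j') ((1, 2, 0) : V) =
      scal i x0 + scal j (1, 2, 0) + (scal i' x0 + scal j' (1, 2, 0)) := by decide +kernel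

theorem plane_neg : ∀ i j : ZMod 3,
    scal (-i) x0 + scal (-j) ((1, 2, 0) : V) = -(scal i x0 + scal j (1, 2, 0)) := by decide +kernel

theorem plane_zero : scal 0 x0 + scal 0 ((1, 2, 0) : V) = 0 := by decide +kernel

theorem inv_shift : ∀ (v : V) (k : ZMod 3), -(-v + scal k vv) + -v = scal (-k) vv := by
  decide +kernel

theorem sub_shift : ∀ (u : V) (k : ZMod 3), u + -scal k vv = u + scal (-k) vv := by decide +kernel

theorem scal_pow : ∀ (k : ZMod 3) (v : V), scal k v = k.val • v := by decide +kernel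

universe u

variable {G : Type u} [Group G] (D : Cfg G)

theorem Cfg.pt_zero : D.pt 0 = 1 := by
  have h := D.pt_add 0 0
  rw [add_zero] at h
  exact left_eq_mul.1 h

theorem Cfg.pt_neg (v : V) : D.pt (-v) = (D.pt v)⁻¹ :=
  eq_inv_of_mul_eq_one_left (by rw [← D.pt_add, neg_add_cancel, D.pt_zero])

theorem Cfg.commute_pt (v w : V) : Commute (D.pt v) (D.pt w) := by
  rw [Commute, SemiconjBy, ← D.pt_add, ← D.pt_add, add_comm]

theorem Cfg.pt_nsmul (n : ℕ) (v : V) : D.pt (n • v) = D.pt v ^ n := by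
  induction n with
  | zero => rw [zero_smul, D.pt_zero, pow_zero]
  | succ n ih => rw [succ_nsmul, D.pt_add, ih, pow_succ]

theorem Cfg.commute_scal {g : G} {v : V} (h : Commute g (D.pt v)) (k : ZMod 3) :
    Commute g (D.pt (scal k v)) := by
  rw [scal_pow, D.pt_nsmul]; exact h.pow_right _

theorem Cfg.commute_comb {g : G} {v w : V} (hv : Commute g (D.pt v)) (hw : Commute g (D.pt w))
    (i j : ZMod 3) : Commute g (D.pt (scal i v + scal j w)) := by
  rw [D.pt_add]; exact (D.commute_scal hv i).mul_right (D.commute_scal hw j)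

theorem Cfg.norms_orbit [Finite G] {w₀ w : V} {m : Mon} (hm : detX m = true) (hw : act m w₀ = w)
    (h₀ : ∀ g, Commute g (D.pt w₀) → Norms D.pt g) {g : G} (hg : Commute g (D.pt w)) :
    Norms D.pt g := by
  obtain ⟨h, hh⟩ := D.exists_lift m hm
  have hhH : h ∈ D.H := (D.norms_iff h).1 fun v => ⟨_, hh v⟩
  have hc : Commute (h⁻¹ * g * h) (D.pt w₀) := by
    show h⁻¹ * g * h * D.pt w₀ = D.pt w₀ * (h⁻¹ * g * h)
    calc h⁻¹ * g * h * D.pt w₀ = h⁻¹ * g * (h * D.pt w₀ * h⁻¹) * h := by group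
      _ = h⁻¹ * (g * D.pt w) * h := by rw [hh, hw]; group
      _ = h⁻¹ * (D.pt w * g) * h := by rw [hg.eq]
      _ = h⁻¹ * (h * D.pt w₀ * h⁻¹ * g) * h := by rw [hh, hw]
      _ = _ := by group
  have := D.H.mul_mem (D.H.mul_mem hhH ((D.norms_iff _).1 (h₀ _ hc))) (D.H.inv_mem hhH)
  exact (D.norms_iff g).2 (by simpa [mul_assoc] using this)

theorem Cfg.norms_of_weight_three [Finite G] {w : V} (hw : weight w = 3) {g : G}
    (hg : Commute g (D.pt w)) : Norms D.pt g := by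
  obtain ⟨m, hm, hmw⟩ := orbit_x0 w hw
  exact D.norms_orbit hm hmw (fun g hg => D.norms_of_commute_x hg) hg

theorem Cfg.mon_fix {h : D.H} {v : V} (hc : Commute (h : G) (D.pt v)) : act (D.mon h) v = v :=
  D.pt_inj (by rw [← D.acts_mon h v, hc.eq, mul_inv_cancel_right])

theorem Cfg.commute_of_one {g : G} (hg : g ∈ D.J) (v : V) : Commute g (D.pt v) :=
  D.J_comm hg (D.pt_mem_J v)

/-- the centraliser of a plane through `vv` off the special line is `J` -/
theorem Cfg.mem_of_plane [Finite G] {u : V} (hu : u.2.2 ≠ 0) {g : G} (hv : Commute g (D.pt vv))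
    (hg : Commute g (D.pt u)) : g ∈ D.J := by
  obtain ⟨i, j, hij⟩ := weight_three_in_plane u hu
  have hH : g ∈ D.H := (D.norms_iff g).1 (D.norms_of_weight_three hij (D.commute_comb hg hv i j))
  rcases stab_vv _ (D.mon_detX ⟨g, hH⟩) (D.mon_fix hv) with h | h
  · exact D.mem_of_mon (h := ⟨g, hH⟩) h
  · exfalso
    refine tau_third u 0 hu ?_
    have := D.mon_fix (h := ⟨g, hH⟩) hg
    rw [h] at this
    rw [this, show scal 0 vv = 0 by decide +kernel, add_zero]

/-- the centraliser of a weight two element normalises `J` -/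
theorem Cfg.norms_of_commute_vv [Finite G] {g₀ : G} (hg₀ : Commute g₀ (D.pt vv)) :
    Norms D.pt g₀ := by
  classical
  have : Fact (Nat.Prime 3) := ⟨Nat.prime_three⟩
  set M := Subgroup.centralizer ({D.pt vv} : Set G) with hM
  have memM : ∀ {g}, g ∈ M ↔ Commute g (D.pt vv) := fun {g} =>
    Subgroup.mem_centralizer_singleton_iff
  have hJM : D.J ≤ M := fun j hj => memM.2 (D.commute_of_one hj vv)
  set Z : Subgroup M := (Subgroup.zpowers (D.pt vv)).subgroupOf M with hZ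
  have memZ : ∀ {z : M}, z ∈ Z ↔ ∃ k : ZMod 3, (z : G) = D.pt (scal k vv) := by
    intro z
    rw [hZ, Subgroup.mem_subgroupOf, ← mem_powers_iff_mem_zpowers]
    constructor
    · rintro ⟨n, hn⟩
      refine ⟨(n : ZMod 3), ?_⟩
      rw [scal_pow, D.pt_nsmul, ZMod.val_natCast, ← hn]
      exact pow_eq_pow_mod n (D.J_cube (D.pt_mem_J vv))
    · rintro ⟨k, hk⟩
      exact ⟨k.val, by rw [hk, scal_pow, D.pt_nsmul]⟩
  have hZc : Z ≤ Subgroup.center M := fun z hz => Subgroup.mem_center_iff.2 fun m => by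
    obtain ⟨k, hk⟩ := memZ.1 hz
    exact Subtype.ext (by
      show (m : G) * z = z * m
      rw [hk, (D.commute_scal (memM.1 m.2) k).eq])
  have : Z.Normal := ⟨fun z hz m => by
    rw [Subgroup.mem_center_iff.1 (hZc hz) m, mul_inv_cancel_right]; exact hz⟩
  have hvvM : D.pt vv ∈ M := hJM (D.pt_mem_J vv)
  have hZcard : Nat.card Z = 3 := by
    rw [Nat.card_congr (Subgroup.subgroupOfEquivOfLe (Subgroup.zpowers_le.2 hvvM)).toEquiv,
      Nat.card_zpowers, D.orderOf_pt (by decide)]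
  let q := QuotientGroup.mk' Z
  have qeq : ∀ {x y : M}, q x = q y → ∃ k : ZMod 3, (y : G) = (x : G) * D.pt (scal k vv) := by
    intro x y h
    obtain ⟨k, hk⟩ := memZ.1 (QuotientGroup.eq.1 h)
    exact ⟨k, by rw [← hk]; simp⟩
  let T₀ : Subgroup (M ⧸ Z) := (D.J.subgroupOf M).map q
  let pM : V → M := fun v => ⟨D.pt v, hJM (D.pt_mem_J v)⟩
  have hpT : ∀ v, q (pM v) ∈ T₀ := fun v =>
    ⟨pM v, Subgroup.mem_subgroupOf.2 (D.pt_mem_J v), rfl⟩
  have mem_T₀ : ∀ {s}, s ∈ T₀ → ∃ v, q (pM v) = s := by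
    rintro _ ⟨x, hx, rfl⟩
    obtain ⟨v, hv⟩ := D.exists_pt (Subgroup.mem_subgroupOf.1 hx)
    exact ⟨v, congrArg q (Subtype.ext hv)⟩
  have mem_J_of_q : ∀ {g : M}, q g ∈ T₀ → (g : G) ∈ D.J := by
    intro g hg
    obtain ⟨v, hv⟩ := mem_T₀ hg
    obtain ⟨k, hk⟩ := qeq hv
    rw [hk]
    exact D.J.mul_mem (D.pt_mem_J v) (D.pt_mem_J _)
  have hcard : Nat.card T₀ = 9 := by
    let f : D.J.subgroupOf M →* M ⧸ Z := q.comp (D.J.subgroupOf M).subtype
    have hr : f.range = T₀ := by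
      rw [MonoidHom.range_comp, Subgroup.range_subtype]
    have hk : Nat.card f.ker = 3 := by
      rw [← hZcard]
      refine Nat.card_congr ⟨fun x => ⟨(x.1 : M), (QuotientGroup.eq_one_iff _).1 x.2⟩,
        fun z => ⟨⟨z, ?_⟩, (QuotientGroup.eq_one_iff (z : M)).2 z.2⟩, fun x => rfl, fun z => rfl⟩
      obtain ⟨k, hk⟩ := memZ.1 z.2
      exact Subgroup.mem_subgroupOf.2 (hk ▸ D.pt_mem_J _)
    have h := Subgroup.card_mul_index f.ker
    rw [Subgroup.index_ker, hr, hk, Nat.card_congr (Subgroup.subgroupOfEquivOfLe hJM).toEquiv,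
      D.card_J] at h
    omega
  have hT₀p : IsPGroup 3 T₀ := IsPGroup.of_card (n := 2) (by rw [hcard]; norm_num)
  -- elements of the normaliser in `M`
  have monM : ∀ {g : M} (hg : (g : G) ∈ D.H), D.mon ⟨g, hg⟩ = monOne ∨ D.mon ⟨g, hg⟩ = τm :=
    fun {g} hg => stab_vv _ (D.mon_detX _) (D.mon_fix (memM.1 g.2))
  obtain ⟨T, hT⟩ := hT₀p.exists_le_sylow
  have hTeq : (T : Subgroup (M ⧸ Z)) = T₀ := by
    refine le_antisymm (fun s hs => ?_) hT
    obtain ⟨g, rfl⟩ := QuotientGroup.mk'_surjective Z s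
    have hp : IsPGroup 3 ((T : Subgroup (M ⧸ Z)).comap q) :=
      T.isPGroup'.comap_of_ker_isPGroup q (by
        rw [QuotientGroup.ker_mk']
        exact IsPGroup.of_card (n := 1) (by rw [hZcard]; norm_num))
    have hle := D.le_of_three_group _ (hp.map M.subtype) fun j hj =>
      ⟨⟨j, hJM hj⟩, hT ⟨_, Subgroup.mem_subgroupOf.2 hj, rfl⟩, rfl⟩
    have hgH : (g : G) ∈ D.H := hle ⟨g, hs, rfl⟩
    refine ⟨g, Subgroup.mem_subgroupOf.2 ?_, rfl⟩
    rcases monM hgH with h | h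
    · exact D.mem_of_mon (h := ⟨g, hgH⟩) h
    · exfalso
      obtain ⟨n, hn⟩ := hp ⟨g, hs⟩
      have hn' : (⟨g, hgH⟩ : D.H) ^ 3 ^ n = 1 :=
        Subtype.ext (congrArg (fun x : (T : Subgroup (M ⧸ Z)).comap q => ((x : M) : G)) hn)
      obtain ⟨r, hr⟩ : Odd (3 ^ n) := Odd.pow (by decide)
      have hodd : ∀ r, D.mon ((⟨g, hgH⟩ : D.H) ^ (2 * r + 1)) = τm := fun r => by
        induction r with
        | zero => rw [mul_zero, zero_add, pow_one]; exact h
        | succ r ih =>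
          rw [show 2 * (r + 1) + 1 = 2 * r + 1 + 1 + 1 by ring, pow_succ, pow_succ, D.mon_mul,
            D.mon_mul, ih, h]
          decide +kernel
      have h1 := hodd r
      rw [← hr, hn', D.mon_one] at h1
      exact absurd h1 (by decide +kernel)
  have hcube : ∀ s ∈ (T : Subgroup (M ⧸ Z)), s ^ 3 = 1 := by
    intro s hs
    obtain ⟨v, rfl⟩ := mem_T₀ (hTeq.le hs)
    rw [← map_pow, show pM v ^ 3 = 1 from Subtype.ext (D.J_cube (D.pt_mem_J v)), map_one]
  obtain ⟨t₀, ht₀⟩ := D.exists_lift τm (by decide +kernel)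
  have ht₀H : t₀ ∈ D.H := (D.norms_iff t₀).1 fun v => ⟨_, ht₀ v⟩
  have ht₀M : t₀ ∈ M := memM.2 (mul_inv_eq_iff_eq_mul.1 (by
    rw [ht₀ vv, show act τm vv = vv by decide +kernel]))
  set tq := q ⟨t₀, ht₀M⟩ with htq
  have hN_iff : ∀ g : M, q g ∈ Subgroup.normalizer ((T : Subgroup (M ⧸ Z)) : Set (M ⧸ Z)) ↔
      (g : G) ∈ D.H := by
    intro g
    constructor
    · intro h
      refine (D.norms_iff _).1 fun v => ?_
      have hJg : ((g * pM v * g⁻¹ : M) : G) ∈ D.J := mem_J_of_q (by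
        rw [← hTeq, map_mul, map_mul, map_inv]
        exact (Subgroup.mem_normalizer_iff.1 h _).1 (hT (hpT v)))
      obtain ⟨w, hw⟩ := D.exists_pt hJg
      exact ⟨w, hw.symm⟩
    · intro h
      refine Subgroup.mem_normalizer_fintype fun s hs => ?_
      obtain ⟨v, rfl⟩ := mem_T₀ (hTeq.le hs)
      rw [SetLike.mem_coe, hTeq]
      refine ⟨g * pM v * g⁻¹, Subgroup.mem_subgroupOf.2 ?_, by simp only [map_mul, map_inv]⟩
      show (g : G) * D.pt v * (g : G)⁻¹ ∈ D.J
      rw [D.acts_mon ⟨g, h⟩]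
      exact D.pt_mem_J _
  have htinv : ∀ s ∈ (T : Subgroup (M ⧸ Z)), tq * s * tq⁻¹ = s⁻¹ := by
    intro s hs
    obtain ⟨v, rfl⟩ := mem_T₀ (hTeq.le hs)
    rw [htq, ← map_inv, ← map_mul, ← map_mul, ← map_inv]
    refine QuotientGroup.eq.2 (memZ.2 ⟨-(v.1 + v.2.1), ?_⟩)
    show (t₀ * D.pt v * t₀⁻¹)⁻¹ * (D.pt v)⁻¹ = _
    rw [ht₀ v, tau_inv, ← D.pt_neg, ← D.pt_neg, ← D.pt_add]
    congr 1
    exact inv_shift v _
  have htT : tq ∉ (T : Subgroup (M ⧸ Z)) := by
    intro h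
    have h1 : D.mon ⟨t₀, ht₀H⟩ = monOne := by
      refine D.mon_eq fun v => ?_
      rw [act_one]
      exact mul_inv_eq_iff_eq_mul.2 ((D.commute_of_one (mem_J_of_q (hTeq.le h)) v).eq)
    rw [D.mon_eq (h := ⟨t₀, ht₀H⟩) ht₀] at h1
    exact absurd h1 (by decide +kernel)
  have htN : tq ∈ Subgroup.normalizer ((T : Subgroup (M ⧸ Z)) : Set (M ⧸ Z)) := (hN_iff _).2 ht₀H
  have hN18 : Nat.card (Subgroup.normalizer ((T : Subgroup (M ⧸ Z)) : Set (M ⧸ Z))) = 18 := by
    set N := Subgroup.normalizer ((T : Subgroup (M ⧸ Z)) : Set (M ⧸ Z)) with hNdef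
    have hle : (T : Subgroup (M ⧸ Z)) ≤ N := Subgroup.le_normalizer
    have h := Subgroup.card_mul_index ((T : Subgroup (M ⧸ Z)).subgroupOf N)
    rw [Nat.card_congr (Subgroup.subgroupOfEquivOfLe hle).toEquiv, hTeq, hcard] at h
    rw [← h]
    suffices hidx : ((T : Subgroup (M ⧸ Z)).subgroupOf N).index = 2 by
      rw [hTeq] at hidx; rw [hidx]
    refine Subgroup.index_eq_two_iff.2 ⟨⟨tq, htN⟩, fun b => ?_⟩
    obtain ⟨b, hb⟩ := b
    obtain ⟨g, rfl⟩ := QuotientGroup.mk'_surjective Z b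
    have hgH : (g : G) ∈ D.H := (hN_iff g).1 hb
    simp only [Subgroup.mem_subgroupOf, Subgroup.coe_mul]
    rcases monM hgH with h1 | h1
    · refine Or.inr ⟨hTeq ▸ ⟨g, Subgroup.mem_subgroupOf.2 (D.mem_of_mon (h := ⟨g, hgH⟩) h1), rfl⟩,
        fun h => htT ?_⟩
      have := (T : Subgroup (M ⧸ Z)).mul_mem ((T : Subgroup (M ⧸ Z)).inv_mem
        (show q g ∈ (T : Subgroup (M ⧸ Z)) from
          hTeq ▸ ⟨g, Subgroup.mem_subgroupOf.2 (D.mem_of_mon (h := ⟨g, hgH⟩) h1), rfl⟩)) h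
      rwa [inv_mul_cancel_left] at this
    · have h2 : D.mon (⟨g, hgH⟩ * ⟨t₀, ht₀H⟩) = monOne := by
        rw [D.mon_mul, h1, D.mon_eq (h := ⟨t₀, ht₀H⟩) ht₀]
        decide +kernel
      refine Or.inl ⟨hTeq ▸ ⟨g * ⟨t₀, ht₀M⟩,
        Subgroup.mem_subgroupOf.2 (D.mem_of_mon (h := ⟨g, hgH⟩ * ⟨t₀, ht₀H⟩) h2),
          by rw [map_mul]⟩, fun h => ?_⟩
      have h3 : D.mon ⟨g, hgH⟩ = monOne := D.mon_eq fun v => by
        rw [act_one]
        exact mul_inv_eq_iff_eq_mul.2 ((D.commute_of_one (mem_J_of_q (hTeq.le h)) v).eq)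
      rw [h1] at h3
      exact absurd h3 (by decide +kernel)
  have haT : q (pM aa) ∈ (T : Subgroup (M ⧸ Z)) := hT (hpT aa)
  have ha1 : q (pM aa) ≠ 1 := by
    intro h
    obtain ⟨k, hk⟩ := memZ.1 ((QuotientGroup.eq_one_iff _).1 h)
    have h' : aa = scal k vv := D.pt_inj hk
    exact (by decide +kernel : ∀ k : ZMod 3, aa ≠ scal k vv) k h'
  have hcent : ∀ s ∈ (T : Subgroup (M ⧸ Z)), s ∉ Subgroup.zpowers (q (pM aa)) →
      Subgroup.centralizer ({s} : Set (M ⧸ Z)) ≤ T := by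
    intro s hs hsa y hy
    obtain ⟨u, rfl⟩ := mem_T₀ (hTeq.le hs)
    have hu : u.2.2 ≠ 0 := by
      intro h0
      obtain ⟨i, j, hij⟩ := span_aa u h0
      refine hsa ?_
      have hz : q (pM (scal j vv)) = 1 := (QuotientGroup.eq_one_iff _).2 (memZ.2 ⟨j, rfl⟩)
      rw [show pM u = pM aa ^ i.val * pM (scal j vv) from Subtype.ext (by
        show D.pt u = D.pt aa ^ i.val * D.pt (scal j vv)
        rw [hij, D.pt_add, scal_pow i aa, D.pt_nsmul]), map_mul, map_pow, hz, mul_one]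
      exact Subgroup.pow_mem _ (Subgroup.mem_zpowers _) _
    obtain ⟨g, rfl⟩ := QuotientGroup.mk'_surjective Z y
    obtain ⟨k, hk⟩ := qeq (show q (g * pM u * g⁻¹) = q (pM u) by
      rw [map_mul, map_mul, map_inv, Subgroup.mem_centralizer_singleton_iff.1 hy,
        mul_inv_cancel_right])
    have hk' : (g : G) * D.pt u * (g : G)⁻¹ = D.pt (u + scal (-k) vv) := by
      have e : D.pt u = (g : G) * D.pt u * (g : G)⁻¹ * D.pt (scal k vv) := hk
      calc (g : G) * D.pt u * (g : G)⁻¹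
          = (g : G) * D.pt u * (g : G)⁻¹ * D.pt (scal k vv) * (D.pt (scal k vv))⁻¹ := by group
        _ = D.pt u * D.pt (-scal k vv) := by rw [← e, D.pt_neg]
        _ = _ := by
          rw [← D.pt_add]
          exact congrArg D.pt (sub_shift u k)
    have hgH : (g : G) ∈ D.H := (D.norms_iff _).1 fun v => by
      have hm : (g : G) * D.pt v * (g : G)⁻¹ ∈ D.J := by
        refine D.mem_of_plane (u := u + scal (-k) vv) (fun h => hu ?_) ?_ ?_
        · simpa [scal] using h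
        · exact (memM.1 g.2).mul_left (D.commute_pt v vv) |>.mul_left (memM.1 g.2).inv_left
        · rw [← hk']
          exact (D.commute_pt v u).map (MulAut.conj (g : G)).toMonoidHom
      obtain ⟨w, hw⟩ := D.exists_pt hm
      exact ⟨w, hw.symm⟩
    rcases monM hgH with h1 | h1
    · rw [hTeq]
      exact ⟨g, Subgroup.mem_subgroupOf.2 (D.mem_of_mon (h := ⟨g, hgH⟩) h1), rfl⟩
    · exfalso
      refine tau_third u (-k) hu (D.pt_inj ?_)
      rw [← h1, ← D.acts_mon ⟨g, hgH⟩ u]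
      exact hk'
  have hcore : Cfsg.pPrimeCore 3 (M ⧸ Z) = ⊥ :=
    pPrimeCore_quotient_central Nat.prime_three Z hZc hZcard
      (D.cores _ (D.pt_mem_J vv) (D.orderOf_pt (by decide)))
  have hnorm : (T : Subgroup (M ⧸ Z)).Normal :=
    sylow_normal T (by rw [hTeq]; exact hcard) hcube hN18 htN htinv htT haT ha1 hcent hcore
  refine (D.norms_iff g₀).2 ((hN_iff ⟨g₀, memM.2 hg₀⟩).1 ?_)
  rw [Subgroup.normalizer_eq_top_iff.2 hnorm]
  trivial

theorem Cfg.middle [Finite G] {w : V} (hw : 2 ≤ weight w) {g : G} (hg : Commute g (D.pt w)) :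
    Norms D.pt g := by
  rcases weight_le w hw with h | h
  · obtain ⟨m, hm, hmw⟩ := orbit_vv w h
    exact D.norms_orbit hm hmw (fun g hg => D.norms_of_commute_vv hg) hg
  · exact D.norms_of_weight_three h hg

theorem Cfg.sig [Finite G] (K : Subgroup G) (hK : (Nat.card K).Coprime 3)
    (hinv : ∀ v, K.map (MulAut.conj (D.pt v)).toMonoidHom = K) : K = ⊥ := by
  have : Fact (Nat.Prime 3) := ⟨Nat.prime_three⟩
  let P : V → G := D.pt
  let A : Subgroup G :=
    { carrier := Set.range fun ij : ZMod 3 × ZMod 3 => D.pt (scal ij.1 x0 + scal ij.2 (1, 2, 0))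
      one_mem' := ⟨(0, 0), (congrArg D.pt plane_zero).trans D.pt_zero⟩
      mul_mem' := by
        rintro _ _ ⟨⟨i, j⟩, rfl⟩ ⟨⟨i', j'⟩, rfl⟩
        refine ⟨(i + i', j + j'), ?_⟩
        show D.pt _ = D.pt _ * D.pt _
        rw [← D.pt_add]
        exact congrArg D.pt (plane_add i j i' j')
      inv_mem' := by
        rintro _ ⟨⟨i, j⟩, rfl⟩
        refine ⟨(-i, -j), ?_⟩
        show D.pt _ = (D.pt _)⁻¹
        rw [← D.pt_neg]
        exact congrArg D.pt (plane_neg i j) }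
  have hAcard : Nat.card A = 9 := by
    rw [show Nat.card A = Nat.card (Set.range fun ij : ZMod 3 × ZMod 3 =>
        D.pt (scal ij.1 x0 + scal ij.2 (1, 2, 0))) from rfl,
      Nat.card_range_of_injective (f := fun ij : ZMod 3 × ZMod 3 =>
        D.pt (scal ij.1 x0 + scal ij.2 (1, 2, 0))) (fun a b h => Prod.ext_iff.2
          (plane_inj _ _ _ _ (D.pt_inj h)))]
    simp
  have hAJ : A ≤ D.J := by rintro _ ⟨ij, rfl⟩; exact D.pt_mem_J _
  have hab : IsMulCommutative A :=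
    ⟨⟨fun a b => Subtype.ext (D.J_comm (hAJ a.2) (hAJ b.2)).eq⟩⟩
  have hnc : ¬ IsCyclic A := by
    intro hc
    obtain ⟨a, ha⟩ := hc.exists_generator
    have h3 : orderOf a ∣ 3 := orderOf_dvd_of_pow_eq_one (Subtype.ext (D.J_cube (hAJ a.2)))
    have := orderOf_eq_card_of_forall_mem_zpowers ha
    rw [hAcard] at this
    rw [this] at h3
    omega
  have hJK : ∀ j ∈ D.J, ∀ n, n ∈ K ↔ j * n * j⁻¹ ∈ K := by
    intro j hj n
    obtain ⟨v, rfl⟩ := D.exists_pt hj
    constructor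
    · intro hn
      exact (hinv v).le ⟨n, hn, rfl⟩
    · intro hn
      have : D.pt v * n * (D.pt v)⁻¹ ∈ K.map (MulAut.conj (D.pt v)).toMonoidHom := (hinv v).ge hn
      obtain ⟨m, hm, he⟩ := this
      simp only [MulEquiv.coe_toMonoidHom, MulAut.conj_apply, mul_left_inj, mul_right_inj] at he
      rwa [← he]
  have hAK : A ≤ Subgroup.normalizer (K : Set G) := fun a ha =>
    Subgroup.mem_normalizer_iff.2 (hJK a (hAJ ha))
  have hcop : (Nat.card A).Coprime (Nat.card K) := by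
    rw [hAcard, show (9 : ℕ) = 3 ^ 2 by norm_num]
    exact (hK.symm).pow_left 2
  rw [← CfsgLib.Coprime.iSup_centralizer_eq hab hnc hAK hcop]
  refine le_bot_iff.1 (iSup_le ?_)
  rintro ⟨a, ⟨⟨i, j⟩, rfl⟩, ha1⟩ k ⟨hk, hkc⟩
  have hw0 : scal i x0 + scal j ((1, 2, 0) : V) ≠ 0 := fun h =>
    ha1 ((congrArg D.pt h).trans D.pt_zero)
  have hkn : Norms D.pt k := D.middle (plane_two i j hw0)
    (show Commute k _ from Subgroup.mem_centralizer_singleton_iff.1 hkc)
  have hcomm : ∀ v, Commute k (D.pt v) := fun v => by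
    obtain ⟨w, hw⟩ := hkn v
    have h1 : k * D.pt v * k⁻¹ * (D.pt v)⁻¹ ∈ D.J :=
      D.J.mul_mem (hw ▸ D.pt_mem_J w) (D.J.inv_mem (D.pt_mem_J v))
    have h2 : k * D.pt v * k⁻¹ * (D.pt v)⁻¹ ∈ K := by
      rw [show k * D.pt v * k⁻¹ * (D.pt v)⁻¹ = k * (D.pt v * k⁻¹ * (D.pt v)⁻¹) by group]
      exact K.mul_mem hk ((hJK _ (D.pt_mem_J v) _).1 (K.inv_mem hk))
    have h4 : Nat.card (D.J ⊓ K : Subgroup G) = 1 := by
      refine Nat.eq_one_of_dvd_one ?_
      have hc : (27 : ℕ).gcd (Nat.card K) = 1 := by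
        rw [show (27 : ℕ) = 3 ^ 3 by norm_num]
        exact hK.symm.pow_left 3
      rw [← hc, ← D.card_J]
      exact Nat.dvd_gcd (Subgroup.card_dvd_of_le inf_le_left) (Subgroup.card_dvd_of_le inf_le_right)
    have h5 := Subgroup.card_eq_one.1 h4 ▸ (show _ ∈ D.J ⊓ K from ⟨h1, h2⟩)
    exact mul_inv_eq_iff_eq_mul.1 (mul_inv_eq_one.1 (Subgroup.mem_bot.1 h5))
  have hkH : k ∈ D.H := (D.norms_iff k).1 hkn
  have hkJ : k ∈ D.J := D.mem_of_mon (h := ⟨k, hkH⟩) (D.mon_eq fun v => by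
    rw [act_one]; exact mul_inv_eq_iff_eq_mul.2 (hcomm v).eq)
  rw [Subgroup.mem_bot]
  have h3 : orderOf k ∣ 3 := orderOf_dvd_of_pow_eq_one (D.J_cube hkJ)
  have hd : orderOf k ∣ Nat.card K := by
    rw [← Subgroup.orderOf_mk k hk]; exact orderOf_dvd_natCard _
  exact orderOf_eq_one_iff.1 (Nat.eq_one_of_dvd_one (hK.symm.gcd_eq_one ▸ Nat.dvd_gcd h3 hd))

/-- the cube -/
noncomputable def Cfg.cube [Finite G] : Cube G detX where
  pt := D.pt
  pt_add := D.pt_add
  pt_inj := D.pt_inj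
  cent g hg := by
    have hH : g ∈ D.H := (D.norms_iff g).1 fun v => ⟨v, by
      rw [(hg v).eq, mul_inv_cancel_right]⟩
    exact D.exists_pt (D.mem_of_mon (h := ⟨g, hH⟩) (D.mon_eq fun v => by
      rw [act_one]; exact mul_inv_eq_iff_eq_mul.2 (hg v).eq))
  exists_acts _ hg := D.exists_acts hg
  exists_lift := D.exists_lift
  norms_of_commute_x _ hg := D.norms_of_commute_x hg
  unique := D.unique
  sig := D.sig

end CfsgLib.Recog.AltNine
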