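import Cfsg.Agent.Lib.Block.FourLink

/-!
# The normaliser of three disjoint three-cycles in `A₉`

It is the image of the model of order 648.
-/

set_option autoImplicit false
set_option maxRecDepth 4000

namespace CfsgLib.Recog.AltNine

open CfsgLib.Block CfsgLib.Block.FourCube

/-- the first cycle -/
abbrev cyc₁ : Equiv.Perm (Fin 9) := Equiv.swap 0 1 * Equiv.swap 1 2
/-- the second cycle -/
abbrev cyc₂ : Equiv.Perm (Fin 9) := Equiv.swap 3 4 * Equiv.swap 4 5
/-- the third cycle -/
abbrev cyc₃ : Equiv.Perm (Fin 9) := Equiv.swap 6 7 * Equiv.swap 7 8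

/-- the block of a point -/
def blockOf (x : Fin 9) : Fin 3 := (finProdFinEquiv.symm x : Fin 3 × Fin 3).1

theorem same_block : ∀ a b : Fin 9, blockOf a = blockOf b →
    b = a ∨ (∃ c : Fin 3, b = ![cyc₁, cyc₂, cyc₃] c a) ∨
      ∃ c : Fin 3, b = ![cyc₁, cyc₂, cyc₃] c (![cyc₁, cyc₂, cyc₃] c a) := by
  decide +kernel

theorem cyc_block : ∀ (c : Fin 3) (x : Fin 9), blockOf (![cyc₁, cyc₂, cyc₃] c x) = blockOf x := by
  decide +kernel

theorem dPerm_surj : ∀ π : Equiv.Perm (Fin 3), ∃ p : DihedralGroup 3, ThreeCube.dPermFun p = π := by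
  decide +kernel

theorem sign_dPerm : ∀ p : DihedralGroup 3,
    ((Equiv.Perm.sign (ThreeCube.dPermFun p) : ℤˣ) : ℤ) = ThreeCube.dsgn p := by
  decide +kernel

theorem sign_toNine (g : Big) : ((Equiv.Perm.sign (toNine g) : ℤˣ) : ℤ) = sign4 g := by
  have h : toNine g = blockFun g.left * moveFun g.right := rfl
  have hm : ∀ p : DihedralGroup 3,
      ThreeCube.dsgn p * (ThreeCube.dsgn p * ThreeCube.dsgn p) = ThreeCube.dsgn p := by
    decide +kernel
  rw [h, map_mul, blockFun, moveFun, Equiv.Perm.sign_permCongr, Equiv.Perm.sign_permCongr,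
    Equiv.Perm.sign_prodCongrRight, Equiv.Perm.sign_prodCongrLeft, Fin.prod_univ_three,
    Fin.prod_univ_three]
  simp only [Units.val_mul, sign_dPerm, sign4, ThreeCube.eps]
  rw [mul_assoc (ThreeCube.dsgn g.right), hm]

theorem mem_range_of_blocks {g : Equiv.Perm (Fin 9)}
    (hg : ∀ a b, blockOf a = blockOf b → blockOf (g a) = blockOf (g b)) :
    g ∈ toNine.range := by
  let e : Fin 3 × Fin 3 ≃ Fin 9 := finProdFinEquiv
  have hb : ∀ i j, blockOf (e (i, j)) = i := fun i j => by simp [blockOf, e]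
  let π : Fin 3 → Fin 3 := fun i => blockOf (g (e (i, 0)))
  have hπ : ∀ x, blockOf (g x) = π (blockOf x) := fun x => hg _ _ (hb _ _).symm
  have hsurj : Function.Surjective π := fun i => by
    refine ⟨blockOf (g.symm (e (i, 0))), ?_⟩
    rw [← hπ, Equiv.apply_symm_apply, hb]
  obtain ⟨p, hp⟩ := dPerm_surj (Equiv.ofBijective π (Finite.surjective_iff_bijective.1 hsurj))
  have hp' : ∀ i, ThreeCube.dPermFun p i = π i := fun i => by rw [hp]; rfl
  let g' : Equiv.Perm (Fin 9) := (moveFun p)⁻¹ * g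
  have hmove : ∀ i j, moveFun p (e (i, j)) = e (ThreeCube.dPermFun p i, j) := fun i j => by
    simp [moveFun, e, Equiv.permCongr_apply]
  have hg' : ∀ i j, blockOf (g' (e (i, j))) = i := fun i j => by
    obtain ⟨⟨i', j'⟩, hij⟩ := e.surjective (g' (e (i, j)))
    have h : g (e (i, j)) = moveFun p (e (i', j')) := by
      rw [hij]
      simp only [g', Equiv.Perm.coe_mul, Function.comp_apply]
      rw [← Equiv.Perm.mul_apply, mul_inv_cancel, Equiv.Perm.one_apply]
    have h2 : π i = ThreeCube.dPermFun p i' := by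
      have h1 := hπ (e (i, j))
      rw [h, hmove, hb, hb] at h1
      exact h1.symm
    rw [← hp'] at h2
    rw [← hij, hb]
    exact ((ThreeCube.dPermFun p).injective h2).symm
  let q : Fin 3 → Fin 3 → Fin 3 := fun i j => (e.symm (g' (e (i, j)))).2
  have hq : ∀ i j, g' (e (i, j)) = e (i, q i j) := fun i j => by
    conv_lhs => rw [← e.apply_symm_apply (g' (e (i, j)))]
    congr 1
    exact Prod.ext (hg' i j) rfl
  have hqbij : ∀ i, Function.Bijective (q i) := fun i => by
    refine Finite.injective_iff_bijective.1 fun j k hjk => ?_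
    have h : g' (e (i, j)) = g' (e (i, k)) := by rw [hq, hq, hjk]
    exact (Prod.ext_iff.1 (e.injective (g'.injective h))).2
  choose a ha using fun i => dPerm_surj (Equiv.ofBijective (q i) (hqbij i))
  have hblock : g' = blockFun (a 0, a 1, a 2) := by
    refine Equiv.ext fun x => ?_
    obtain ⟨⟨i, j⟩, rfl⟩ := e.surjective x
    have hc : ThreeCube.comp i (a 0, a 1, a 2) = a i := by fin_cases i <;> rfl
    rw [hq]
    simp [blockFun, e, Equiv.permCongr_apply, hc, ha]
  refine ⟨⟨permTri p (a 0, a 1, a 2), p⟩, ?_⟩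
  show blockFun (permTri p (a 0, a 1, a 2)) * moveFun p = g
  rw [move_block, ← hblock]
  simp [g', mul_assoc]

theorem alt_inf_normalizer :
    alternatingGroup (Fin 9) ⊓
      Subgroup.normalizer ((Subgroup.closure {cyc₁, cyc₂, cyc₃} : Subgroup (Equiv.Perm (Fin 9))) :
        Set (Equiv.Perm (Fin 9))) =
      Subgroup.closure ({k₁, k₂, k₃, k₄} : Set (Equiv.Perm (Fin 9))) := by
  refine le_antisymm ?_ ?_
  · rintro g ⟨hga, hgn⟩
    let Bl : Subgroup (Equiv.Perm (Fin 9)) :=
      { carrier := {σ | ∀ x, blockOf (σ x) = blockOf x}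
        one_mem' := fun x => rfl
        mul_mem' := fun {s t} hs ht x => by
          rw [Equiv.Perm.mul_apply, hs, ht]
        inv_mem' := fun {s} hs x => by
          conv_rhs => rw [← Equiv.apply_symm_apply s x]
          exact (hs _).symm }
    have hle : Subgroup.closure {cyc₁, cyc₂, cyc₃} ≤ Bl := by
      refine (Subgroup.closure_le _).2 ?_
      rintro σ (rfl | rfl | rfl)
      exacts [cyc_block 0, cyc_block 1, cyc_block 2]
    have hc : ∀ (c : Fin 3) a, blockOf (g (![cyc₁, cyc₂, cyc₃] c a)) = blockOf (g a) := by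
      intro c a
      have hm : ![cyc₁, cyc₂, cyc₃] c ∈
          (Subgroup.closure {cyc₁, cyc₂, cyc₃} : Subgroup (Equiv.Perm (Fin 9))) :=
        Subgroup.subset_closure (by fin_cases c <;> simp)
      have h := hle ((Subgroup.mem_normalizer_iff.1 hgn _).1 hm) (g a)
      simpa [Equiv.Perm.mul_apply] using h
    have hr : g ∈ toNine.range := mem_range_of_blocks fun a b hab => by
      rcases same_block a b hab with rfl | ⟨c, rfl⟩ | ⟨c, rfl⟩
      · rfl
      · exact (hc c a).symm
      · exact ((hc c _).trans (hc c a)).symm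
    obtain ⟨x, rfl⟩ := hr
    rw [← map_toNine]
    refine ⟨x, ?_, rfl⟩
    show sign4 x = 1
    rw [← sign_toNine, Equiv.Perm.mem_alternatingGroup.1 hga, Units.val_one]
  · refine (Subgroup.closure_le _).2 fun k hk => ⟨?_, ?_⟩
    · refine Equiv.Perm.mem_alternatingGroup.2 ?_
      rcases hk with rfl | rfl | rfl | rfl <;>
        simp [map_mul]
    · have hconj : ∀ (i : Fin 4) (j : Fin 3), ∃ l : Fin 6, ∀ x : Fin 9,
          ![k₁, k₂, k₃, k₄] i (![cyc₁, cyc₂, cyc₃] j x) =
            ![cyc₁, cyc₂, cyc₃, Equiv.swap 1 2 * Equiv.swap 0 1,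
              Equiv.swap 4 5 * Equiv.swap 3 4, Equiv.swap 7 8 * Equiv.swap 6 7] l
              (![k₁, k₂, k₃, k₄] i x) := by
        decide +kernel
      obtain ⟨i, rfl⟩ : ∃ i : Fin 4, ![k₁, k₂, k₃, k₄] i = k := by
        rcases hk with rfl | rfl | rfl | rfl
        exacts [⟨0, rfl⟩, ⟨1, rfl⟩, ⟨2, rfl⟩, ⟨3, rfl⟩]
      have key : (Subgroup.closure {cyc₁, cyc₂, cyc₃} : Subgroup (Equiv.Perm (Fin 9))).map
          (MulAut.conj (![k₁, k₂, k₃, k₄] i)).toMonoidHom ≤
            Subgroup.closure {cyc₁, cyc₂, cyc₃} := by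
        rw [MonoidHom.map_closure]
        refine (Subgroup.closure_le _).2 ?_
        rintro _ ⟨c, hc, rfl⟩
        obtain ⟨j, rfl⟩ : ∃ j : Fin 3, ![cyc₁, cyc₂, cyc₃] j = c := by
          rcases hc with rfl | rfl | rfl
          exacts [⟨0, rfl⟩, ⟨1, rfl⟩, ⟨2, rfl⟩]
        obtain ⟨l, hl⟩ := hconj i j
        show ![k₁, k₂, k₃, k₄] i * ![cyc₁, cyc₂, cyc₃] j * (![k₁, k₂, k₃, k₄] i)⁻¹ ∈ _
        rw [show ![k₁, k₂, k₃, k₄] i * ![cyc₁, cyc₂, cyc₃] j = _ * ![k₁, k₂, k₃, k₄] i from
          Equiv.ext hl, mul_inv_cancel_right]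
        have hinv : ∀ a b : Equiv.Perm (Fin 9), a * a = 1 → b * b = 1 →
            a * b ∈ ({cyc₁, cyc₂, cyc₃} : Set (Equiv.Perm (Fin 9))) →
              b * a ∈ (Subgroup.closure {cyc₁, cyc₂, cyc₃} : Subgroup (Equiv.Perm (Fin 9))) := by
          intro a b ha hb hab
          have h : b * a = (a * b)⁻¹ := by
            rw [mul_inv_rev, inv_eq_of_mul_eq_one_right hb, inv_eq_of_mul_eq_one_right ha]
          rw [h]
          exact Subgroup.inv_mem _ (Subgroup.subset_closure hab)
        fin_cases l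
        exacts [Subgroup.subset_closure (Or.inl rfl), Subgroup.subset_closure (Or.inr (Or.inl rfl)),
          Subgroup.subset_closure (Or.inr (Or.inr rfl)),
          hinv _ _ (Equiv.swap_mul_self _ _) (Equiv.swap_mul_self _ _) (Or.inl rfl),
          hinv _ _ (Equiv.swap_mul_self _ _) (Equiv.swap_mul_self _ _) (Or.inr (Or.inl rfl)),
          hinv _ _ (Equiv.swap_mul_self _ _) (Equiv.swap_mul_self _ _) (Or.inr (Or.inr rfl))]
      exact Subgroup.mem_normalizer_fintype fun n hn => key ⟨n, hn, rfl⟩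

end CfsgLib.Recog.AltNine
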