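import Cfsg.Agent.Lib.Recog.AltNine.Basic
import Cfsg.Agent.Lib.Recog.AltNine.Normalizer
import Cfsg.Agent.Lib.Recog.SymNine.Basic

/-!
# Coordinates on the model: vectors and monomial maps
-/

set_option autoImplicit false
set_option maxRecDepth 4000

namespace CfsgLib.Recog.AltNine

open CfsgLib.Block CfsgLib.Block.FourCube
open CfsgLib.Recog.SymNine (V Mon act e0 e1 e2 x0 Acts Norms src)

/-- determinant one as monomial maps of the three blocks -/
def detX (m : Mon) : Bool :=
  xor (xor m.2.1 m.2.2.1) m.2.2.2 == decide (3 ≤ m.1.val)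

/-- the rotation triple of a vector -/
def triV (v : V) : ThreeCube.Tri := (.r v.1, .r v.2.1, .r v.2.2)

/-- a vector inside the model -/
def bigV (v : V) : Big := ⟨triV v, 1⟩

/-- the vector of a rotation triple -/
def vecOf (g : Big) : V :=
  let f : DihedralGroup 3 → ZMod 3 := fun d => match d with
    | .r i => i
    | .sr i => i
  (f g.left.1, f g.left.2.1, f g.left.2.2)

/-- is a reflection -/
def isRefl : DihedralGroup 3 → Bool
  | .r _ => false
  | .sr _ => true

/-- the permutation index of a move -/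
def pidx : DihedralGroup 3 → Fin 6
  | .r i => ![0, 1, 2] i
  | .sr i => ![4, 3, 5] i

/-- the monomial map of an element -/
def monOf (g : Big) : Mon :=
  (pidx g.right, isRefl g.left.1, isRefl g.left.2.1, isRefl g.left.2.2)

/-- an element with given monomial map -/
def liftM (m : Mon) : Big :=
  let s : Bool → DihedralGroup 3 := fun b => if b then .sr 0 else .r 0
  ⟨(s m.2.1, s m.2.2.1, s m.2.2.2),
    ![DihedralGroup.r 0, .r 1, .r 2, .sr 1, .sr 0, .sr 2] m.1⟩

theorem bigV_add : ∀ v w : V, bigV (v + w) = bigV v * bigV w := by decide +kernel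

theorem bigV_inJ : ∀ v : V, InJ (bigV v) := by decide +kernel

theorem bigV_ev : ∀ v : V, Ev (bigV v) := by decide +kernel

theorem vecOf_bigV : ∀ v : V, vecOf (bigV v) = v := by decide +kernel

theorem bigV_vecOf : ∀ a : ThreeCube.Tri, InJ (⟨a, 1⟩ : Big) →
    bigV (vecOf ⟨a, 1⟩) = (⟨a, 1⟩ : Big) := by decide +kernel

theorem bigV_vecOf' {g : Big} (h : InJ g) : bigV (vecOf g) = g := by
  rw [inJ_form h]
  exact bigV_vecOf _ (by rwa [← inJ_form h])

theorem permTri_triV : ∀ (p : DihedralGroup 3) (v : V),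
    permTri p (triV v) = triV (act (pidx p, false, false, false) v) := by decide +kernel

theorem refl_conj : ∀ (x : DihedralGroup 3) (i : ZMod 3),
    x * .r i * x⁻¹ = .r (if isRefl x then -i else i) := by decide +kernel

theorem detX_monOf : ∀ a p, Ev (⟨a, p⟩ : Big) → detX (monOf ⟨a, p⟩) = true := by decide +kernel

theorem liftM_spec : ∀ m : Mon, detX m = true → Ev (liftM m) ∧ monOf (liftM m) = m := by
  decide +kernel

theorem act_split : ∀ (q : Fin 6) (a b c : Bool) (v : V),
    act (0, a, b, c) (act (q, false, false, false) v) = act (q, a, b, c) v := by decide +kernel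

theorem act_sign : ∀ (a b c : Bool) (v : V), act (0, a, b, c) v =
    ((if a then -v.1 else v.1), (if b then -v.2.1 else v.2.1), (if c then -v.2.2 else v.2.2)) := by
  decide +kernel

theorem bigV_conj (g : Big) (v : V) : g * bigV v * g⁻¹ = bigV (act (monOf g) v) := by
  have h : act (monOf g) v = act (0, isRefl g.left.1, isRefl g.left.2.1, isRefl g.left.2.2)
      (act (pidx g.right, false, false, false) v) := (act_split _ _ _ _ _).symm
  rw [h, act_sign]
  have hp := permTri_triV g.right v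
  generalize act (pidx g.right, false, false, false) v = w at hp ⊢
  rw [mul_inv_eq_iff_eq_mul]
  refine SemidirectProduct.ext ?_ ?_
  · show g.left * permTri g.right (triV v) = triV _ * permTri 1 g.left
    rw [hp, permTri_one]
    simp only [triV, Prod.mul_def, Prod.mk.injEq]
    exact ⟨mul_inv_eq_iff_eq_mul.1 (refl_conj _ _), mul_inv_eq_iff_eq_mul.1 (refl_conj _ _),
      mul_inv_eq_iff_eq_mul.1 (refl_conj _ _)⟩
  · show g.right * 1 = 1 * g.right
    rw [mul_one, one_mul]

universe u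

variable {G : Type u} [Group G]

/-- The hypotheses of the recognition theorem give the standing hypotheses. -/
theorem exists_cfg [Finite G] (J : Subgroup G)
    (hJcard : Nat.card J = 27) (H : Subgroup G) (hH : H = Subgroup.normalizer (J : Set G))
    (J₀ : Subgroup (Equiv.Perm (Fin 9)))
    (hJ₀ : J₀ = Subgroup.closure {cyc₁, cyc₂, cyc₃})
    (eH : H ≃* ↥(alternatingGroup (Fin 9) ⊓ Subgroup.normalizer (J₀ : Set (Equiv.Perm (Fin 9)))))
    (hcores : ∀ x ∈ H, orderOf x = 3 →
      Cfsg.pPrimeCore 3 (Subgroup.centralizer ({x} : Set G)) = ⊥) :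
    ∃ D : Cfg G, D.H = H ∧ D.J = J := by
  have : Fact (Nat.Prime 3) := ⟨Nat.prime_three⟩
  subst hJ₀
  let e : Four ≃* H :=
    (fourEquiv.trans (MulEquiv.subgroupCongr alt_inf_normalizer.symm)).trans eH.symm
  have hJH : J ≤ H := hH ▸ Subgroup.le_normalizer
  have hN : (J.subgroupOf H).Normal := by subst hH; exact Subgroup.normal_in_normalizer
  have hcard : Nat.card (J.subgroupOf H) = 27 := by
    rw [Nat.card_congr (Subgroup.subgroupOfEquivOfLe hJH).toEquiv, hJcard]
  have hp : IsPGroup 3 (J.subgroupOf H) := IsPGroup.of_card (n := 3) (by rw [hcard]; norm_num)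
  have hle : J.subgroupOf H ≤ Cfsg.pCore 3 H := le_sSup ⟨hN, hp⟩
  have hEq : J.subgroupOf H = Cfsg.pCore 3 H := by
    refine Subgroup.eq_of_le_of_card_ge hle ?_
    rw [hcard]
    let f : Cfsg.pCore 3 H → V := fun x => vecOf ((e.symm x : Four) : Big)
    have hf : Function.Injective f := fun x y hxy => by
      have hx := (mem_pCore e (x : H)).1 x.2
      have hy := (mem_pCore e (y : H)).1 y.2
      refine Subtype.ext (e.symm.injective (Subtype.ext ?_))
      rw [← bigV_vecOf' hx, ← bigV_vecOf' hy]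
      exact congrArg bigV hxy
    refine (Nat.card_le_card_of_injective f hf).trans ?_
    rw [Nat.card_eq_fintype_card]
    rfl
  refine ⟨⟨H, J, hH, e, fun a => ?_, fun x hx ho => hcores x (hJH hx) ho⟩, rfl, rfl⟩
  rw [← Subgroup.mem_subgroupOf (K := H), hEq, mem_pCore e, e.symm_apply_apply]

variable (D : Cfg G)

/-- coordinates in the model -/
noncomputable def Cfg.tr : D.H →* Big := Four.subtype.comp D.e.symm.toMonoidHom

theorem Cfg.tr_apply (a : Four) : D.tr (D.e a) = (a : Big) := by simp [Cfg.tr]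

theorem Cfg.tr_ev (h : D.H) : Ev (D.tr h) := (D.e.symm h).2

theorem Cfg.tr_injective : Function.Injective D.tr :=
  fun _ _ hab => D.e.symm.injective (Subtype.ext hab)

/-- an element of the model in the group -/
noncomputable def Cfg.el (g : Big) (h : Ev g) : G := ((D.e ⟨g, h⟩ : D.H) : G)

theorem Cfg.el_mem (g : Big) (h : Ev g) : D.el g h ∈ D.H := (D.e ⟨g, h⟩).2

theorem Cfg.tr_el (g : Big) (h : Ev g) (hm : D.el g h ∈ D.H) : D.tr ⟨D.el g h, hm⟩ = g :=
  D.tr_apply ⟨g, h⟩

theorem Cfg.mem_iff (h : D.H) : (h : G) ∈ D.J ↔ InJ (D.tr h) := by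
  obtain ⟨a, rfl⟩ := D.e.surjective h
  rw [D.tr_apply]; exact D.mem_J a

theorem Cfg.le : D.J ≤ D.H := by
  rw [D.hH]; exact Subgroup.le_normalizer

/-- the parametrisation of the subgroup of order 27 -/
noncomputable def Cfg.pt (v : V) : G := D.el (bigV v) (bigV_ev v)

theorem Cfg.pt_add (v w : V) : D.pt (v + w) = D.pt v * D.pt w := by
  simp only [Cfg.pt, Cfg.el, ← Subgroup.coe_mul, ← map_mul]
  exact congrArg (fun a : Four => ((D.e a : D.H) : G)) (Subtype.ext (bigV_add v w))

theorem Cfg.pt_inj : Function.Injective D.pt := fun v w h => by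
  have h2 : (D.e ⟨bigV v, bigV_ev v⟩ : D.H) = D.e ⟨bigV w, bigV_ev w⟩ := Subtype.ext h
  have h3 : bigV v = bigV w := congrArg Subtype.val (D.e.injective h2)
  rw [← vecOf_bigV v, ← vecOf_bigV w, h3]

theorem Cfg.pt_mem (v : V) : D.pt v ∈ D.H := D.el_mem _ _

theorem Cfg.tr_pt (v : V) (hm : D.pt v ∈ D.H) : D.tr ⟨D.pt v, hm⟩ = bigV v := D.tr_el _ _ hm

theorem Cfg.range_pt : Set.range D.pt = (D.J : Set G) := by
  refine Set.ext fun g => ⟨?_, fun hg => ?_⟩
  · rintro ⟨v, rfl⟩
    exact (D.mem_J _).2 (bigV_inJ v)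
  · have hI := (D.mem_iff ⟨g, D.le hg⟩).1 hg
    refine ⟨vecOf (D.tr ⟨g, D.le hg⟩), ?_⟩
    refine congrArg Subtype.val (D.tr_injective (a₁ := ⟨D.pt _, D.pt_mem _⟩)
      (a₂ := ⟨g, D.le hg⟩) ?_)
    rw [D.tr_pt, bigV_vecOf' hI]

theorem Cfg.pt_mem_J (v : V) : D.pt v ∈ D.J := by
  rw [← SetLike.mem_coe, ← D.range_pt]; exact ⟨v, rfl⟩

theorem Cfg.exists_pt {g : G} (hg : g ∈ D.J) : ∃ v, D.pt v = g := by
  rw [← SetLike.mem_coe, ← D.range_pt] at hg; exact hg

theorem Cfg.acts (h : D.H) : Acts D.pt (h : G) (monOf (D.tr h)) := fun v => by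
  have e : h * ⟨D.pt v, D.pt_mem v⟩ * h⁻¹ =
      (⟨D.pt (act (monOf (D.tr h)) v), D.pt_mem _⟩ : D.H) := D.tr_injective (by
    rw [map_mul, map_mul, map_inv, D.tr_pt, D.tr_pt, bigV_conj])
  exact congrArg Subtype.val e

theorem Cfg.norms_iff [Finite G] (g : G) : Norms D.pt g ↔ g ∈ D.H := by
  refine ⟨fun h => ?_, fun h v => ⟨_, D.acts ⟨g, h⟩ v⟩⟩
  rw [D.hH]
  have : Finite (D.J : Set G) := Subtype.finite
  refine Subgroup.mem_normalizer_fintype fun n hn => ?_
  obtain ⟨v, rfl⟩ := D.exists_pt hn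
  obtain ⟨w, hw⟩ := h v
  rw [hw]
  exact D.pt_mem_J w

theorem Cfg.exists_acts [Finite G] {g : G} (h : Norms D.pt g) :
    ∃ m, detX m = true ∧ Acts D.pt g m := by
  have hg := (D.norms_iff g).1 h
  exact ⟨_, detX_monOf _ _ (D.tr_ev ⟨g, hg⟩), D.acts ⟨g, hg⟩⟩

theorem Cfg.exists_lift (m : Mon) (hm : detX m = true) : ∃ g, Acts D.pt g m := by
  obtain ⟨he, hl⟩ := liftM_spec m hm
  refine ⟨(⟨D.el (liftM m) he, D.el_mem _ _⟩ : D.H), ?_⟩
  have := D.acts ⟨D.el (liftM m) he, D.el_mem _ _⟩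
  rwa [D.tr_el, hl] at this

end CfsgLib.Recog.AltNine
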