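import Cfsg.Agent.Lib.Recog.AltNine.Emb

/-!
# Involutions of the alternating group of degree nine near the reflection
-/

set_option autoImplicit false
set_option maxRecDepth 100000

namespace CfsgLib.Recog.AltNine

open CfsgLib.Block CfsgLib.Block.FourCube Equiv
open CfsgLib.Recog.SymNine (V Mon act comp monOne x0 e0 e1 e2 Acts Norms scal weight act_comp
  act_one act_add Cube)

/-- the moved set of the reflection and its complement -/
def e9 : Fin 4 ⊕ Fin 5 ≃ Fin 9 where
  toFun := Sum.elim ![0, 1, 6, 7] ![2, 3, 4, 5, 8]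
  invFun := ![.inl 0, .inl 1, .inr 0, .inr 1, .inr 2, .inr 3, .inl 2, .inl 3, .inr 4]
  left_inv := by rintro (i | i) <;> fin_cases i <;> rfl
  right_inv := by intro i; fin_cases i <;> rfl

/-- a permutation of both parts -/
def pairN (σ : Perm (Fin 4)) (τ : Perm (Fin 5)) : Perm (Fin 9) :=
  e9.permCongr (Equiv.sumCongr σ τ)

/-- the number of moved points -/
def movedN (x : Perm (Fin 9)) : ℕ := (Finset.univ.filter fun i => x i ≠ i).card

/-- the second involution of the four group -/
def delN : A9 := ⟨swap 0 6 * swap 1 7, by simp [Equiv.Perm.mem_alternatingGroup]⟩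

/-- an involution moving eight points -/
def fourN : A9 := ⟨swap 0 3 * swap 1 4 * (swap 2 5 * swap 6 7), by
  simp [Equiv.Perm.mem_alternatingGroup]⟩

/-- the reflection on its moved points -/
abbrev eps4 : Perm (Fin 4) := swap 0 1 * swap 2 3
/-- the second involution on the moved points of the reflection -/
abbrev del4 : Perm (Fin 4) := swap 0 2 * swap 1 3

theorem cent_split {x : Perm (Fin 9)} (h : x * (epsN : Perm (Fin 9)) = (epsN : Perm (Fin 9)) * x) :
    ∃ (σ : Perm (Fin 4)) (τ : Perm (Fin 5)), x = pairN σ τ := by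
  have hl : ∀ i : Fin 4, (epsN : Perm (Fin 9)) (e9 (.inl i)) ≠ e9 (.inl i) := by decide +kernel
  have hr : ∀ i : Fin 5, (epsN : Perm (Fin 9)) (e9 (.inr i)) = e9 (.inr i) := by decide +kernel
  obtain ⟨⟨σ, τ⟩, hp⟩ := Equiv.Perm.mem_sumCongrHom_range_of_perm_mapsTo_inl
    (σ := e9.symm.permCongr x) (by
      rintro _ ⟨i, rfl⟩
      rcases hj : e9.symm.permCongr x (.inl i) with j | j
      · exact ⟨j, rfl⟩
      · exfalso
        have h1 : x (e9 (.inl i)) = e9 (.inr j) := by
          rw [← hj]; simp [Equiv.permCongr_apply]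
        have h2 := congrArg (fun y : Perm (Fin 9) => y (e9 (.inl i))) h
        simp only [Perm.mul_apply] at h2
        rw [h1, hr, ← h1] at h2
        exact hl i (x.injective h2))
  refine ⟨σ, τ, Equiv.ext fun i => ?_⟩
  have := congrArg (fun y : Perm (Fin 4 ⊕ Fin 5) => e9 (y (e9.symm i))) hp
  simp [Equiv.permCongr_apply, Equiv.Perm.sumCongrHom] at this
  simpa [pairN, Equiv.permCongr_apply] using this.symm

theorem cycleType_invol {x : Perm (Fin 9)} (h2 : x * x = 1) (h1 : x ≠ 1) :
    ∃ n, x.cycleType = Multiset.replicate n 2 ∧ movedN x = 2 * n ∧ 2 * n ≤ 9 := by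
  have : Fact (Nat.Prime 2) := ⟨Nat.prime_two⟩
  have ho : orderOf x = 2 := orderOf_eq_prime (by rwa [pow_two]) h1
  obtain ⟨n, hn⟩ := Perm.cycleType_prime_order (ho.symm ▸ Nat.prime_two : (orderOf x).Prime)
  rw [ho] at hn
  have hs := Perm.sum_cycleType x
  rw [hn, Multiset.sum_replicate, smul_eq_mul] at hs
  have hc : movedN x = x.support.card := rfl
  have hle := Finset.card_le_univ x.support
  rw [Fintype.card_fin] at hle
  exact ⟨n + 1, hn, by omega, by omega⟩

theorem moved_cases {x : A9} (h2 : x * x = 1) (h1 : x ≠ 1) :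
    movedN x = 4 ∨ movedN x = 8 := by
  obtain ⟨n, hn, hm, hle⟩ := cycleType_invol (x := (x : Perm (Fin 9))) (congrArg Subtype.val h2)
    (fun e => h1 (Subtype.ext e))
  have hs := Equiv.Perm.mem_alternatingGroup.1 x.2
  rw [Perm.sign_of_cycleType, hn, Multiset.sum_replicate, Multiset.card_replicate,
    smul_eq_mul] at hs
  have hn0 : n ≠ 0 := by
    rintro rfl
    exact h1 (Subtype.ext (Perm.cycleType_eq_zero.1 (by rw [hn, Multiset.replicate_zero])))
  have : n ≤ 4 := by omega
  interval_cases n <;> simp_all (config := {decide := true})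

theorem conj_invol_nine {x y : A9} {a b : Fin 9} (hab : a ≠ b) (hx : x * x = 1) (hx1 : x ≠ 1)
    (hy : y * y = 1) (hy1 : y ≠ 1) (hm : movedN x = movedN y)
    (hsw : swap a b * (y : Perm (Fin 9)) = (y : Perm (Fin 9)) * swap a b) :
    ∃ g : A9, g * y * g⁻¹ = x := by
  obtain ⟨n, hn, hmn, -⟩ := cycleType_invol (x := (x : Perm (Fin 9))) (congrArg Subtype.val hx)
    (fun e => hx1 (Subtype.ext e))
  obtain ⟨l, hl, hml, -⟩ := cycleType_invol (x := (y : Perm (Fin 9))) (congrArg Subtype.val hy)
    (fun e => hy1 (Subtype.ext e))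
  obtain ⟨g, hg⟩ := isConj_iff.1 (Perm.isConj_iff_cycleType_eq.2
    (show (y : Perm (Fin 9)).cycleType = (x : Perm (Fin 9)).cycleType by
      rw [hn, hl, show n = l by omega]))
  rcases Int.units_eq_one_or (Perm.sign g) with h | h
  · exact ⟨⟨g, Equiv.Perm.mem_alternatingGroup.2 h⟩, Subtype.ext hg⟩
  · refine ⟨⟨g * swap a b, Equiv.Perm.mem_alternatingGroup.2 (by
      rw [map_mul, h, Perm.sign_swap hab]; decide)⟩, Subtype.ext ?_⟩
    show g * swap a b * (y : Perm (Fin 9)) * (g * swap a b)⁻¹ = x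
    rw [mul_assoc g, hsw, ← hg]; group

theorem conj_four {x : A9} (hx : x * x = 1) (h8 : movedN x = 8) :
    ∃ g : A9, g * fourN * g⁻¹ = x := by
  have hx1 : x ≠ 1 := by
    rintro rfl
    exact absurd h8 (by decide +kernel)
  exact conj_invol_nine (a := 6) (b := 7) (by decide) hx hx1 (by decide +kernel) (by decide +kernel)
    (h8.trans (by decide +kernel)) (by decide +kernel)

theorem conj_eps {x : A9} (hx : x * x = 1) (h4 : movedN x = 4) :
    ∃ g : A9, g * epsN * g⁻¹ = x := by
  have hx1 : x ≠ 1 := by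
    rintro rfl
    exact absurd h4 (by decide +kernel)
  exact conj_invol_nine (a := 0) (b := 1) (by decide) hx hx1 (by decide +kernel) (by decide +kernel)
    (h4.trans (by decide +kernel)) (by decide +kernel)

theorem pairN_mul (σ σ' : Perm (Fin 4)) (τ τ' : Perm (Fin 5)) :
    pairN σ τ * pairN σ' τ' = pairN (σ * σ') (τ * τ') := by
  ext i
  obtain ⟨j | j, rfl⟩ := e9.surjective i <;> simp [pairN, Equiv.permCongr_apply]

theorem pairN_one : pairN 1 1 = 1 := by decide +kernel

theorem pairN_inv (σ : Perm (Fin 4)) (τ : Perm (Fin 5)) : (pairN σ τ)⁻¹ = pairN σ⁻¹ τ⁻¹ :=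
  inv_eq_of_mul_eq_one_right (by rw [pairN_mul, mul_inv_cancel, mul_inv_cancel, pairN_one])

theorem pairN_inj {σ σ' : Perm (Fin 4)} {τ τ' : Perm (Fin 5)} (h : pairN σ τ = pairN σ' τ') :
    σ = σ' ∧ τ = τ' := by
  refine ⟨Equiv.ext fun i => ?_, Equiv.ext fun i => ?_⟩
  · have := congrArg (fun y : Perm (Fin 9) => e9.symm (y (e9 (.inl i)))) h
    simpa [pairN, Equiv.permCongr_apply] using this
  · have := congrArg (fun y : Perm (Fin 9) => e9.symm (y (e9 (.inr i)))) h
    simpa [pairN, Equiv.permCongr_apply] using this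

theorem pair_named : (epsN : Perm (Fin 9)) = pairN eps4 1 ∧ (delN : Perm (Fin 9)) = pairN del4 1 ∧
    ((delN * epsN : A9) : Perm (Fin 9)) = pairN (del4 * eps4) 1 ∧
    (sigN : Perm (Fin 9)) = pairN (swap 0 1) (swap 1 2) ∧
    (t9 0 : Perm (Fin 9)) = pairN 1 (swap 1 2 * swap 2 0) ∧
    (t9 3 : Perm (Fin 9)) = pairN 1 (swap 1 2 * swap 2 3) ∧
    (t9 4 : Perm (Fin 9)) = pairN 1 (swap 1 2 * swap 2 4) := by decide +kernel

theorem moved_pair (σ : Perm (Fin 4)) (τ : Perm (Fin 5)) : movedN (pairN σ τ) =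
    (Finset.univ.filter fun i => σ i ≠ i).card + (Finset.univ.filter fun i => τ i ≠ i).card := by
  simp only [movedN, Finset.card_filter]
  rw [← e9.sum_comp, Fintype.sum_sum_type]
  simp [pairN, Equiv.permCongr_apply]

theorem four_classes : ∀ σ : Perm (Fin 4), σ * σ = 1 → σ * eps4 = eps4 * σ →
    (σ = 1 ∨ σ = swap 0 1 ∨ σ = swap 2 3 ∨ σ = eps4 ∨ σ = del4 ∨ σ = del4 * eps4) ∧
    (σ * del4 = del4 * σ ∨ σ * del4 = del4 * eps4 * σ) := by decide +kernel

theorem cards_four :
    (Finset.univ.filter fun i => (1 : Perm (Fin 4)) i ≠ i).card = 0 ∧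
    (Finset.univ.filter fun i => (swap 0 1 : Perm (Fin 4)) i ≠ i).card = 2 ∧
    (Finset.univ.filter fun i => (swap 2 3 : Perm (Fin 4)) i ≠ i).card = 2 ∧
    (Finset.univ.filter fun i => eps4 i ≠ i).card = 4 ∧
    (Finset.univ.filter fun i => del4 i ≠ i).card = 4 ∧
    (Finset.univ.filter fun i => (del4 * eps4) i ≠ i).card = 4 ∧
    (Finset.univ.filter fun i => (1 * eps4 : Perm (Fin 4)) i ≠ i).card = 4 ∧
    (Finset.univ.filter fun i => (1 : Perm (Fin 5)) i ≠ i).card = 0 := by decide +kernel

theorem four_del : ∀ σ : Perm (Fin 4), σ * eps4 = eps4 * σ →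
    σ * del4 = del4 * σ ∨ σ * del4 = del4 * eps4 * σ := by decide +kernel

theorem five_classes : ∀ τ : Perm (Fin 5), τ * τ = 1 →
    ((Finset.univ.filter fun i => τ i ≠ i).card = 2 ∧ ∃ g : A5,
        (g : Perm (Fin 5)) * swap 1 2 * (g : Perm (Fin 5))⁻¹ = τ) ∨
      (Finset.univ.filter fun i => τ i ≠ i).card = 4 ∨ τ = 1 := by decide +kernel

theorem five_centre : ∀ τ : Perm (Fin 5),
    τ * (swap 1 2 * swap 2 0) = swap 1 2 * swap 2 0 * τ →
    τ * (swap 1 2 * swap 2 3) = swap 1 2 * swap 2 3 * τ →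
    τ * (swap 1 2 * swap 2 4) = swap 1 2 * swap 2 4 * τ → τ = 1 := by decide +kernel

/-- the even permutation given by an involution of the first part and an even one of the second -/
def evenPair (b : Bool) (τ : A5) : A9 :=
  ⟨pairN (if b then swap 0 2 * swap 1 3 else 1) τ, by
    rw [Equiv.Perm.mem_alternatingGroup, pairN, Perm.sign_permCongr, Perm.sign_sumCongr,
      Equiv.Perm.mem_alternatingGroup.1 τ.2]
    cases b <;> simp⟩

/-- the involutions commuting with the reflection, of its class but not its four group -/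
theorem classes {x : A9} (h2 : x * x = 1) (hc : x * epsN = epsN * x) (h4 : movedN x = 4)
    (h8 : movedN ((x * epsN : A9) : Perm (Fin 9)) ≠ 8) :
    (x = epsN ∨ x = delN ∨ x = delN * epsN) ∨
      ∃ g : A9, g * epsN = epsN * g ∧ g * sigN * g⁻¹ = x := by
  obtain ⟨σ, τ, hx⟩ := cent_split (congrArg Subtype.val hc)
  obtain ⟨ne, nd, nde, ns, -⟩ := pair_named
  have h2' : pairN (σ * σ) (τ * τ) = pairN 1 1 := by
    rw [← pairN_mul, ← hx, pairN_one]; exact congrArg Subtype.val h2
  have hc' : pairN (σ * eps4) τ = pairN (eps4 * σ) τ := by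
    have h := congrArg Subtype.val hc
    simp only [Subgroup.coe_mul, hx, ne, pairN_mul, mul_one, one_mul] at h
    exact h
  obtain ⟨hs, ht⟩ := pairN_inj h2'
  rw [hx, moved_pair] at h4
  rw [Subgroup.coe_mul, hx, ne, pairN_mul, moved_pair, mul_one] at h8
  have he : eps4 * eps4 = 1 := by decide +kernel
  rcases five_classes τ ht with ⟨hm, g, hg⟩ | hm | rfl
  · right
    have hev : ∀ b : Bool, (evenPair b g * epsN = epsN * evenPair b g) ∧
        (evenPair b g : Perm (Fin 9)) * (sigN : Perm (Fin 9)) * (evenPair b g : Perm (Fin 9))⁻¹ =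
          pairN (if b then swap 2 3 else swap 0 1) τ := by
      intro b
      refine ⟨Subtype.ext ?_, ?_⟩
      · show pairN _ _ * _ = _ * pairN _ _
        rw [ne, pairN_mul, pairN_mul, mul_one, one_mul]
        congr 1
        cases b
        · rfl
        · decide +kernel
      · show pairN _ _ * _ * (pairN _ _)⁻¹ = _
        rw [ns, pairN_inv, pairN_mul, pairN_mul, hg]
        congr 1
        cases b <;> decide +kernel
    rcases (four_classes σ hs (pairN_inj hc').1).1 with rfl | rfl | rfl | rfl | rfl | rfl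
    · rw [hm] at h4; simp only [cards_four] at h4; omega
    · exact ⟨_, (hev false).1, Subtype.ext ((hev false).2.trans hx.symm)⟩
    · exact ⟨_, (hev true).1, Subtype.ext ((hev true).2.trans hx.symm)⟩
    all_goals rw [hm] at h4; simp only [cards_four] at h4; omega
  · rw [hm] at h4 h8
    rcases (four_classes σ hs (pairN_inj hc').1).1 with rfl | rfl | rfl | rfl | rfl | rfl
    · simp only [cards_four] at h8; omega
    all_goals simp only [cards_four] at h4; omega
  · left
    rcases (four_classes σ hs (pairN_inj hc').1).1 with rfl | rfl | rfl | rfl | rfl | rfl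
    · simp only [cards_four] at h4; omega
    · simp only [cards_four] at h4; omega
    · simp only [cards_four] at h4; omega
    · exact Or.inl (Subtype.ext (hx.trans ne.symm))
    · exact Or.inr (Or.inl (Subtype.ext (hx.trans nd.symm)))
    · exact Or.inr (Or.inr (Subtype.ext (hx.trans nde.symm)))

/-- the involutions centralising three generators and the reflection -/
theorem centre {x : A9} (h2 : x * x = 1) (hc : x * epsN = epsN * x)
    (hm : movedN x = 4 ∨ movedN x = 8) (h0 : x * t9 0 = t9 0 * x) (h3 : x * t9 3 = t9 3 * x)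
    (h4 : x * t9 4 = t9 4 * x) : x = epsN ∨ x = delN ∨ x = delN * epsN := by
  obtain ⟨σ, τ, hx⟩ := cent_split (congrArg Subtype.val hc)
  obtain ⟨ne, nd, nde, -, n0, n3, n4⟩ := pair_named
  replace h2 := congrArg Subtype.val h2
  replace hc := congrArg Subtype.val hc
  replace h0 := congrArg Subtype.val h0
  replace h3 := congrArg Subtype.val h3
  replace h4 := congrArg Subtype.val h4
  simp only [Subgroup.coe_mul, Subgroup.coe_one, hx, ne, n0, n3, n4, pairN_mul, ← pairN_one]
    at h2 hc h0 h3 h4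
  obtain rfl := five_centre τ (pairN_inj h0).2 (pairN_inj h3).2 (pairN_inj h4).2
  rw [hx, moved_pair] at hm
  rcases (four_classes σ (pairN_inj h2).1 (pairN_inj hc).1).1 with
    rfl | rfl | rfl | rfl | rfl | rfl
  · simp only [cards_four] at hm; omega
  · simp only [cards_four] at hm; omega
  · simp only [cards_four] at hm; omega
  · exact Or.inl (Subtype.ext (hx.trans ne.symm))
  · exact Or.inr (Or.inl (Subtype.ext (hx.trans nd.symm)))
  · exact Or.inr (Or.inr (Subtype.ext (hx.trans nde.symm)))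

/-- the centraliser of the reflection permutes the second involution inside its pair -/
theorem cent_del {x : A9} (hc : x * epsN = epsN * x) :
    x * delN * x⁻¹ = delN ∨ x * delN * x⁻¹ = delN * epsN := by
  obtain ⟨σ, τ, hx⟩ := cent_split (congrArg Subtype.val hc)
  obtain ⟨ne, nd, nde, -⟩ := pair_named
  replace hc := congrArg Subtype.val hc
  simp only [Subgroup.coe_mul, hx, ne, pairN_mul] at hc
  rcases four_del σ (pairN_inj hc).1 with h | h
  · refine Or.inl (mul_inv_eq_iff_eq_mul.2 (Subtype.ext ?_))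
    rw [Subgroup.coe_mul, Subgroup.coe_mul, hx, nd, pairN_mul, pairN_mul, h, mul_one, one_mul]
  · refine Or.inr (mul_inv_eq_iff_eq_mul.2 (Subtype.ext ?_))
    rw [Subgroup.coe_mul, Subgroup.coe_mul _ (delN * epsN) x, nde, hx, nd, pairN_mul, pairN_mul, h,
      mul_one, one_mul]

theorem four_weight : nu ((1, 1, 0) : V) * fourN = fourN * nu ((1, 1, 0) : V) := by decide +kernel

end CfsgLib.Recog.AltNine
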