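import Cfsg.Agent.Lib.Recog.AltNine.Middle
import Cfsg.Agent.Lib.TISylow.Structure
import Cfsg.Agent.S0497

/-!
# The centraliser of a weight one element: local or `3 × A₆`
-/

set_option autoImplicit false
set_option maxRecDepth 4000

namespace CfsgLib.Recog.AltNine

open CfsgLib.Block CfsgLib.Block.FourCube
open CfsgLib.Recog.SymNine (V Mon act comp monOne x0 e0 e1 e2 Acts Norms scal weight act_comp
  act_one act_add Cube)

/-- a generator of the stabiliser of `e1` modulo signs -/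
abbrev φm : Mon := (5, true, false, false)

/-- the powers of `φm` -/
def φpow : Fin 4 → Mon := ![monOne, φm, comp φm φm, comp (comp φm φm) φm]

theorem φpow_facts : (∀ k, detX (φpow k) = true ∧ act (φpow k) e1 = e1) ∧
    Function.Injective φpow := by decide +kernel

theorem stab_e1 : ∀ m : Mon, detX m = true → act m e1 = e1 → ∃ k, φpow k = m := by
  decide +kernel

theorem φm_four : comp (comp (comp φm φm) φm) φm = monOne ∧ comp φm φm ≠ monOne := by
  decide +kernel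

theorem e1_self : ∀ m : Mon, detX m = true → act m e1 = e1 →
    (∀ v : V, ∃ k : ZMod 3, act m v = v + scal k e1) → m = monOne := by decide +kernel

theorem plane_weight : ∀ u : V, (u.1 ≠ 0 ∨ u.2.2 ≠ 0) →
    ∃ i j : ZMod 3, 2 ≤ weight (scal i u + scal j e1) := by decide +kernel

theorem orbit_e1 : ∀ w : V, w ≠ 0 →
    2 ≤ weight w ∨ ∃ m : Mon, detX m = true ∧ act m e1 = w := by decide +kernel

theorem drop_mid : ∀ w : V, w = (w.1, 0, w.2.2) + scal w.2.1 e1 := by decide +kernel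

theorem mid_unique : ∀ (a b : ZMod 3 × ZMod 3) (k : ZMod 3),
    ((a.1, 0, a.2) : V) = (b.1, 0, b.2) + scal k e1 → a = b := by decide +kernel

theorem e1_cancel : ∀ c : ZMod 3, scal c e1 + scal (-c) e1 = 0 := by decide +kernel

theorem keep_outer : ∀ (u : V) (k : ZMod 3),
    (u + scal k e1).1 = u.1 ∧ (u + scal k e1).2.2 = u.2.2 := by decide +kernel

theorem mid_only : ∀ u : V, u.1 = 0 → u.2.2 = 0 → u = scal u.2.1 e1 := by decide +kernel

universe u

variable {G : Type u} [Group G] (D : Cfg G)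

/-- the centraliser of the middle weight one element -/
def Cfg.Six : Prop :=
  ∃ π : Subgroup.centralizer ({D.pt e1} : Set G) →* alternatingGroup (Fin 6),
    Function.Surjective π ∧ ∀ g, π g = 1 ↔ (g : G) ∈ Subgroup.zpowers (D.pt e1)

theorem Cfg.local_or_six [Finite G] : D.Local ∨ D.Six := by
  classical
  have : Fact (Nat.Prime 3) := ⟨Nat.prime_three⟩
  set M := Subgroup.centralizer ({D.pt e1} : Set G) with hM
  have memM : ∀ {g}, g ∈ M ↔ Commute g (D.pt e1) := fun {g} =>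
    Subgroup.mem_centralizer_singleton_iff
  have hJM : D.J ≤ M := fun j hj => memM.2 (D.commute_of_one hj e1)
  set Z : Subgroup M := (Subgroup.zpowers (D.pt e1)).subgroupOf M with hZ
  have memZ : ∀ {z : M}, z ∈ Z ↔ ∃ k : ZMod 3, (z : G) = D.pt (scal k e1) := by
    intro z
    rw [hZ, Subgroup.mem_subgroupOf, ← mem_powers_iff_mem_zpowers]
    constructor
    · rintro ⟨n, hn⟩
      refine ⟨(n : ZMod 3), ?_⟩
      rw [scal_pow, D.pt_nsmul, ZMod.val_natCast, ← hn]
      exact pow_eq_pow_mod n (D.J_cube (D.pt_mem_J e1))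
    · rintro ⟨k, hk⟩
      exact ⟨k.val, by rw [hk, scal_pow, D.pt_nsmul]⟩
  have hZc : Z ≤ Subgroup.center M := fun z hz => Subgroup.mem_center_iff.2 fun m => by
    obtain ⟨k, hk⟩ := memZ.1 hz
    exact Subtype.ext (by
      show (m : G) * z = z * m
      rw [hk, (D.commute_scal (memM.1 m.2) k).eq])
  have : Z.Normal := ⟨fun z hz m => by
    rw [Subgroup.mem_center_iff.1 (hZc hz) m, mul_inv_cancel_right]; exact hz⟩
  have heM : D.pt e1 ∈ M := hJM (D.pt_mem_J e1)
  have hZcard : Nat.card Z = 3 := by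
    rw [Nat.card_congr (Subgroup.subgroupOfEquivOfLe (Subgroup.zpowers_le.2 heM)).toEquiv,
      Nat.card_zpowers, D.orderOf_pt (by decide)]
  let q := QuotientGroup.mk' Z
  have qeq : ∀ {x y : M}, q x = q y → ∃ k : ZMod 3, (y : G) = (x : G) * D.pt (scal k e1) := by
    intro x y h
    obtain ⟨k, hk⟩ := memZ.1 (QuotientGroup.eq.1 h)
    exact ⟨k, by rw [← hk]; simp⟩
  let T₀ : Subgroup (M ⧸ Z) := (D.J.subgroupOf M).map q
  let pM : V → M := fun v => ⟨D.pt v, hJM (D.pt_mem_J v)⟩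
  have pM_add : ∀ v w, pM (v + w) = pM v * pM w := fun v w => Subtype.ext (D.pt_add v w)
  have pM_Z : ∀ k, q (pM (scal k e1)) = 1 := fun k =>
    (QuotientGroup.eq_one_iff _).2 (memZ.2 ⟨k, rfl⟩)
  have hpT : ∀ v, q (pM v) ∈ T₀ := fun v =>
    ⟨pM v, Subgroup.mem_subgroupOf.2 (D.pt_mem_J v), rfl⟩
  have mem_T₀ : ∀ {s}, s ∈ T₀ → ∃ v, q (pM v) = s := by
    rintro _ ⟨x, hx, rfl⟩
    obtain ⟨v, hv⟩ := D.exists_pt (Subgroup.mem_subgroupOf.1 hx)
    exact ⟨v, congrArg q (Subtype.ext hv)⟩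
  have mem_J_of_q : ∀ {g : M}, q g ∈ T₀ → (g : G) ∈ D.J := by
    intro g hg
    obtain ⟨v, hv⟩ := mem_T₀ hg
    obtain ⟨k, hk⟩ := qeq hv
    rw [hk]
    exact D.J.mul_mem (D.pt_mem_J v) (D.pt_mem_J _)
  have monM : ∀ {g : M} (hg : (g : G) ∈ D.H), ∃ k, φpow k = D.mon ⟨g, hg⟩ :=
    fun {g} hg => stab_e1 _ (D.mon_detX _) (D.mon_fix (memM.1 g.2))
  obtain ⟨t₀, ht₀⟩ := D.exists_lift φm (by decide +kernel)
  have ht₀H : t₀ ∈ D.H := (D.norms_iff t₀).1 fun v => ⟨_, ht₀ v⟩
  have ht₀M : t₀ ∈ M := memM.2 (mul_inv_eq_iff_eq_mul.1 (by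
    rw [ht₀ e1, show act φm e1 = e1 by decide +kernel]))
  set τ : D.H := ⟨t₀, ht₀H⟩ with hτ
  have monτ : D.mon τ = φm := D.mon_eq ht₀
  have monpow : ∀ k : Fin 4, D.mon (τ ^ (k : ℕ)) = φpow k := by
    intro k
    fin_cases k
    · show D.mon (τ ^ 0) = monOne
      rw [pow_zero, D.mon_one]
    · show D.mon (τ ^ 1) = φm
      rw [pow_one, monτ]
    · show D.mon (τ ^ 2) = comp φm φm
      rw [pow_two, D.mon_mul, monτ]
    · show D.mon (τ ^ 3) = comp (comp φm φm) φm
      rw [pow_succ, pow_two, D.mon_mul, D.mon_mul, monτ]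
  set tM : M := ⟨t₀, ht₀M⟩ with htM
  -- the parametrisation of the normaliser
  let F : (ZMod 3 × ZMod 3) × Fin 4 → M ⧸ Z := fun x =>
    q (pM (x.1.1, 0, x.1.2) * tM ^ (x.2 : ℕ))
  have monF : ∀ (v : V) (k : Fin 4) (h : ((pM v * tM ^ (k : ℕ) : M) : G) ∈ D.H),
      D.mon ⟨_, h⟩ = φpow k := by
    intro v k h
    have e : (⟨_, h⟩ : D.H) = ⟨D.pt v, D.pt_mem v⟩ * τ ^ (k : ℕ) := Subtype.ext (by simp [pM, tM, τ])
    rw [e, D.mon_mul, monpow, D.mon_eq (h := ⟨D.pt v, D.pt_mem v⟩) (m := monOne) fun w => by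
      rw [act_one, (D.commute_pt v w).eq, mul_inv_cancel_right]]
    exact (by decide +kernel : ∀ k, comp monOne (φpow k) = φpow k) k
  have pMH : ∀ (v : V) (k : ℕ), ((pM v * tM ^ k : M) : G) ∈ D.H := fun v k => by
    simpa [pM, tM] using D.H.mul_mem (D.pt_mem v) (D.H.pow_mem ht₀H k)
  have surjF : ∀ g : M, (g : G) ∈ D.H → ∃ x, F x = q g := by
    intro g hg
    obtain ⟨k, hk⟩ := monM hg
    obtain ⟨ki, hki⟩ : ∃ x : D.H, x = ⟨g, hg⟩ * (τ ^ (k : ℕ))⁻¹ := ⟨_, rfl⟩
    have h1 : D.mon ki = monOne := by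
      have h2 : D.mon (ki * τ ^ (k : ℕ)) = φpow k := by rw [hki, inv_mul_cancel_right, ← hk]
      rw [D.mon_mul, monpow] at h2
      exact (by decide +kernel : ∀ (m : Mon) (k : Fin 4), comp m (φpow k) = φpow k → m = monOne)
        _ k h2
    obtain ⟨w, hw⟩ := D.exists_pt (D.mem_of_mon h1)
    refine ⟨((w.1, w.2.2), k), ?_⟩
    have e : g = pM w * tM ^ (k : ℕ) := Subtype.ext (by
      simp [pM, tM, hw, hki, τ])
    show q (pM (w.1, 0, w.2.2) * tM ^ (k : ℕ)) = q g
    rw [e]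
    conv_rhs => rw [drop_mid w, pM_add, map_mul, map_mul, pM_Z, mul_one]
    rw [map_mul]
  have injF : Function.Injective F := by
    rintro ⟨a, k⟩ ⟨b, l⟩ h
    obtain ⟨c, hc⟩ := qeq h
    have hkl : k = l := φpow_facts.2 (by
      rw [← monF _ l (pMH _ _), ← monF (((a.1, 0, a.2) : V) + scal c e1) k (pMH _ _)]
      congr 1
      refine Subtype.ext (hc.trans ?_).symm
      have hcm : Commute (D.pt (scal c e1)) ((tM ^ (k : ℕ) : M) : G) :=
        (D.commute_scal ((memM.1 (tM ^ (k : ℕ)).2)) c).symm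
      simp only [pM, Subgroup.coe_mul]
      rw [D.pt_add, mul_assoc, mul_assoc, hcm.eq])
    subst hkl
    refine Prod.ext (mid_unique _ _ (-c) (D.pt_inj ?_)) rfl
    have hcm : Commute (D.pt (scal c e1)) ((tM ^ (k : ℕ) : M) : G) :=
      (D.commute_scal ((memM.1 (tM ^ (k : ℕ)).2)) c).symm
    have hc' : D.pt (b.1, 0, b.2) = D.pt (a.1, 0, a.2) * D.pt (scal c e1) := by
      have h1 : D.pt (b.1, 0, b.2) * ((tM ^ (k : ℕ) : M) : G) =
          D.pt (a.1, 0, a.2) * D.pt (scal c e1) * ((tM ^ (k : ℕ) : M) : G) := by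
        rw [mul_assoc (D.pt (a.1, 0, a.2)), hcm.eq, ← mul_assoc]
        simpa [pM] using hc
      exact mul_right_cancel h1
    rw [D.pt_add, hc', mul_assoc, ← D.pt_add,
      e1_cancel, D.pt_zero, mul_one]
  have hcard : Nat.card T₀ = 9 := by
    let f : D.J.subgroupOf M →* M ⧸ Z := q.comp (D.J.subgroupOf M).subtype
    have hr : f.range = T₀ := by
      rw [MonoidHom.range_comp, Subgroup.range_subtype]
    have hk : Nat.card f.ker = 3 := by
      rw [← hZcard]
      refine Nat.card_congr ⟨fun x => ⟨(x.1 : M), (QuotientGroup.eq_one_iff _).1 x.2⟩,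
        fun z => ⟨⟨z, ?_⟩, (QuotientGroup.eq_one_iff (z : M)).2 z.2⟩, fun x => rfl, fun z => rfl⟩
      obtain ⟨k, hk⟩ := memZ.1 z.2
      exact Subgroup.mem_subgroupOf.2 (hk ▸ D.pt_mem_J _)
    have h := Subgroup.card_mul_index f.ker
    rw [Subgroup.index_ker, hr, hk, Nat.card_congr (Subgroup.subgroupOfEquivOfLe hJM).toEquiv,
      D.card_J] at h
    omega
  have hT₀p : IsPGroup 3 T₀ := IsPGroup.of_card (n := 2) (by rw [hcard]; norm_num)
  obtain ⟨T, hT⟩ := hT₀p.exists_le_sylow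
  have hTeq : (T : Subgroup (M ⧸ Z)) = T₀ := by
    refine le_antisymm (fun s hs => ?_) hT
    obtain ⟨g, rfl⟩ := QuotientGroup.mk'_surjective Z s
    have hp : IsPGroup 3 ((T : Subgroup (M ⧸ Z)).comap q) :=
      T.isPGroup'.comap_of_ker_isPGroup q (by
        rw [QuotientGroup.ker_mk']
        exact IsPGroup.of_card (n := 1) (by rw [hZcard]; norm_num))
    have hle := D.le_of_three_group _ (hp.map M.subtype) fun j hj =>
      ⟨⟨j, hJM hj⟩, hT ⟨_, Subgroup.mem_subgroupOf.2 hj, rfl⟩, rfl⟩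
    have hgH : (g : G) ∈ D.H := hle ⟨g, hs, rfl⟩
    obtain ⟨k, hk⟩ := monM hgH
    refine ⟨g, Subgroup.mem_subgroupOf.2 ?_, rfl⟩
    refine D.mem_of_mon (h := ⟨g, hgH⟩) ?_
    obtain ⟨n, hn⟩ := hp ⟨g, hs⟩
    have hn' : (⟨g, hgH⟩ : D.H) ^ 3 ^ n = 1 :=
      Subtype.ext (congrArg (fun x : (T : Subgroup (M ⧸ Z)).comap q => ((x : M) : G)) hn)
    obtain ⟨r, hr⟩ : ∃ r, (3 : ℕ) ^ n = 2 * r + 1 := Odd.pow (by decide)
    have h4 : ∀ x : D.H, D.mon x = φpow k → D.mon (x ^ 4) = monOne := fun x hx => by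
      rw [pow_succ, pow_succ, pow_two, D.mon_mul, D.mon_mul, D.mon_mul, hx]
      exact (by decide +kernel : ∀ k : Fin 4,
        comp (comp (comp (φpow k) (φpow k)) (φpow k)) (φpow k) = monOne) k
    have hcop : Nat.Coprime (3 ^ n) 4 := (by norm_num : Nat.Coprime 3 4).pow_left n
    have hg1 : ∀ x : D.H, x ^ 3 ^ n = 1 → D.mon x = φpow k → D.mon x = monOne := by
      intro x hx hxk
      obtain ⟨s, hs⟩ : ∃ s, (x ^ 4) ^ s = x := exists_pow_eq_self_of_coprime
        (Nat.Coprime.coprime_dvd_right (orderOf_dvd_of_pow_eq_one hx) hcop.symm)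
      have h1 : ∀ s, D.mon ((x ^ 4) ^ s) = monOne := fun s => by
        induction s with
        | zero => rw [pow_zero, D.mon_one]
        | succ s ih => rw [pow_succ, D.mon_mul, ih, h4 x hxk]; decide +kernel
      rw [← hs, h1 s]
    exact hg1 _ hn' hk.symm
  have hN_iff : ∀ g : M, q g ∈ Subgroup.normalizer ((T : Subgroup (M ⧸ Z)) : Set (M ⧸ Z)) ↔
      (g : G) ∈ D.H := by
    intro g
    constructor
    · intro h
      refine (D.norms_iff _).1 fun v => ?_
      have hJg : ((g * pM v * g⁻¹ : M) : G) ∈ D.J := mem_J_of_q (by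
        rw [← hTeq, map_mul, map_mul, map_inv]
        exact (Subgroup.mem_normalizer_iff.1 h _).1 (hT (hpT v)))
      obtain ⟨w, hw⟩ := D.exists_pt hJg
      exact ⟨w, hw.symm⟩
    · intro h
      refine Subgroup.mem_normalizer_fintype fun s hs => ?_
      obtain ⟨v, rfl⟩ := mem_T₀ (hTeq.le hs)
      rw [SetLike.mem_coe, hTeq]
      refine ⟨g * pM v * g⁻¹, Subgroup.mem_subgroupOf.2 ?_, by simp only [map_mul, map_inv]⟩
      show (g : G) * D.pt v * (g : G)⁻¹ ∈ D.J
      rw [D.acts_mon ⟨g, h⟩]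
      exact D.pt_mem_J _
  set N := Subgroup.normalizer ((T : Subgroup (M ⧸ Z)) : Set (M ⧸ Z)) with hNdef
  have hN36 : Nat.card N = 36 := by
    have e : Nat.card N = Nat.card (Set.range F) := by
      refine congrArg (fun s : Set (M ⧸ Z) => Nat.card s) ?_
      refine Set.ext fun y => ⟨fun hy => ?_, ?_⟩
      · obtain ⟨g, rfl⟩ := QuotientGroup.mk'_surjective Z y
        exact surjF g ((hN_iff g).1 hy)
      · rintro ⟨x, rfl⟩
        exact (hN_iff _).2 (pMH _ _)
    rw [e, Nat.card_range_of_injective injF]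
    simp
  have hS : CfsgLib.TISylow.Setup T := by
    refine ⟨by rw [hTeq]; exact hcard, fun s hs => ?_, fun y hy => ?_, fun s hs hs1 y hy => ?_⟩
    · obtain ⟨v, rfl⟩ := mem_T₀ (hTeq.le hs)
      rw [← map_pow, show pM v ^ 3 = 1 from Subtype.ext (D.J_cube (D.pt_mem_J v)), map_one]
    · obtain ⟨g, rfl⟩ := QuotientGroup.mk'_surjective Z y
      have hshift : ∀ v, ∃ k, (g : G) * D.pt v * (g : G)⁻¹ = D.pt (v + scal k e1) := by
        intro v
        obtain ⟨k, hk⟩ := qeq (show q (pM v) = q (g * pM v * g⁻¹) by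
          rw [map_mul, map_mul, map_inv, ← Subgroup.mem_centralizer_iff.1 hy _
            (hTeq.ge (hpT v)), mul_inv_cancel_right])
        exact ⟨k, by rw [D.pt_add]; exact hk⟩
      have hgH : (g : G) ∈ D.H := (D.norms_iff _).1 fun v => ⟨_, (hshift v).choose_spec⟩
      have h1 : D.mon ⟨g, hgH⟩ = monOne := e1_self _ (D.mon_detX _) (D.mon_fix (memM.1 g.2))
        fun v => ⟨_, D.pt_inj ((D.acts_mon ⟨g, hgH⟩ v).symm.trans (hshift v).choose_spec)⟩
      rw [hTeq]
      exact ⟨g, Subgroup.mem_subgroupOf.2 (D.mem_of_mon (h := ⟨g, hgH⟩) h1), rfl⟩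
    · obtain ⟨u, rfl⟩ := mem_T₀ (hTeq.le hs)
      obtain ⟨g, rfl⟩ := QuotientGroup.mk'_surjective Z y
      have hu : u.1 ≠ 0 ∨ u.2.2 ≠ 0 := by
        by_contra hc
        push Not at hc
        exact hs1 (by rw [mid_only u hc.1 hc.2]; exact pM_Z _)
      obtain ⟨k, hk⟩ := qeq (show q (pM u) = q (g * pM u * g⁻¹) by
        rw [map_mul, map_mul, map_inv, Subgroup.mem_centralizer_singleton_iff.1 hy,
          mul_inv_cancel_right])
      have hk' : (g : G) * D.pt u * (g : G)⁻¹ = D.pt (u + scal k e1) := by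
        rw [D.pt_add]; exact hk
      refine (hN_iff g).2 ((D.norms_iff _).1 (D.norms_of_conj_le fun v => ?_))
      have hc1 : Commute ((g : G) * D.pt v * (g : G)⁻¹) (D.pt e1) := by
        have := (D.commute_pt v e1).map (MulAut.conj (g : G)).toMonoidHom
        simpa [(memM.1 g.2).eq] using this
      have hc2 : Commute ((g : G) * D.pt v * (g : G)⁻¹) (D.pt (u + scal k e1)) := by
        rw [← hk']
        exact (D.commute_pt v u).map (MulAut.conj (g : G)).toMonoidHom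
      obtain ⟨i, j, hw⟩ := plane_weight (u + scal k e1) (by
        rw [(keep_outer u k).1, (keep_outer u k).2]; exact hu)
      exact (D.norms_iff _).1 (D.middle hw (D.commute_comb hc2 hc1 i j))
  have hf : q tM ∈ N := (hN_iff _).2 ht₀H
  have hf2 : q tM * q tM ∉ (T : Subgroup (M ⧸ Z)) := by
    intro h
    rw [hTeq, ← map_mul] at h
    have h1 : D.mon (τ * τ) = monOne := D.mon_eq fun v => by
      rw [act_one]
      exact mul_inv_eq_iff_eq_mul.2 (D.commute_of_one (mem_J_of_q h) v).eq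
    rw [D.mon_mul, monτ] at h1
    exact φm_four.2 h1
  by_cases hN : N = ⊤
  · refine Or.inl fun j hj hj1 g hg => (D.norms_iff g).1 ?_
    obtain ⟨w, rfl⟩ := D.exists_pt hj
    have hw : w ≠ 0 := fun h => hj1 (h ▸ D.pt_zero)
    have hgc : Commute g (D.pt w) := Subgroup.mem_centralizer_singleton_iff.1 hg
    rcases orbit_e1 w hw with h | ⟨m, hm, hmw⟩
    · exact D.middle h hgc
    · refine D.norms_orbit hm hmw (fun g hg => (D.norms_iff g).2 ?_) hgc
      refine (hN_iff ⟨g, memM.2 hg⟩).1 ?_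
      rw [hN]; trivial
  · obtain ⟨hsimple, h360⟩ := hS.four hN36 hf hf2 hN
    obtain ⟨ε⟩ := Cfsg.Agent.S0497.result h360
    refine Or.inr ⟨ε.toMonoidHom.comp q, ε.surjective.comp (QuotientGroup.mk'_surjective Z),
      fun g => ?_⟩
    rw [MonoidHom.comp_apply, MulEquiv.coe_toMonoidHom, EmbeddingLike.map_eq_one_iff]
    exact (QuotientGroup.eq_one_iff g).trans (by rw [hZ, Subgroup.mem_subgroupOf])

end CfsgLib.Recog.AltNine
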