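import Cfsg.Agent.Lib.Recog.AltNine.FourCases
import Cfsg.Agent.Lib.Recog.AltNine.Classes

/-!
# The centraliser of the second four group is not small
-/

set_option autoImplicit false
set_option maxRecDepth 100000

namespace CfsgLib.Recog.AltNine

open CfsgLib.Block CfsgLib.Block.FourCube Equiv
open CfsgLib.Recog.SymNine (V Mon act comp monOne x0 e0 e1 e2 Acts Norms scal weight act_comp
  act_one act_add Cube)

/-- an element of order four fixed by the reflection -/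
def yA : A6 := ⟨swap 0 1 * (swap 2 3 * swap 3 4 * swap 4 5), by
  simp [Equiv.Perm.mem_alternatingGroup]⟩

theorem y_facts : yA * yA ≠ 1 ∧ (yA * yA) * (yA * yA) = 1 ∧ tauA yA = yA := by decide +kernel

set_option synthInstance.maxSize 2000 in
theorem prod_facts : fA ∈ D8 ∧ dA ∈ D8 ∧ dA * eA ∈ D8 ∧ fA * eA ∈ D8 ∧ kA * eA ∈ D8 ∧
    fA * fA = eA ∧ dA * tauA dA = eA ∧ fA * tauA fA = 1 ∧
    (∀ a ∈ [fA, fA * eA], ∀ b ∈ [fA, fA * eA], a * b⁻¹ = 1 ∨ a * b⁻¹ = eA) ∧
    (∀ a ∈ [dA, dA * eA], ∀ b ∈ [dA, dA * eA], a * b⁻¹ = 1 ∨ a * b⁻¹ = eA) ∧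
    (∀ a ∈ [fA, fA * eA], ∀ b ∈ [dA, dA * eA],
      a * tauA b⁻¹ ∈ [kA, kA * eA] ∧ b * tauA a⁻¹ ∈ [kA, kA * eA]) ∧
    (∀ a ∈ [kA, kA * eA], ∀ b ∈ [fA, fA * eA],
      a * tauA b = dA ∨ a * tauA b = dA * eA) ∧
    fA * tauA dA⁻¹ = kA * eA ∧ kA * eA * tauA fA = dA := by decide +kernel

theorem k_pair : ∀ a ∈ [kA, kA * eA], ∀ b ∈ [kA, kA * eA], a = b ∨ a = b * eA := by decide +kernel

theorem conj_mons :
    (∀ v, act hm (act em v) = act sm (act hm v)) ∧ (∀ v, ∃ w, act hm w = v) ∧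
    detX (3, false, false, true) = true ∧
    (∀ v, act (3, false, false, true) (act em v) =
      act (comp em sm) (act (3, false, false, true) v)) ∧
    (∀ v, ∃ w, act (3, false, false, true) w = v) ∧ detX (comp em sm) = true ∧
    comp (comp em sm) (comp em sm) = monOne ∧ comp em em = monOne := by decide +kernel

theorem f_q : fA * pA * fA⁻¹ = qA ∧ fA * qA * fA⁻¹ = pA⁻¹ := by decide +kernel

theorem f_act : act φm e0 = e2 ∧ act φm e1 = e1 ∧ act φm e2 = -e0 := by decide +kernel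

universe u

variable {G : Type u} [Group G] {D : Cfg G} (F : Frame D)

theorem Frame.f_acts : Acts D.pt (F.C.φ fA) φm := by
  obtain ⟨a0, a1, a2⟩ := f_act
  refine D.acts_of_basis ?_ ?_ ?_
  · rw [a0, ← F.C.hp, ← F.C.hq, ← map_inv, ← map_mul, ← map_mul, f_q.1]
  · rw [a1, (F.C.comm fA).eq, mul_inv_cancel_right]
  · rw [a2, D.pt_neg, ← F.C.hp, ← F.C.hq, ← map_inv, ← map_mul, ← map_mul, f_q.2, map_inv]

theorem Frame.s_phi (x : A6) : F.s * F.C.φ x = F.C.φ (tauA x) * F.s := by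
  rw [← F.s_C x]; group

theorem Frame.phi_e (x : A6) (hx : x * eA = eA * x) : Commute (F.C.φ x) F.e :=
  (show Commute x eA from hx).map F.C.φ

/-- an involution acting as a conjugate of the reflection is conjugate to it -/
theorem Frame.conj_of_mon [Finite G] {m n : Mon} (hm : detX m = true)
    (hconj : ∀ v, act m (act em v) = act n (act m v)) (hsurj : ∀ v, ∃ w, act m w = v)
    {x : G} (hx : x * x = 1) (hxn : Acts D.pt x n) : ∃ g, g * F.e * g⁻¹ = x := by
  obtain ⟨h, hh⟩ := D.exists_lift m hm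
  have hi : Acts D.pt (h * F.e * h⁻¹) n := by
    intro v
    obtain ⟨w, rfl⟩ := hsurj v
    rw [← hh w, show h * F.e * h⁻¹ * (h * D.pt w * h⁻¹) * (h * F.e * h⁻¹)⁻¹ =
      h * (F.e * D.pt w * F.e⁻¹) * h⁻¹ by group, F.C.e_acts w, hh, hconj]
  have hi2 : h * F.e * h⁻¹ * (h * F.e * h⁻¹) = 1 := by
    rw [show h * F.e * h⁻¹ * (h * F.e * h⁻¹) = h * (F.e * F.e) * h⁻¹ by group, F.C.e_sq]
    group
  obtain ⟨v, hv⟩ := D.cube.conj_invol hx hi2 hxn hi
  exact ⟨D.cube.pt v * h, by rw [← hv]; group⟩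

/-- the eight-element group extended by the reflection -/
noncomputable def Frame.E : Subgroup G where
  carrier := {g | ∃ x ∈ D8, g = F.C.φ x ∨ g = F.C.φ x * F.s}
  one_mem' := ⟨1, List.mem_cons_self, Or.inl (map_one _).symm⟩
  mul_mem' := by
    rintro a b ⟨x, hx, ha⟩ ⟨y, hy, hb⟩
    have hty : tauA y ∈ D8 := (D8_mul y hy y hy).2.1
    rcases ha with rfl | rfl <;> rcases hb with rfl | rfl
    · exact ⟨_, (D8_mul x hx y hy).1, Or.inl (map_mul _ _ _).symm⟩
    · exact ⟨_, (D8_mul x hx y hy).1, Or.inr (by rw [map_mul, mul_assoc])⟩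
    · exact ⟨_, (D8_mul x hx _ hty).1, Or.inr (by rw [mul_assoc, F.s_phi, map_mul, mul_assoc])⟩
    · refine ⟨_, (D8_mul x hx _ hty).1, Or.inl ?_⟩
      rw [map_mul, mul_assoc, ← mul_assoc F.s, F.s_phi, mul_assoc (F.C.φ (tauA y)), F.s_sq, mul_one]
  inv_mem' := by
    rintro a ⟨x, hx, rfl | rfl⟩
    · exact ⟨_, (D8_mul x hx x hx).2.2, Or.inl (map_inv _ _).symm⟩
    · refine ⟨tauA x⁻¹, (D8_mul _ (D8_mul x hx x hx).2.2 _ hx).2.1, Or.inr ?_⟩
      rw [mul_inv_rev, F.s_inv, ← map_inv, F.s_phi]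

theorem Frame.E_sq {a : G} (ha : a ∈ F.E) : a * a = 1 ∨ a * a = F.e := by
  obtain ⟨x, hx, rfl | rfl⟩ := ha
  · rw [← map_mul]
    rcases (D8_facts x hx).2.1 with h | h <;> rw [h]
    exacts [Or.inl (map_one _), Or.inr rfl]
  · rw [show F.C.φ x * F.s * (F.C.φ x * F.s) = F.C.φ x * (F.s * F.C.φ x) * F.s by group, F.s_phi,
      ← mul_assoc, ← map_mul, mul_assoc, F.s_sq, mul_one]
    rcases (D8_facts x hx).2.2.1 with h | h <;> rw [h]
    exacts [Or.inl (map_one _), Or.inr rfl]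

theorem Frame.E_e {a : G} (ha : a ∈ F.E) : Commute a F.e := by
  obtain ⟨x, hx, rfl | rfl⟩ := ha
  · exact F.phi_e x (D8_facts x hx).1
  · exact (F.phi_e x (D8_facts x hx).1).mul_left F.inN_s.1

theorem Frame.e_mem : F.e ∈ F.E := ⟨eA, by decide +kernel, Or.inl rfl⟩

theorem Frame.phi_s_sq (x : A6) : F.C.φ x * F.s * (F.C.φ x * F.s) = F.C.φ (x * tauA x) := by
  rw [show F.C.φ x * F.s * (F.C.φ x * F.s) = F.C.φ x * (F.s * F.C.φ x) * F.s by group, F.s_phi,
    ← mul_assoc, ← map_mul, mul_assoc, F.s_sq, mul_one]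

theorem Frame.ss_inv (a b : A6) :
    F.C.φ a * F.s * (F.C.φ b * F.s)⁻¹ = F.C.φ (a * b⁻¹) := by
  rw [map_mul, map_inv]; group

theorem Frame.plain_s_inv (a b : A6) :
    F.C.φ a * (F.C.φ b * F.s)⁻¹ = F.C.φ (a * tauA b⁻¹) * F.s := by
  rw [mul_inv_rev, F.s_inv, ← map_inv, F.s_phi, map_mul, mul_assoc]

theorem Frame.s_plain_inv (a b : A6) :
    F.C.φ a * F.s * (F.C.φ b)⁻¹ = F.C.φ (a * tauA b⁻¹) * F.s := by
  rw [← map_inv, mul_assoc, F.s_phi, map_mul, mul_assoc]

theorem Frame.s_not_phi (x : A6) : F.C.φ x ≠ F.s := by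
  intro h
  have h1 := F.C.comm x
  rw [h] at h1
  have h2 := F.s_u
  rw [h1.eq, mul_inv_cancel_right] at h2
  have h4 : F.u * F.u = 1 := mul_eq_one_iff_eq_inv.2 h2
  exact F.u_ne (by
    have h3 := F.u_cube
    rw [pow_succ, pow_two, h4, one_mul] at h3
    exact h3)

/-- the centraliser of the second four group is not small -/
theorem Frame.not_small [Finite G]
    (h : ∀ g, Commute g F.e → Commute g F.d → F.InN g) : False := by
  classical
  have : Fact (Nat.Prime 2) := ⟨Nat.prime_two⟩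
  have hee : F.e * F.e = 1 := F.C.e_sq
  have hd : ∀ g, Commute g F.e → (g * F.d * g⁻¹ = F.d ∨ g * F.d * g⁻¹ = F.d * F.e) → F.InN g := by
    intro g he hg
    rcases hg with hg | hg
    · exact h g he (mul_inv_eq_iff_eq_mul.1 hg)
    · have hkN : F.InN F.k := F.inN_phi kd_facts.2.2.1.symm
      have hc : Commute (F.k * g) F.d := mul_inv_eq_iff_eq_mul.1 (by
        rw [show F.k * g * F.d * (F.k * g)⁻¹ = F.k * (g * F.d * g⁻¹) * F.k⁻¹ by group, hg]
        rw [Frame.d, Frame.k, Frame.e, ← map_inv, ← map_mul, ← map_mul, ← map_mul,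
          inv_eq_of_mul_eq_one_right kd_facts.1]
        refine congrArg F.C.φ ?_
        rw [show kA * (dA * eA) * kA = kA * dA * (eA * kA) by group, kd_facts.2.2.1, ← mul_assoc,
          kd_facts.2.2.2.2.1, mul_assoc, tau_facts.2.2.2.2.1, mul_one])
      have h1 := hkN.inv.mul (h _ (hkN.1.mul_left he) hc)
      rwa [inv_mul_cancel_left] at h1
  set C := Subgroup.centralizer ({F.e} : Set G) with hC
  have hEC : F.E ≤ C := fun a ha => Subgroup.mem_centralizer_singleton_iff.2 (F.E_e ha).eq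
  have hE2 : IsPGroup 2 (F.E.subgroupOf C) := by
    intro a
    refine ⟨2, Subtype.ext (Subtype.ext ?_)⟩
    have h4 : ((a : C) : G) * ((a : C) : G) * (((a : C) : G) * ((a : C) : G)) = 1 := by
      rcases F.E_sq (Subgroup.mem_subgroupOf.1 a.2) with h | h <;> rw [h]
      exacts [one_mul 1, hee]
    simpa [show (2 : ℕ) ^ 2 = 4 from rfl, pow_succ, mul_assoc] using h4
  obtain ⟨P, hP⟩ := hE2.exists_le_sylow
  by_cases hPE : (P : Subgroup C) ≤ F.E.subgroupOf C
  · -- a further element of order four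
    set y := F.C'.φ yA with hy
    have hye : Commute y F.e := by
      have h1 := F.e_C' yA
      rw [y_facts.2.2] at h1
      exact (mul_inv_eq_iff_eq_mul.1 h1).symm
    set yC : C := ⟨y, Subgroup.mem_centralizer_singleton_iff.2 hye.eq⟩
    have hy4 : yC ^ (2 ^ 2) = 1 := Subtype.ext (by
      show y ^ (2 ^ 2) = 1
      rw [hy, ← map_pow, show (2 : ℕ) ^ 2 = 2 * 2 from rfl, pow_mul, pow_two yA, pow_two,
        y_facts.2.1, map_one])
    have hyp : IsPGroup 2 (Subgroup.zpowers yC) := by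
      obtain ⟨k, -, hk⟩ := (Nat.dvd_prime_pow Nat.prime_two).mp (orderOf_dvd_of_pow_eq_one hy4)
      exact IsPGroup.of_card (n := k) (by rw [Nat.card_zpowers, hk])
    obtain ⟨P', hP'⟩ := hyp.exists_le_sylow
    obtain ⟨c, hc⟩ := MulAction.exists_smul_eq C P' P
    have hmem : c * yC * c⁻¹ ∈ (P : Subgroup C) := by
      rw [← hc]
      exact ⟨_, hP' (Subgroup.mem_zpowers _), rfl⟩
    have hmemE : (c : G) * y * (c : G)⁻¹ ∈ F.E := Subgroup.mem_subgroupOf.1 (hPE hmem)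
    have hce : Commute (c : G) F.e := Subgroup.mem_centralizer_singleton_iff.1 c.2
    have e : (c : G) * y * (c : G)⁻¹ * ((c : G) * y * (c : G)⁻¹) = (c : G) * (y * y) * (c : G)⁻¹ := by
      group
    rcases F.E_sq hmemE with h1 | h1 <;> rw [e] at h1
    · rw [conj_eq_one_iff, hy, ← map_mul, ← map_one F.C'.φ] at h1
      exact y_facts.1 (F.C'.injective h1)
    · have h2 : y * y = F.e := by
        calc y * y = (c : G)⁻¹ * ((c : G) * (y * y) * (c : G)⁻¹) * c := by group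
          _ = _ := by rw [h1, mul_assoc, ← hce.eq, inv_mul_cancel_left]
      have hc2 : Commute F.e (D.pt e2) := by
        rw [← h2, hy, ← map_mul]; exact F.C'.comm _
      have h3 := F.C.e_acts e2
      rw [mon_facts.2.2.2.2.2.2.2.2.2.1, hc2.eq, mul_inv_cancel_right] at h3
      exact (by decide +kernel : (e2 : V) ≠ -e2) (D.pt_inj h3)
  · have := P.isPGroup'.isNilpotent
    have hlt : (F.E.subgroupOf C).subgroupOf (P : Subgroup C) < ⊤ := lt_top_iff_ne_top.2 fun e =>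
      hPE (Subgroup.subgroupOf_eq_top.1 e)
    obtain ⟨g, hgN, hgE⟩ :=
      SetLike.exists_of_lt (Group.normalizerCondition_of_isNilpotent _ hlt)
    set g₁ : G := ((g : C) : G) with hg₁
    have hge : Commute g₁ F.e := Subgroup.mem_centralizer_singleton_iff.1 (g : C).2
    have hconj : ∀ a ∈ F.E, g₁ * a * g₁⁻¹ ∈ F.E := fun a ha => by
      have h1 : (⟨a, hEC ha⟩ : C) ∈ (P : Subgroup C) := hP (Subgroup.mem_subgroupOf.2 ha)
      exact Subgroup.mem_subgroupOf.1 (Subgroup.mem_subgroupOf.1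
        ((Subgroup.mem_normalizer_iff.1 hgN ⟨_, h1⟩).1
          (Subgroup.mem_subgroupOf.2 (Subgroup.mem_subgroupOf.2 ha))))
    obtain ⟨pf, pd, -, -, pke, qf, qd, qz, sameF, sameD, mixed, prodd, hp₁, hp₂⟩ := prod_facts
    set a₁ := F.C.φ fA with ha₁
    set a₂ := F.C.φ dA * F.s with ha₂
    set z := F.C.φ fA * F.s with hz
    have he' : g₁ * F.e * g₁⁻¹ = F.e := mul_inv_eq_iff_eq_mul.2 hge.eq
    have inj : ∀ {a b : G}, g₁ * a * g₁⁻¹ = g₁ * b * g₁⁻¹ → a = b := fun h =>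
      mul_left_cancel (mul_right_cancel h)
    have a₁E : a₁ ∈ F.E := ⟨fA, pf, Or.inl rfl⟩
    have a₂E : a₂ ∈ F.E := ⟨dA, pd, Or.inr rfl⟩
    have zE : z ∈ F.E := ⟨fA, pf, Or.inr rfl⟩
    have sqimg : ∀ {a c : G}, a * a = c → g₁ * a * g₁⁻¹ * (g₁ * a * g₁⁻¹) = g₁ * c * g₁⁻¹ :=
      fun {a c} h => by rw [← h]; group
    have four : ∀ b ∈ F.E, b * b = F.e →
        (∃ x ∈ [fA, fA * eA], b = F.C.φ x) ∨ (∃ x ∈ [dA, dA * eA], b = F.C.φ x * F.s) := by
      rintro b ⟨x, hx, rfl | rfl⟩ hb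
      · rw [← map_mul] at hb
        exact Or.inl ⟨x, by simpa using (D8_facts x hx).2.2.2.1 (F.C.injective hb), rfl⟩
      · rw [F.phi_s_sq] at hb
        exact Or.inr ⟨x, by simpa using (D8_facts x hx).2.2.2.2.1 (F.C.injective hb), rfl⟩
    -- the product
    set p := a₁ * a₂⁻¹ with hp
    have hpval : p = F.C.φ (kA * eA) * F.s := by rw [hp, ha₁, ha₂, F.plain_s_inv, hp₁]
    have hpne : p ≠ 1 ∧ p ≠ F.e := by
      have key : ∀ x y : A6, F.C.φ x * F.s ≠ F.C.φ y := fun x y e =>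
        F.s_not_phi (x⁻¹ * y) (by rw [map_mul, map_inv, ← e]; group)
      exact ⟨fun e => key _ 1 (by rw [← hpval, e, map_one]), fun e => key _ eA (hpval ▸ e)⟩
    have himgp : g₁ * p * g₁⁻¹ = (g₁ * a₁ * g₁⁻¹) * (g₁ * a₂ * g₁⁻¹)⁻¹ := by rw [hp]; group
    have hsk : ∃ x ∈ [kA, kA * eA], g₁ * p * g₁⁻¹ = F.C.φ x * F.s := by
      have hno : ∀ x y : A6, x * y⁻¹ = 1 ∨ x * y⁻¹ = eA → g₁ * p * g₁⁻¹ ≠ F.C.φ (x * y⁻¹) := by
        intro x y hxy e
        rcases hxy with h1 | h1 <;> rw [h1] at e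
        · exact hpne.1 (inj (by rw [e, map_one, mul_one, mul_inv_cancel]))
        · exact hpne.2 (inj (by rw [e, he']))
      rcases four _ (hconj _ a₁E)
        (by rw [sqimg (show a₁ * a₁ = F.e by rw [ha₁, ← map_mul, qf]), he']) with
        ⟨x, hx, ex⟩ | ⟨x, hx, ex⟩ <;>
      rcases four _ (hconj _ a₂E)
        (by rw [sqimg (show a₂ * a₂ = F.e by rw [ha₂, F.phi_s_sq, qd]), he']) with
        ⟨y, hy, ey⟩ | ⟨y, hy, ey⟩
      · exact absurd (by rw [himgp, ex, ey, ← map_inv, ← map_mul]) (hno x y (sameF x hx y hy))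
      · exact ⟨_, (mixed x hx y hy).1, by rw [himgp, ex, ey, F.plain_s_inv]⟩
      · exact ⟨_, (mixed y hy x hx).2, by rw [himgp, ex, ey, F.s_plain_inv]⟩
      · exact absurd (by rw [himgp, ex, ey, F.ss_inv]) (hno x y (sameD x hx y hy))
    -- the image of `z`
    have hzz : z * z = 1 := by rw [hz, F.phi_s_sq, qz, map_one]
    have hw : ∃ w : V, 2 ≤ weight w ∧ Commute (D.pt w) z := by
      have hact : Acts D.pt z (comp φm sm) := fun v => by
        rw [hz, act_comp, ← F.f_acts, ← F.s_acts]; group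
      refine ⟨(1, 0, 2), by decide, ?_⟩
      have := hact (1, 0, 2)
      rw [(by decide +kernel : act (comp φm sm) ((1, 0, 2) : V) = (1, 0, 2))] at this
      exact (mul_inv_eq_iff_eq_mul.1 this).symm
    obtain ⟨w, hw2, hwc⟩ := hw
    have hnot : ∀ g' : G, g' * F.e * g'⁻¹ ≠ g₁ * z * g₁⁻¹ := fun g' e =>
      F.not_conj_e hw2 hwc (g₁⁻¹ * g') (by
        rw [show g₁⁻¹ * g' * F.e * (g₁⁻¹ * g')⁻¹ = g₁⁻¹ * (g' * F.e * g'⁻¹) * g₁ by group, e]
        group)
    obtain ⟨cs, hsurj, cd, cse, hsurj', -, cn2, -⟩ := conj_mons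
    have hzimg : ∃ x ∈ [fA, fA * eA], g₁ * z * g₁⁻¹ = F.C.φ x * F.s := by
      have hb2 : g₁ * z * g₁⁻¹ * (g₁ * z * g₁⁻¹) = 1 := by
        rw [sqimg hzz, mul_one, mul_inv_cancel]
      have hb1 : g₁ * z * g₁⁻¹ ≠ 1 := fun e => by
        have : z = 1 := conj_eq_one_iff.1 e
        exact F.s_not_phi fA⁻¹ (by
          rw [map_inv]; exact inv_eq_of_mul_eq_one_right this)
      obtain ⟨x, hx, hbx | hbx⟩ := hconj _ zE
      · exfalso
        rw [hbx, ← map_mul, ← map_one F.C.φ] at hb2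
        have hx1 : x ≠ 1 := fun e => hb1 (by rw [hbx, e, map_one])
        have conjd : ∀ g : A6, g * eA * g⁻¹ = x → False := fun g e => hnot (F.C.φ g) (by
          rw [hbx, ← e, map_mul, map_mul, map_inv])
        rcases (D8_facts x hx).2.2.2.2.2.1 (F.C.injective hb2) hx1 with rfl | rfl | rfl | rfl | rfl
        · exact conjd 1 (by group)
        · exact conjd vA v_facts.2.2.2.1
        · exact conjd (vA * vA) (by
            rw [show vA * vA * eA * (vA * vA)⁻¹ = vA * (vA * eA * vA⁻¹) * vA⁻¹ by group,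
              v_facts.2.2.2.1, v_facts.2.2.2.2])
        · exact conjd (βA * βA) (by
            rw [show βA * βA * eA * (βA * βA)⁻¹ = βA * (βA * eA * βA⁻¹) * βA⁻¹ by group,
              β_facts.2.2.2.1, show βA * (eA * dA) * βA⁻¹ = βA * eA * βA⁻¹ * (βA * dA * βA⁻¹) by
                group, β_facts.2.2.2.1, β_facts.2.2.2.2, mul_assoc, ← kd_facts.2.2.2.1, ← mul_assoc,
              tau_facts.2.2.2.2.1, one_mul])
        · exact conjd βA β_facts.2.2.2.1
      · rw [hbx] at hb2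
        rw [F.phi_s_sq, ← map_one F.C.φ] at hb2
        have hsp : ∀ a b : A6, F.C.φ a * F.s = F.C.φ b * F.s → a = b :=
          fun a b e => F.C.injective (mul_right_cancel e)
        have hkcase : x ∈ [kA, kA * eA] → False := by
          intro hxk
          obtain ⟨x', hx', hpx⟩ := hsk
          have hgp : g₁ * (p * F.e) * g₁⁻¹ = F.C.φ (x' * eA) * F.s := by
            rw [show g₁ * (p * F.e) * g₁⁻¹ = g₁ * p * g₁⁻¹ * (g₁ * F.e * g₁⁻¹) by group, hpx, he',
              mul_assoc (F.C.φ x'), F.inN_s.1.eq, ← mul_assoc, ← map_mul]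
          rcases k_pair x hxk x' hx' with rfl | rfl
          · have e : z = p := inj (hbx.trans hpx.symm)
            rw [hpval, hz] at e
            exact (by decide +kernel : fA ≠ kA * eA) (hsp _ _ e)
          · have e : z = p * F.e := inj (hbx.trans hgp.symm)
            rw [hpval, hz, mul_assoc (F.C.φ (kA * eA)), F.inN_s.1.eq, ← mul_assoc, ← map_mul] at e
            exact (by decide +kernel : fA ≠ kA * eA * eA) (hsp _ _ e)
        rcases (D8_facts x hx).2.2.2.2.2.2 (F.C.injective hb2) with rfl | rfl | rfl | rfl | rfl | rfl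
        · exfalso
          obtain ⟨g', hg'⟩ := F.conj_of_mon mon_facts.2.2.2.1 cs hsurj F.s_sq F.s_acts
          exact hnot g' (by rw [hbx, map_one, one_mul, hg'])
        · exfalso
          have hact : Acts D.pt (F.e * F.s) (comp em sm) := fun v => by
            rw [act_comp, ← F.C.e_acts, ← F.s_acts]; group
          obtain ⟨g', hg'⟩ := F.conj_of_mon cd cse hsurj'
            (by
              show F.C.φ eA * F.s * (F.C.φ eA * F.s) = 1
              rw [F.phi_s_sq, tau_facts.2.2.1, tau_facts.2.2.2.2.1, map_one]) hact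
          exact hnot g' (by rw [hbx, hg'])
        · exact (hkcase (by simp)).elim
        · exact (hkcase (by simp)).elim
        · exact ⟨fA, by simp, hbx⟩
        · exact ⟨fA * eA, by simp, hbx⟩
    -- hence `d` is kept
    obtain ⟨x, hx, hpx⟩ := hsk
    obtain ⟨y, hy, hzy⟩ := hzimg
    have hdz : F.d = p * z := by
      rw [hpval, hz, show F.C.φ (kA * eA) * F.s * (F.C.φ fA * F.s) =
        F.C.φ (kA * eA) * (F.s * F.C.φ fA) * F.s by group, F.s_phi, mul_assoc, mul_assoc, F.s_sq,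
        mul_one, ← map_mul, hp₂]
    have himg : g₁ * F.d * g₁⁻¹ = F.d ∨ g₁ * F.d * g₁⁻¹ = F.d * F.e := by
      have e : g₁ * F.d * g₁⁻¹ = F.C.φ (x * tauA y) := by
        rw [hdz, show g₁ * (p * z) * g₁⁻¹ = (g₁ * p * g₁⁻¹) * (g₁ * z * g₁⁻¹) by group, hpx, hzy,
          show F.C.φ x * F.s * (F.C.φ y * F.s) = F.C.φ x * (F.s * F.C.φ y) * F.s by group, F.s_phi,
          mul_assoc, mul_assoc, F.s_sq, mul_one, ← map_mul]
      rcases prodd x hx y hy with h1 | h1 <;> rw [e, h1]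
      · exact Or.inl rfl
      · exact Or.inr (map_mul _ _ _)
    obtain ⟨i, v, hv, hgv⟩ := (hd g₁ hge himg).shape
    have hvE : F.C.φ v ∈ F.E ∧ F.C.φ v * F.s ∈ F.E :=
      ⟨⟨v, mem_D8 hv, Or.inl rfl⟩, ⟨v, mem_D8 hv, Or.inr rfl⟩⟩
    have hiu : D.pt (scal i e1) = 1 := by
      obtain ⟨r, hrE, hgr⟩ : ∃ r ∈ F.E, g₁ = D.pt (scal i e1) * r := by
        rcases hgv with e | e
        · exact ⟨_, hvE.1, e⟩
        · exact ⟨_, hvE.2, by rw [e, mul_assoc]⟩
      have hzC : Commute (D.pt (scal i e1)) F.e := (D.commute_scal (F.C.comm eA) i).symm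
      set ζ : C := ⟨D.pt (scal i e1), Subgroup.mem_centralizer_singleton_iff.2 hzC.eq⟩
      have hζ : ζ ∈ (P : Subgroup C) := by
        have e : ζ = (g : C) * (⟨r, hEC hrE⟩ : C)⁻¹ := Subtype.ext (by
          show D.pt (scal i e1) = g₁ * r⁻¹
          rw [hgr, mul_inv_cancel_right])
        rw [e]
        exact (P : Subgroup C).mul_mem g.2 ((P : Subgroup C).inv_mem
          (hP (Subgroup.mem_subgroupOf.2 hrE)))
      obtain ⟨n, hn⟩ := P.isPGroup' ⟨ζ, hζ⟩
      have h1 : D.pt (scal i e1) ^ 2 ^ n = 1 :=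
        congrArg (fun x : (P : Subgroup C) => ((x : C) : G)) hn
      have h2 : D.pt (scal i e1) ^ Nat.gcd (2 ^ n) 3 = 1 :=
        pow_gcd_eq_one.2 ⟨h1, D.J_cube (D.pt_mem_J _)⟩
      have hgcd : Nat.gcd (2 ^ n) 3 = 1 := (by norm_num : Nat.Coprime 2 3).pow_left n
      rwa [hgcd, pow_one] at h2
    refine hgE (Subgroup.mem_subgroupOf.2 (Subgroup.mem_subgroupOf.2 ?_))
    show g₁ ∈ F.E
    rcases hgv with e | e <;> rw [e, hiu, one_mul]
    exacts [hvE.1, hvE.2]

end CfsgLib.Recog.AltNine
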