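import Cfsg.Agent.Lib.Recog.AltNine.Model
import Cfsg.Agent.Lib.Recog.SymNine.Planes
import Cfsg.Agent.Lib.Complement.CenterThompson

/-!
# The centraliser of a weight three element, and uniqueness of the subgroup of order 27
-/

set_option autoImplicit false
set_option maxRecDepth 4000

namespace CfsgLib.Recog.AltNine

open CfsgLib.Block CfsgLib.Block.FourCube
open CfsgLib.Recog.SymNine (V Mon act comp monOne x0 Acts Norms allVec mem_allVec fixed_small
  act_comp act_one act_injective)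

theorem monOf_eq_one : ∀ a p, Ev (⟨a, p⟩ : Big) → monOf ⟨a, p⟩ = monOne → InJ (⟨a, p⟩ : Big) := by
  decide +kernel

set_option synthInstance.maxSize 2000 in
theorem comm_three : ∀ m n : Mon, detX m = true → detX n = true →
    comp m (comp m m) = monOne → comp n (comp n n) = monOne → comp m n = comp n m → m ≠ monOne →
    n = monOne ∨ n = m ∨ n = comp m m := by decide +kernel

theorem fix_x0_three : ∀ m : Mon, detX m = true → act m x0 = x0 →
    comp m (comp m m) = monOne := by decide +kernel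

universe u

variable {G : Type u} [Group G] (D : Cfg G)

theorem Cfg.acts_unique {g : G} {m n : Mon} (hm : Acts D.pt g m) (hn : Acts D.pt g n) : m = n :=
  act_injective fun v => D.pt_inj ((hm v).symm.trans (hn v))

/-- the monomial map of an element of the normaliser -/
noncomputable def Cfg.mon (h : D.H) : Mon := monOf (D.tr h)

theorem Cfg.mon_detX (h : D.H) : detX (D.mon h) = true := detX_monOf _ _ (D.tr_ev h)

theorem Cfg.acts_mon (h : D.H) : Acts D.pt (h : G) (D.mon h) := D.acts h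

theorem Cfg.mon_eq {h : D.H} {m : Mon} (hm : Acts D.pt (h : G) m) : D.mon h = m :=
  D.acts_unique (D.acts h) hm

theorem Cfg.mon_mul (g h : D.H) : D.mon (g * h) = comp (D.mon g) (D.mon h) := by
  refine D.mon_eq fun v => ?_
  rw [act_comp, ← D.acts_mon g, ← D.acts_mon h, Subgroup.coe_mul]
  group

theorem Cfg.mon_one : D.mon 1 = monOne := D.mon_eq fun v => by
  rw [act_one, Subgroup.coe_one]; group

theorem Cfg.mem_of_mon {h : D.H} (hm : D.mon h = monOne) : (h : G) ∈ D.J :=
  (D.mem_iff h).2 (monOf_eq_one _ _ (D.tr_ev h) hm)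

theorem Cfg.mon_three {h : D.H} (h3 : (h : G) ^ 3 = 1) :
    comp (D.mon h) (comp (D.mon h) (D.mon h)) = monOne := by
  have e : h * (h * h) = 1 := Subtype.ext (by
    simpa [pow_succ, mul_assoc] using h3)
  rw [← D.mon_mul, ← D.mon_mul, e, D.mon_one]

/-- an abelian subgroup of exponent three of the normaliser is in `J` or has order at most nine -/
theorem Cfg.le_or_card_le [Finite G] (A : Subgroup G) (hA : A ≤ D.H)
    (hcomm : ∀ a ∈ A, ∀ b ∈ A, Commute a b) (hexp : ∀ a ∈ A, a ^ 3 = 1) :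
    A ≤ D.J ∨ Nat.card A ≤ 9 := by
  classical
  refine or_iff_not_imp_left.2 fun hAJ => ?_
  obtain ⟨a, ha, haJ⟩ := SetLike.not_le_iff_exists.1 hAJ
  set α : D.H := ⟨a, hA ha⟩ with hα
  have hm : D.mon α ≠ monOne := fun h => haJ (D.mem_of_mon h)
  have hfix : ∀ c ∈ A, ∀ hc : c ∈ D.H, D.mon ⟨c, hc⟩ = monOne →
      ∃ w, act (D.mon α) w = w ∧ D.pt w = c := by
    intro c hc hcH h1
    obtain ⟨w, rfl⟩ := D.exists_pt (D.mem_of_mon h1)
    refine ⟨w, D.pt_inj ?_, rfl⟩
    rw [← D.acts_mon α w, (hcomm a ha _ hc).eq, mul_inv_cancel_right]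
  let F : Finset G := (((allVec.filter fun v => decide (act (D.mon α) v = v)).map D.pt).flatMap
    fun c => [c, a * c, a * a * c]).toFinset
  have hF : F.card ≤ 9 := by
    refine (List.toFinset_card_le _).trans ?_
    have := fixed_small _ (D.mon_three (h := α) (hexp a ha)) hm
    simp only [List.length_flatMap, List.length_cons, List.length_nil, List.map_map,
      Function.comp_def, List.map_const', List.sum_replicate, smul_eq_mul]
    omega
  refine le_trans ?_ hF
  rw [← Nat.card_eq_finsetCard]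
  refine Nat.card_le_card_of_injective (fun b : A => (⟨(b : G), ?_⟩ : F))
    fun x y h => Subtype.ext (congrArg (fun z : F => (z : G)) h)
  obtain ⟨b, hb⟩ := b
  have hc : comp (D.mon α) (D.mon ⟨b, hA hb⟩) = comp (D.mon ⟨b, hA hb⟩) (D.mon α) := by
    rw [← D.mon_mul, ← D.mon_mul]
    exact congrArg _ (Subtype.ext (hcomm a ha b hb).eq)
  have key : ∀ c ∈ A, ∀ hc : c ∈ D.H, D.mon ⟨c, hc⟩ = monOne → ∀ e ∈ ([c, a * c, a * a * c] : List G),
      e ∈ F := by
    intro c hc hcH h1 e he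
    obtain ⟨w, hw, rfl⟩ := hfix c hc hcH h1
    exact List.mem_toFinset.2 (List.mem_flatMap.2 ⟨_, List.mem_map.2 ⟨w, List.mem_filter.2
      ⟨mem_allVec w, decide_eq_true hw⟩, rfl⟩, he⟩)
  rcases comm_three _ _ (D.mon_detX α) (D.mon_detX ⟨b, hA hb⟩) (D.mon_three (h := α) (hexp a ha))
    (D.mon_three (h := ⟨b, hA hb⟩) (hexp b hb)) hc hm with h | h | h
  · exact key b hb (hA hb) h b (by simp)
  · have h1 : D.mon (α * α * ⟨b, hA hb⟩) = monOne := by
      rw [D.mon_mul, h, ← D.mon_mul]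
      rw [show α * α * α = 1 from Subtype.ext (by simpa [pow_succ, mul_assoc] using hexp a ha),
        D.mon_one]
    refine key _ (A.mul_mem (A.mul_mem ha ha) hb) (α * α * ⟨b, hA hb⟩).2 h1 b ?_
    have : a * (a * a * b) = b := by
      rw [← mul_assoc, ← mul_assoc, show a * a * a = a ^ 3 by simp [pow_succ, mul_assoc],
        hexp a ha, one_mul]
    simp [this]
  · have h1 : D.mon (α * ⟨b, hA hb⟩) = monOne := by
      rw [D.mon_mul, h, ← D.mon_mul, ← D.mon_mul]
      rw [show α * (α * α) = 1 from Subtype.ext (by simpa [pow_succ, mul_assoc] using hexp a ha),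
        D.mon_one]
    refine key _ (A.mul_mem ha hb) (α * ⟨b, hA hb⟩).2 h1 b ?_
    have : a * a * (a * b) = b := by
      rw [← mul_assoc, show a * a * a = a ^ 3 by simp [pow_succ, mul_assoc], hexp a ha, one_mul]
    simp [this]

theorem Cfg.card_J [Finite G] : Nat.card D.J = 27 := by
  have e : D.J ≃ V := ((Equiv.setCongr D.range_pt).symm).trans (Equiv.ofInjective D.pt D.pt_inj).symm
  rw [Nat.card_congr e, Nat.card_eq_fintype_card]
  rfl

theorem Cfg.J_comm {a b : G} (ha : a ∈ D.J) (hb : b ∈ D.J) : Commute a b := by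
  obtain ⟨v, rfl⟩ := D.exists_pt ha
  obtain ⟨w, rfl⟩ := D.exists_pt hb
  rw [Commute, SemiconjBy, ← D.pt_add, ← D.pt_add, add_comm]

theorem Cfg.J_cube {a : G} (ha : a ∈ D.J) : a ^ 3 = 1 := by
  obtain ⟨v, rfl⟩ := D.exists_pt ha
  have h : ∀ v : V, v + v + v = 0 := by decide +kernel
  have h0 : D.pt 0 = 1 := by
    have h := D.pt_add 0 0
    rw [add_zero] at h
    exact left_eq_mul.1 h
  rw [pow_succ, pow_two, ← D.pt_add, ← D.pt_add, h, h0]

/-- a conjugate of `J` inside the normaliser is `J` -/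
theorem Cfg.norms_of_conj_le [Finite G] {g : G} (hg : ∀ v, g * D.pt v * g⁻¹ ∈ D.H) :
    Norms D.pt g := by
  have hle : D.J.map (MulAut.conj g).toMonoidHom ≤ D.H := by
    rintro _ ⟨j, hj, rfl⟩
    obtain ⟨v, rfl⟩ := D.exists_pt hj
    exact hg v
  have hcard : Nat.card (D.J.map (MulAut.conj g).toMonoidHom) = 27 := by
    rw [Subgroup.card_map_of_injective (MulAut.conj g).injective, D.card_J]
  intro v
  rcases D.le_or_card_le _ hle
    (fun a ha b hb => by
      obtain ⟨x, hx, rfl⟩ := ha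
      obtain ⟨y, hy, rfl⟩ := hb
      exact (D.J_comm hx hy).map _)
    (fun a ha => by
      obtain ⟨x, hx, rfl⟩ := ha
      rw [← map_pow, D.J_cube hx, map_one]) with h | h
  · obtain ⟨w, hw⟩ := D.exists_pt (h ⟨D.pt v, D.pt_mem_J v, rfl⟩)
    exact ⟨w, hw.symm⟩
  · omega

/-- a subgroup of `3`-power order containing `J` normalises it -/
theorem Cfg.le_of_three_group [Finite G] (Q : Subgroup G) (hQ : IsPGroup 3 Q) (hJ : D.J ≤ Q) :
    Q ≤ D.H := by
  have : Fact (Nat.Prime 3) := ⟨Nat.prime_three⟩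
  have := hQ.isNilpotent
  by_contra hne
  have hlt : D.H.subgroupOf Q < ⊤ := lt_top_iff_ne_top.2 fun h =>
    hne (Subgroup.subgroupOf_eq_top.1 h)
  obtain ⟨y, hy, hy'⟩ := SetLike.exists_of_lt (Group.normalizerCondition_of_isNilpotent _ hlt)
  refine hy' (Subgroup.mem_subgroupOf.2 ((D.norms_iff (y : G)).1 (D.norms_of_conj_le fun v => ?_)))
  exact Subgroup.mem_subgroupOf.1 ((Subgroup.mem_normalizer_iff.1 hy
    ⟨D.pt v, hJ (D.pt_mem_J v)⟩).1 (Subgroup.mem_subgroupOf.2 (D.pt_mem v)))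

theorem Cfg.unique [Finite G] (Q : Subgroup G) (hQ : IsPGroup 3 Q) (hJ : ∀ v, D.pt v ∈ Q) (g : G)
    (hg : ∀ v, g * D.pt v * g⁻¹ ∈ Q) : Norms D.pt g :=
  D.norms_of_conj_le fun v => D.le_of_three_group Q hQ (fun j hj => by
    obtain ⟨w, rfl⟩ := D.exists_pt hj
    exact hJ w) (hg v)

theorem Cfg.orderOf_pt {v : V} (hv : v ≠ 0) : orderOf (D.pt v) = 3 := by
  have h0 : D.pt 0 = 1 := by
    have h := D.pt_add 0 0
    rw [add_zero] at h
    exact left_eq_mul.1 h
  exact orderOf_eq_prime (D.J_cube (D.pt_mem_J v)) fun h => hv (D.pt_inj (h.trans h0.symm))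

/-- the centraliser of a weight three element normalises `J` -/
theorem Cfg.norms_of_commute_x [Finite G] {g : G} (hg : Commute g (D.pt x0)) : Norms D.pt g := by
  have : Fact (Nat.Prime 3) := ⟨Nat.prime_three⟩
  set C := Subgroup.centralizer ({D.pt x0} : Set G) with hC
  have hJC : D.J ≤ C := fun j hj => Subgroup.mem_centralizer_singleton_iff.2
    (D.J_comm hj (D.pt_mem_J x0)).eq
  set P : Subgroup C := D.H.subgroupOf C with hP
  have hPp : IsPGroup 3 P := by
    refine IsPGroup.iff_orderOf.2 fun y => ?_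
    have hyH : ((y : C) : G) ∈ D.H := Subgroup.mem_subgroupOf.1 y.2
    have hfix : act (D.mon ⟨_, hyH⟩) x0 = x0 := D.pt_inj (by
      rw [← D.acts_mon ⟨_, hyH⟩ x0,
        Subgroup.mem_centralizer_singleton_iff.1 (y : C).2, mul_inv_cancel_right])
    have h3 : ((y : C) : G) ^ 3 ∈ D.J := by
      have := D.mem_of_mon (h := (⟨_, hyH⟩ : D.H) * (⟨_, hyH⟩ * ⟨_, hyH⟩)) (by
        rw [D.mon_mul, D.mon_mul, fix_x0_three _ (D.mon_detX _) hfix])
      simpa [pow_succ, mul_assoc] using this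
    have h9 : y ^ (3 ^ 2) = 1 := Subtype.ext (Subtype.ext (by
      have := D.J_cube h3
      rw [← pow_mul] at this
      simpa using this))
    obtain ⟨k, -, hk⟩ := (Nat.dvd_prime_pow Nat.prime_three).mp (orderOf_dvd_of_pow_eq_one h9)
    exact ⟨k, hk⟩
  obtain ⟨S, hS⟩ := hPp.exists_le_sylow
  have hJP : D.J.subgroupOf C ≤ P := fun j hj =>
    Subgroup.mem_subgroupOf.2 (D.le (Subgroup.mem_subgroupOf.1 hj))
  have hSP : (S : Subgroup C) = P := by
    refine le_antisymm (fun y hy => Subgroup.mem_subgroupOf.2 ?_) hS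
    exact D.le_of_three_group _ (S.isPGroup'.map C.subtype)
      (fun j hj => ⟨⟨j, hJC hj⟩, hS (hJP (Subgroup.mem_subgroupOf.2 hj)), rfl⟩) ⟨y, hy, rfl⟩
  -- the Thompson subgroup is `J`
  let S₀ : Subgroup C := (S : Subgroup C)
  let JS : Subgroup S₀ := (D.J.subgroupOf C).subgroupOf S₀
  have hJS : D.J.subgroupOf C ≤ S₀ := hJP.trans hS
  have hJScard : Nat.card JS = 27 := by
    rw [Nat.card_congr (Subgroup.subgroupOfEquivOfLe hJS).toEquiv,
      Nat.card_congr (Subgroup.subgroupOfEquivOfLe hJC).toEquiv, D.card_J]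
  have hJSel : Cfsg.IsElementaryAbelian 3 JS :=
    ⟨⟨⟨fun a b => Subtype.ext (Subtype.ext (Subtype.ext (D.J_comm a.2 b.2).eq))⟩⟩,
      fun a ha => Subtype.ext (Subtype.ext (by simpa using D.J_cube ha))⟩
  have hbound : ∀ B : Subgroup S₀, Cfsg.IsElementaryAbelian 3 B → B ≤ JS ∨ Nat.card B ≤ 9 := by
    intro B hB
    have hinj : Function.Injective (C.subtype.comp S₀.subtype) :=
      C.subtype_injective.comp S₀.subtype_injective
    rcases D.le_or_card_le (B.map (C.subtype.comp S₀.subtype))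
      (by
        rintro _ ⟨b, -, rfl⟩
        exact Subgroup.mem_subgroupOf.1 (hSP.le b.2))
      (fun a ha b hb => by
        obtain ⟨x, hx, rfl⟩ := ha
        obtain ⟨y, hy, rfl⟩ := hb
        exact (show Commute x y from congrArg Subtype.val
          (hB.1.is_comm.comm (⟨x, hx⟩ : B) ⟨y, hy⟩)).map _)
      (fun a ha => by
        obtain ⟨x, hx, rfl⟩ := ha
        rw [← map_pow, hB.2 x hx, map_one]) with h | h
    · exact Or.inl fun b hb => h ⟨b, hb, rfl⟩
    · rw [Subgroup.card_map_of_injective hinj] at h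
      exact Or.inr h
  have hset : Cfsg.maxElementaryAbelianSubgroups 3 S₀ = {JS} := by
    refine Set.eq_singleton_iff_unique_mem.2 ⟨⟨hJSel, fun B hB => ?_⟩, fun A hA => ?_⟩
    · rcases hbound B hB with h | h
      · exact Subgroup.card_le_of_le h
      · omega
    · have h27 := hA.2 JS hJSel
      rcases hbound A hA.1 with h | h
      · exact Subgroup.eq_of_le_of_card_ge h (by omega)
      · omega
  have hT : Cfsg.centerThompsonOf 3 S₀ = D.J.subgroupOf C := by
    have h1 : Cfsg.thompsonSubgroupOf 3 S₀ = D.J.subgroupOf C := by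
      rw [Cfsg.thompsonSubgroupOf, Cfsg.thompsonSubgroup, hset, sSup_singleton,
        Subgroup.map_subgroupOf_eq_of_le hJS]
    rw [Cfsg.centerThompsonOf, h1, inf_eq_left]
    exact fun a ha => Subgroup.mem_centralizer_iff.2 fun b hb => Subtype.ext
      (D.J_comm (Subgroup.mem_subgroupOf.1 hb) (Subgroup.mem_subgroupOf.1 ha)).eq
  have hN : IsPGroup 3 (Subgroup.normalizer (Cfsg.centerThompsonOf 3 S₀ : Set C)) := by
    refine hPp.to_le fun y hy => Subgroup.mem_subgroupOf.2 ((D.norms_iff _).1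
      (D.norms_of_conj_le fun v => ?_))
    rw [hT] at hy
    exact D.le (Subgroup.mem_subgroupOf.1 ((Subgroup.mem_normalizer_iff.1 hy
      ⟨D.pt v, hJC (D.pt_mem_J v)⟩).1 (Subgroup.mem_subgroupOf.2 (D.pt_mem_J v))))
  obtain ⟨R, K, hK, hc⟩ := CfsgLib.Complement.hasNormalPComplement_of_centerThompson (by norm_num)
    S ⟨⟨⊤, hN.of_equiv Subgroup.topEquiv.symm, fun _ h => top_le_iff.1 h⟩, ⊥, inferInstance,
      Subgroup.isComplement'_bot_top⟩
  have hKcop : (Nat.card K).Coprime 3 := by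
    rw [← hc.index_eq_card, Nat.coprime_comm]
    exact Nat.prime_three.coprime_iff_not_dvd.2 R.not_dvd_index
  have hK1 : K = ⊥ := le_bot_iff.1 ((D.cores _ (D.pt_mem_J x0) (D.orderOf_pt (by decide))).le.trans'
    (le_sSup ⟨hK, hKcop⟩))
  have hR : (R : Subgroup C) = ⊤ := by
    have := hc.sup_eq_top
    rwa [hK1, bot_sup_eq] at this
  have hCp : IsPGroup 3 C := by
    have := R.isPGroup'
    rw [hR] at this
    exact this.of_equiv Subgroup.topEquiv
  exact (D.norms_iff g).2 (D.le_of_three_group C hCp hJC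
    (Subgroup.mem_centralizer_singleton_iff.2 hg.eq))

end CfsgLib.Recog.AltNine
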